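import Cfsg.Agent.OddHalf.D5.SixAut.DblNorm
import Cfsg.Agent.OddHalf.D5.SixAut.HsxDefs

-- merged: Cfsg.Agent.OddHalf.D5.SixAut.DblOneInst
section

/-!
# ODD D5, `K = A₆`, `C(x)/⟨x⟩ = Aut(A₆)`, case (DBL), `e = 1`: the instance of `DblOne.Cfg` (helper314)
-/

set_option autoImplicit false
set_option linter.unusedSectionVars false

namespace Cfsg.Agent.OddHalf.D5.SixAut.DblNorm

open Subgroup Equiv

variable {G : Type*} [Group G]

/-- the subgroup generated by two commuting elements -/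
def duo (σ τ : G) (h1 : Commute σ τ) : Subgroup G where
  carrier := {g | ∃ i j : ℤ, g = σ ^ i * τ ^ j}
  one_mem' := ⟨0, 0, by simp⟩
  mul_mem' := by
    rintro _ _ ⟨i, j, rfl⟩ ⟨i', j', rfl⟩
    refine ⟨i + i', j + j', ?_⟩
    rw [zpow_add, zpow_add, mul_assoc, ← mul_assoc (τ ^ j), ← (h1.zpow_zpow i' j).eq]
    simp only [mul_assoc]
  inv_mem' := by
    rintro _ ⟨i, j, rfl⟩
    refine ⟨-i, -j, ?_⟩
    rw [mul_inv_rev, ← zpow_neg, ← zpow_neg, (h1.zpow_zpow (-i) (-j)).eq]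

/-- the subgroup generated by three commuting elements -/
def tri (σ τ w : G) (h1 : Commute σ τ) (h2 : Commute σ w) (h3 : Commute τ w) : Subgroup G where
  carrier := {g | ∃ i j k : ℤ, g = σ ^ i * τ ^ j * w ^ k}
  one_mem' := ⟨0, 0, 0, by simp⟩
  mul_mem' := by
    rintro _ _ ⟨i, j, k, rfl⟩ ⟨i', j', k', rfl⟩
    refine ⟨i + i', j + j', k + k', ?_⟩
    have e1 := (h1.zpow_zpow i' j).eq
    have e2 := (h2.zpow_zpow i' k).eq
    have e3 := (h3.zpow_zpow j' k).eq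
    rw [zpow_add, zpow_add, zpow_add]
    calc σ ^ i * τ ^ j * w ^ k * (σ ^ i' * τ ^ j' * w ^ k')
        = σ ^ i * τ ^ j * (w ^ k * σ ^ i') * τ ^ j' * w ^ k' := by simp only [mul_assoc]
      _ = σ ^ i * (τ ^ j * σ ^ i') * (w ^ k * τ ^ j') * w ^ k' := by rw [← e2]; simp only [mul_assoc]
      _ = _ := by rw [← e1, ← e3]; simp only [mul_assoc]
  inv_mem' := by
    rintro _ ⟨i, j, k, rfl⟩
    refine ⟨-i, -j, -k, ?_⟩
    have e1 := (h1.zpow_zpow (-i) (-j)).eq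
    have e2 := (h2.zpow_zpow (-i) (-k)).eq
    have e3 := (h3.zpow_zpow (-j) (-k)).eq
    rw [mul_inv_rev, mul_inv_rev, ← zpow_neg, ← zpow_neg, ← zpow_neg]
    calc w ^ (-k) * (τ ^ (-j) * σ ^ (-i)) = w ^ (-k) * σ ^ (-i) * τ ^ (-j) := by rw [← e1, mul_assoc]
      _ = σ ^ (-i) * (w ^ (-k) * τ ^ (-j)) := by rw [← e2]; simp only [mul_assoc]
      _ = _ := by rw [← e3]; simp only [mul_assoc]

theorem zpow_cases {a : G} (h : a * a = 1) (i : ℤ) : a ^ i = 1 ∧ Even i ∨ a ^ i = a ∧ Odd i := by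
  rcases Int.even_or_odd i with hi | hi
  · left
    obtain ⟨j, rfl⟩ := hi
    refine ⟨?_, ⟨j, rfl⟩⟩
    rw [zpow_add, ← (Commute.refl a).mul_zpow, h, one_zpow]
  · right
    refine ⟨?_, hi⟩
    obtain ⟨j, rfl⟩ := hi
    rw [zpow_add, zpow_one, two_mul, zpow_add, ← (Commute.refl a).mul_zpow, h, one_zpow, one_mul]

variable {x r : G} {ι : Perm (Fin 6) →* G} {s b : G}

theorem CL_mul {p q : Perm (Fin 6)} (hp : CL p) (hq : CL q) : CL (p * q) :=
  ⟨CU_mul hp.1 hq.1, by rw [mul_assoc, hq.2, ← mul_assoc, hp.2, mul_assoc]⟩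

theorem CL_f : CL pf := ⟨CU_f, fv2⟩
theorem CL_z : CL pz := ⟨CU_z, zv2⟩
theorem CL_one : CL 1 := ⟨CU_one, by rw [one_mul, mul_one]⟩

theorem inL {q : Perm (Fin 6)} (hq : CL q) : DblOne.InL (ι pz) (ι pf) (ι q) := by
  rcases CL_eq hq with rfl | rfl | rfl | rfl
  · left; rw [map_one]
  · right; left; rfl
  · right; right; left; rfl
  · right; right; right; rw [map_mul]

theorem CU_cases : ∀ q, CU q → CL q ∨ CL (pv1 * q) := by
  have : ∀ q : Perm (Fin 6), CU q → q * pv2 = pv2 * q ∨ pv1 * q * pv2 = pv2 * (pv1 * q) := by decide +kernel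
  intro q hq
  rcases this q hq with h | h
  · exact Or.inl ⟨hq, h⟩
  · exact Or.inr ⟨CU_mul CU_v1 hq, h⟩

/-- `e = 1` -/
structure NrmOne (x r : G) (ι : Perm (Fin 6) →* G) (s b : G) : Prop extends Nrm x r ι s b where
  sb : s * b * s⁻¹ = b * ι (pf * pz)
  rb : ∃ q, CL q ∧ r * b * r⁻¹ = b * s * (x * ι q)

section One

variable (h : AutSpl x ι r) (N : NrmOne x r ι s b)
include h N

theorem sx : s * x = x * ι pz * s := mul_inv_eq_iff_eq_mul.1 N.ms.x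
theorem bx : b * x = x * ι pf * b := mul_inv_eq_iff_eq_mul.1 N.mb.x

theorem στ : Commute (x * s) (x * b) := by
  show x * s * (x * b) = x * b * (x * s)
  have h1 : s * b = b * ι (pf * pz) * s := mul_inv_eq_iff_eq_mul.1 N.sb
  calc x * s * (x * b) = x * (s * x) * b := by group
    _ = (x * x) * ι pz * (s * b) := by rw [sx h N]; group
    _ = ι pz * (b * ι (pf * pz)) * s := by rw [h.xx, h1]; group
    _ = ι pz * (ι (pf * pz) * b) * s := by rw [N.mb.toMv.comm (CU_mul CU_f CU_z)]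
    _ = ι (pz * (pf * pz)) * b * s := by rw [map_mul ι pz]; group
    _ = ι pf * b * s := by rw [fz, ← mul_assoc, zz, one_mul]
    _ = (x * x) * ι pf * b * s := by rw [h.xx, one_mul]
    _ = x * (b * x) * s := by rw [bx h N]; group
    _ = _ := by group

theorem σσ : x * s * (x * s) = ι pz := by
  calc x * s * (x * s) = x * (s * x) * s := by group
    _ = (x * x) * ι pz * (s * s) := by rw [sx h N]; group
    _ = ι pz := by rw [h.xx, N.ss, one_mul, mul_one]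

theorem ττ : x * b * (x * b) = ι pf := by
  calc x * b * (x * b) = x * (b * x) * b := by group
    _ = (x * x) * ι pf * (b * b) := by rw [bx h N]; group
    _ = ι pf := by rw [h.xx, N.bb, one_mul, mul_one]

theorem mσ : Mw x ι (x * s) pz := by
  have := (mw_x h).mul N.ms CU_z
  rwa [one_mul] at this

theorem mτ : Mw x ι (x * b) pf := by
  have := (mw_x h).mul N.mb CU_f
  rwa [one_mul] at this

theorem τc : x * b * ι pc = ι pc * (x * b) := by
  rw [mul_assoc, N.bc, ← mul_assoc, h.comm, mul_assoc]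

/-- `w = c⁻¹ σ c` -/
theorem mv_c' {g : G} {p : Perm (Fin 6)} (m : Mv x ι g p) : Mv x ι ((ι pc)⁻¹ * g * ι pc) (pc⁻¹ * p * pc) := by
  have m2 := mv_c h (mv_c h m)
  have e1 : ι pc * (ι pc * g * (ι pc)⁻¹) * (ι pc)⁻¹ = (ι pc)⁻¹ * g * ι pc := by
    have e2 : ι pc * ι pc = (ι pc)⁻¹ := eq_inv_of_mul_eq_one_left (iccc h)
    calc ι pc * (ι pc * g * (ι pc)⁻¹) * (ι pc)⁻¹ = ι pc * ι pc * g * (ι pc * ι pc)⁻¹ := by group
      _ = _ := by rw [e2, inv_inv]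
  have e3 : pc * (pc * p * pc⁻¹) * pc⁻¹ = pc⁻¹ * p * pc := by
    have e2 : pc * pc = pc⁻¹ := eq_inv_of_mul_eq_one_left ccc
    calc pc * (pc * p * pc⁻¹) * pc⁻¹ = pc * pc * p * (pc * pc)⁻¹ := by group
      _ = _ := by rw [e2, inv_inv]
  rw [e1, e3] at m2
  exact m2

theorem mvw : Mv x ι ((ι pc)⁻¹ * (x * s) * ι pc) pv1 := by
  have := mv_c' h N (mσ h N).toMv
  rwa [cz'] at this

theorem mvw₂ : Mv x ι (ι pc * (x * s) * (ι pc)⁻¹) (pz * pv1) := by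
  have := mv_c h (mσ h N).toMv
  rwa [cz] at this

theorem τ_w : Commute (x * b) ((ι pc)⁻¹ * (x * s) * ι pc) := by
  have h1 : Commute (x * b) (ι pc) := τc h N
  exact (h1.inv_right.mul_right (στ h N).symm).mul_right h1

theorem τ_w₂ : Commute (x * b) (ι pc * (x * s) * (ι pc)⁻¹) := by
  have h1 : Commute (x * b) (ι pc) := τc h N
  exact (h1.mul_right (στ h N).symm).mul_right h1.inv_right

/-- `σ w w₂ ∈ U₁` -/
theorem exists_q : ∃ q, CU q ∧ x * s * ((ι pc)⁻¹ * (x * s) * ι pc) * (ι pc * (x * s) * (ι pc)⁻¹) = ι q := by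
  have m := ((mσ h N).toMv.mul (mvw h N) CU_v1).mul (mvw₂ h N) (CU_mul CU_z CU_v1)
  have e1 : pz * pv1 * (pz * pv1) = 1 := CU_sq _ (CU_mul CU_z CU_v1)
  rw [e1] at m
  have hx := m.x
  rw [map_one, mul_one] at hx
  obtain ⟨q, hq, e | e⟩ := cent_U h m (mul_inv_eq_iff_eq_mul.1 hx)
  · exact ⟨q, hq, e⟩
  · exfalso
    have h1 : Commute (x * b) (x * ι q) := by
      rw [← e]
      exact ((στ h N).symm.mul_right (τ_w h N)).mul_right (τ_w₂ h N)
    have h2 : Commute (x * b) (ι q) := (mτ h N).toMv.comm hq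
    have h3 : Commute (x * b) x := by
      have h4 := h1.mul_right h2.inv_right
      rwa [mul_inv_cancel_right] at h4
    have h5 := (mτ h N).x
    rw [h3.eq, mul_inv_cancel_right] at h5
    exact f_ne (h.one_iff.1 (mul_left_cancel (h5.symm.trans (mul_one x).symm)))

theorem ww : (ι pc)⁻¹ * (x * s) * ι pc * ((ι pc)⁻¹ * (x * s) * ι pc) = ι pv1 := by
  calc (ι pc)⁻¹ * (x * s) * ι pc * ((ι pc)⁻¹ * (x * s) * ι pc) = (ι pc)⁻¹ * (x * s * (x * s)) * ι pc := by group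
    _ = ι (pc⁻¹ * pz * pc) := by rw [σσ h N, map_mul, map_mul, map_inv]
    _ = ι pv1 := by rw [cz']

theorem ww₂ : ι pc * (x * s) * (ι pc)⁻¹ * (ι pc * (x * s) * (ι pc)⁻¹) = ι (pz * pv1) := by
  calc ι pc * (x * s) * (ι pc)⁻¹ * (ι pc * (x * s) * (ι pc)⁻¹) = ι pc * (x * s * (x * s)) * (ι pc)⁻¹ := by group
    _ = ι (pc * pz * pc⁻¹) := by rw [σσ h N, map_mul, map_mul, map_inv]
    _ = ι (pz * pv1) := by rw [cz]

/-- `σ` and `w` commute -/
theorem σ_w : Commute (x * s) ((ι pc)⁻¹ * (x * s) * ι pc) := by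
  obtain ⟨q, hq, e⟩ := exists_q h N
  obtain ⟨σ, hσ⟩ : ∃ σ, σ = x * s := ⟨_, rfl⟩
  obtain ⟨w, hw⟩ : ∃ w, w = (ι pc)⁻¹ * (x * s) * ι pc := ⟨_, rfl⟩
  obtain ⟨w₂, hw₂⟩ : ∃ w₂, w₂ = ι pc * (x * s) * (ι pc)⁻¹ := ⟨_, rfl⟩
  have e2 := σσ h N
  have e3 := ww h N
  have e4 := ww₂ h N
  have e5 := (mvw₂ h N).comm hq
  rw [← hw, ← hw₂, ← hσ] at e
  rw [← hσ] at e2
  rw [← hw] at e3
  rw [← hw₂] at e4 e5
  rw [← hw, ← hσ]
  -- `σ w = ι q w₂⁻¹`
  have e6 : σ * w = ι q * w₂⁻¹ := by rw [← e, mul_inv_cancel_right]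
  have e7 : σ * w * (σ * w) = ι (pz * pv1) := by
    have e8 : Commute w₂ (ι q) := e5
    rw [e6]
    calc ι q * w₂⁻¹ * (ι q * w₂⁻¹) = ι q * (w₂⁻¹ * ι q) * w₂⁻¹ := by group
      _ = ι q * ι q * (w₂ * w₂)⁻¹ := by rw [e8.inv_left.eq]; group
      _ = ι (pz * pv1) := by
        rw [← map_mul, CU_sq q hq, map_one, one_mul, e4, ← map_inv,
          inv_eq_of_mul_eq_one_right (CU_sq _ (CU_mul CU_z CU_v1))]
  have e9 : σ * w * (σ * w) = σ * σ * (w * w) := by rw [e7, e2, e3, map_mul]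
  have e10 : σ * (w * σ) * w = σ * (σ * w) * w := by
    calc σ * (w * σ) * w = σ * w * (σ * w) := by group
      _ = _ := by rw [e9]; group
  exact (mul_left_cancel (mul_right_cancel e10)).symm

theorem x_inv_conj {g : G} (hg : x * g * x = g⁻¹) (i : ℤ) : x * g ^ i * x = (g ^ i)⁻¹ := by
  have hx := h.x_inv
  have h1 : MulAut.conj x g = g⁻¹ := by rw [MulAut.conj_apply, hx, hg]
  have h2 : MulAut.conj x (g ^ i) = (g ^ i)⁻¹ := by rw [map_zpow, h1, inv_zpow]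
  rwa [MulAut.conj_apply, hx] at h2

theorem s_inv : s⁻¹ = s := inv_eq_of_mul_eq_one_right N.ss
theorem b_inv : b⁻¹ = b := inv_eq_of_mul_eq_one_right N.bb

theorem xσ : x * (x * s) * x = (x * s)⁻¹ := by
  rw [← mul_assoc, h.xx, one_mul, mul_inv_rev, h.x_inv, s_inv h N]

theorem xτ : x * (x * b) * x = (x * b)⁻¹ := by
  rw [← mul_assoc, h.xx, one_mul, mul_inv_rev, h.x_inv, b_inv h N]

theorem xw : x * ((ι pc)⁻¹ * (x * s) * ι pc) * x = ((ι pc)⁻¹ * (x * s) * ι pc)⁻¹ := by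
  have h1 := h.comm pc
  have h2 : x * (ι pc)⁻¹ = (ι pc)⁻¹ * x := by rw [← map_inv, h.comm]
  calc x * ((ι pc)⁻¹ * (x * s) * ι pc) * x = x * (ι pc)⁻¹ * (x * s) * (ι pc * x) := by group
    _ = (ι pc)⁻¹ * (x * (x * s) * x) * ι pc := by rw [h2, ← h1]; group
    _ = (ι pc)⁻¹ * (x * s)⁻¹ * ι pc := by rw [xσ h N]
    _ = _ := by group

/-- a product with square one -/
theorem sq_duo {i j k : ℤ} (e : ι pz ^ i * ι pf ^ j * ι pv1 ^ k = 1) : Even i ∧ Even j ∧ Even k := by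
  have hz : ι pz * ι pz = 1 := by rw [← map_mul, zz, map_one]
  have hf : ι pf * ι pf = 1 := by rw [← map_mul, ff, map_one]
  have hv : ι pv1 * ι pv1 = 1 := by rw [← map_mul, v11, map_one]
  have hne : pz ≠ 1 ∧ pf ≠ 1 ∧ pv1 ≠ 1 ∧ pz * pf ≠ 1 ∧ pz * pv1 ≠ 1 ∧ pf * pv1 ≠ 1 ∧ pz * pf * pv1 ≠ 1 := by
    decide +kernel
  obtain ⟨n1, n2, n3, n4, n5, n6, n7⟩ := hne
  rcases zpow_cases hz i with ⟨e1, i1⟩ | ⟨e1, i1⟩ <;> rcases zpow_cases hf j with ⟨e2, i2⟩ | ⟨e2, i2⟩ <;>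
    rcases zpow_cases hv k with ⟨e3, i3⟩ | ⟨e3, i3⟩ <;> rw [e1, e2, e3] at e
  · exact ⟨i1, i2, i3⟩
  · rw [one_mul, one_mul] at e; exact absurd (h.one_iff.1 e) n3
  · rw [one_mul, mul_one] at e; exact absurd (h.one_iff.1 e) n2
  · rw [one_mul, ← map_mul] at e; exact absurd (h.one_iff.1 e) n6
  · rw [mul_one, mul_one] at e; exact absurd (h.one_iff.1 e) n1
  · rw [mul_one, ← map_mul] at e; exact absurd (h.one_iff.1 e) n5
  · rw [mul_one, ← map_mul] at e; exact absurd (h.one_iff.1 e) n4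
  · rw [← map_mul, ← map_mul] at e; exact absurd (h.one_iff.1 e) n7

/-- the group `A = U₁*` -/
def AA : Subgroup G := tri (x * s) (x * b) ((ι pc)⁻¹ * (x * s) * ι pc) (στ h N) (σ_w h N) (τ_w h N)

/-- the group `L = l*` -/
def LL : Subgroup G := duo (x * s) (x * b) (στ h N)

omit h N in
theorem zpow_sq {a c : G} (e : a * a = c) (i : ℤ) : a ^ i * a ^ i = c ^ i := by
  rw [← (Commute.refl a).mul_zpow, e]

omit h N in
theorem tri_sq {σ τ w a b c : G} (h1 : Commute σ τ) (h2 : Commute σ w) (h3 : Commute τ w) (ea : σ * σ = a)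
    (eb : τ * τ = b) (ec : w * w = c) (i j k : ℤ) :
    σ ^ i * τ ^ j * w ^ k * (σ ^ i * τ ^ j * w ^ k) = a ^ i * b ^ j * c ^ k := by
  rw [← zpow_sq ea, ← zpow_sq eb, ← zpow_sq ec]
  have e1 := (h1.zpow_zpow i j).eq
  have e2 := (h2.zpow_zpow i k).eq
  have e3 := (h3.zpow_zpow j k).eq
  calc σ ^ i * τ ^ j * w ^ k * (σ ^ i * τ ^ j * w ^ k)
      = σ ^ i * τ ^ j * (w ^ k * σ ^ i) * τ ^ j * w ^ k := by simp only [mul_assoc]
    _ = σ ^ i * (τ ^ j * σ ^ i) * (w ^ k * τ ^ j) * w ^ k := by rw [← e2]; simp only [mul_assoc]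
    _ = _ := by rw [← e1, ← e3]; simp only [mul_assoc]

omit h N in
theorem tri_comm {σ τ w : G} (h1 : Commute σ τ) (h2 : Commute σ w) (h3 : Commute τ w) {a a' : G}
    (ha : a ∈ tri σ τ w h1 h2 h3) (ha' : a' ∈ tri σ τ w h1 h2 h3) : a * a' = a' * a := by
  obtain ⟨i, j, k, rfl⟩ := ha
  obtain ⟨i', j', k', rfl⟩ := ha'
  have s1 : Commute (σ ^ i * τ ^ j * w ^ k) σ :=
    ((((Commute.refl σ).zpow_left i).mul_left (h1.symm.zpow_left j)).mul_left (h2.symm.zpow_left k))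
  have s2 : Commute (σ ^ i * τ ^ j * w ^ k) τ :=
    (((h1.zpow_left i).mul_left ((Commute.refl τ).zpow_left j)).mul_left (h3.symm.zpow_left k))
  have s3 : Commute (σ ^ i * τ ^ j * w ^ k) w :=
    (((h2.zpow_left i).mul_left (h3.zpow_left j)).mul_left ((Commute.refl w).zpow_left k))
  exact (((s1.zpow_right i').mul_right (s2.zpow_right j')).mul_right (s3.zpow_right k')).eq

omit h N in
theorem CU_zpow {p : Perm (Fin 6)} (hp : CU p) (i : ℤ) : CU (p ^ i) := by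
  rcases zpow_cases (CU_sq p hp) i with ⟨e, -⟩ | ⟨e, -⟩
  · rw [e]; exact CU_one
  · rw [e]; exact hp

omit h N in
theorem CL_zpow {p : Perm (Fin 6)} (hp : CL p) (i : ℤ) : CL (p ^ i) := by
  rcases zpow_cases (CU_sq p hp.1) i with ⟨e, -⟩ | ⟨e, -⟩
  · rw [e]; exact CL_one
  · rw [e]; exact hp

theorem zL : ι pz ∈ LL h N := ⟨2, 0, by rw [zpow_zero, mul_one, zpow_two, σσ h N]⟩
theorem fL : ι pf ∈ LL h N := ⟨0, 2, by rw [zpow_zero, one_mul, zpow_two, ττ h N]⟩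
theorem σL : x * s ∈ LL h N := ⟨1, 0, by rw [zpow_zero, mul_one, zpow_one]⟩
theorem τL : x * b ∈ LL h N := ⟨0, 1, by rw [zpow_zero, one_mul, zpow_one]⟩

theorem LA : LL h N ≤ AA h N := by
  rintro _ ⟨i, j, rfl⟩
  exact ⟨i, j, 0, by rw [zpow_zero, mul_one]⟩

theorem wA : (ι pc)⁻¹ * (x * s) * ι pc ∈ AA h N := ⟨0, 0, 1, by rw [zpow_zero, zpow_zero, zpow_one, one_mul, one_mul]⟩

theorem ιL {q : Perm (Fin 6)} (hq : CL q) : ι q ∈ LL h N := by
  rcases CL_eq hq with rfl | rfl | rfl | rfl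
  · rw [map_one]; exact one_mem _
  · exact zL h N
  · exact fL h N
  · rw [map_mul]; exact mul_mem (fL h N) (zL h N)

theorem ιA {q : Perm (Fin 6)} (hq : CU q) : ι q ∈ AA h N := by
  have hv : ι pv1 ∈ AA h N := by rw [← ww h N]; exact mul_mem (wA h N) (wA h N)
  rcases CU_cases q hq with h1 | h1
  · exact LA h N (ιL h N h1)
  · have h2 : ι q = ι pv1 * ι (pv1 * q) := by rw [← map_mul, ← mul_assoc, v11, one_mul]
    rw [h2]
    exact mul_mem hv (LA h N (ιL h N h1))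

theorem Aom (a : G) (ha : a ∈ AA h N) (ha2 : a * a = 1) :
    DblOne.InL (ι pz) (ι pf) a ∨ ∃ c, DblOne.InL (ι pz) (ι pf) c ∧ a = ι pv1 * c := by
  obtain ⟨i, j, k, rfl⟩ := ha
  rw [tri_sq (στ h N) (σ_w h N) (τ_w h N) (σσ h N) (ττ h N) (ww h N)] at ha2
  obtain ⟨⟨i, rfl⟩, ⟨j, rfl⟩, ⟨k, rfl⟩⟩ := sq_duo h N ha2
  rw [zpow_add, zpow_add, zpow_add, zpow_sq (σσ h N), zpow_sq (ττ h N), zpow_sq (ww h N), ← map_zpow, ← map_zpow,
    ← map_zpow, ← map_mul, ← map_mul]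
  have hq : CU (pz ^ i * pf ^ j * pv1 ^ k) :=
    CU_mul (CU_mul (CU_zpow CU_z i) (CU_zpow CU_f j)) (CU_zpow CU_v1 k)
  rcases CU_cases _ hq with h1 | h1
  · exact Or.inl (inL h1)
  · refine Or.inr ⟨_, inL h1, ?_⟩
    rw [← map_mul, ← mul_assoc, v11, one_mul]

theorem Lom (a : G) (ha : a ∈ LL h N) (ha2 : a * a = 1) : DblOne.InL (ι pz) (ι pf) a := by
  obtain ⟨i, j, rfl⟩ := ha
  have h1 := tri_sq (στ h N) (σ_w h N) (τ_w h N) (σσ h N) (ττ h N) (ww h N) i j 0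
  rw [zpow_zero, mul_one, ha2] at h1
  obtain ⟨⟨i, rfl⟩, ⟨j, rfl⟩, -⟩ := sq_duo h N h1.symm
  rw [zpow_add, zpow_add, zpow_sq (σσ h N), zpow_sq (ττ h N), ← map_zpow, ← map_zpow, ← map_mul]
  exact inL (CL_mul (CL_zpow CL_z i) (CL_zpow CL_f j))

theorem v22' : ι pv2 * ι pv2 = 1 := by rw [← map_mul, v22, map_one]

theorem v2_conj_zpow (g : G) (i : ℤ) : ι pv2 * g ^ i * ι pv2 = (ι pv2 * g * ι pv2) ^ i := by
  have hv : (ι pv2)⁻¹ = ι pv2 := inv_eq_of_mul_eq_one_right (v22' h N)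
  have h2 : MulAut.conj (ι pv2) (g ^ i) = (MulAut.conj (ι pv2) g) ^ i := map_zpow _ _ _
  rwa [MulAut.conj_apply, MulAut.conj_apply, hv] at h2

theorem v2_fix {g : G} (hg : g * ι pv2 = ι pv2 * g) : ι pv2 * g * ι pv2 = g := by
  rw [← hg, mul_assoc, v22' h N, mul_one]

theorem v2w : ι pv2 * ((ι pc)⁻¹ * (x * s) * ι pc) * ι pv2 ∈ AA h N := by
  obtain ⟨q, hq, e⟩ := exists_q h N
  have h1 : ι pv2 * ι pc * ι pv2 = (ι pc)⁻¹ := by rw [← map_mul, ← map_mul, v2c, map_inv]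
  have hv : (ι pv2)⁻¹ = ι pv2 := inv_eq_of_mul_eq_one_right (v22' h N)
  have h2 : ι pv2 * (ι pc)⁻¹ * ι pv2 = ι pc := by
    rw [← h1]
    calc ι pv2 * (ι pv2 * ι pc * ι pv2) * ι pv2 = (ι pv2 * ι pv2) * ι pc * (ι pv2 * ι pv2) := by group
      _ = ι pc := by rw [v22' h N]; group
  have h3 : ι pv2 * ((ι pc)⁻¹ * (x * s) * ι pc) * ι pv2 = ι pc * (x * s) * (ι pc)⁻¹ := by
    calc ι pv2 * ((ι pc)⁻¹ * (x * s) * ι pc) * ι pv2
        = ι pv2 * (ι pc)⁻¹ * (ι pv2 * (ι pv2)⁻¹) * (x * s) * ((ι pv2)⁻¹ * ι pv2) * ι pc * ι pv2 := by group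
      _ = ι pv2 * (ι pc)⁻¹ * ι pv2 * (ι pv2 * (x * s) * ι pv2) * (ι pv2 * ι pc * ι pv2) := by
          rw [hv]; simp only [mul_assoc]
      _ = ι pc * (x * s) * (ι pc)⁻¹ := by rw [h2, v2_fix h N (mσ h N).v2, h1]
  have h4 : ι pc * (x * s) * (ι pc)⁻¹ = (x * s * ((ι pc)⁻¹ * (x * s) * ι pc))⁻¹ * ι q := by
    rw [← e, inv_mul_cancel_left]
  rw [h3, h4]
  exact mul_mem (inv_mem (mul_mem (LA h N (σL h N)) (wA h N))) (ιA h N hq)

theorem Av₂ (a : G) (ha : a ∈ AA h N) : ι pv2 * a * ι pv2 ∈ AA h N := by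
  obtain ⟨i, j, k, rfl⟩ := ha
  have e : ι pv2 * ((x * s) ^ i * (x * b) ^ j * ((ι pc)⁻¹ * (x * s) * ι pc) ^ k) * ι pv2 =
      (ι pv2 * (x * s) ^ i * ι pv2) * (ι pv2 * (x * b) ^ j * ι pv2) *
        (ι pv2 * ((ι pc)⁻¹ * (x * s) * ι pc) ^ k * ι pv2) := by
    have hv := v22' h N
    calc ι pv2 * ((x * s) ^ i * (x * b) ^ j * ((ι pc)⁻¹ * (x * s) * ι pc) ^ k) * ι pv2
        = ι pv2 * (x * s) ^ i * 1 * (x * b) ^ j * 1 * ((ι pc)⁻¹ * (x * s) * ι pc) ^ k * ι pv2 := by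
          simp only [mul_assoc, mul_one]
      _ = _ := by rw [← hv]; simp only [mul_assoc]
  rw [e, v2_conj_zpow h N, v2_conj_zpow h N, v2_conj_zpow h N, v2_fix h N (mσ h N).v2, v2_fix h N (mτ h N).v2]
  exact mul_mem (mul_mem (zpow_mem (LA h N (σL h N)) i) (zpow_mem (LA h N (τL h N)) j)) (zpow_mem (v2w h N) k)

theorem xL (m : G) (hm : m ∈ LL h N) : x * m * x = m⁻¹ := by
  obtain ⟨i, j, rfl⟩ := hm
  calc x * ((x * s) ^ i * (x * b) ^ j) * x = x * (x * s) ^ i * (x * x) * (x * b) ^ j * x := by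
        rw [h.xx]; group
    _ = (x * (x * s) ^ i * x) * (x * (x * b) ^ j * x) := by group
    _ = ((x * s) ^ i)⁻¹ * ((x * b) ^ j)⁻¹ := by
        rw [x_inv_conj h N (xσ h N), x_inv_conj h N (xτ h N)]
    _ = ((x * s) ^ i * (x * b) ^ j)⁻¹ := by
        rw [mul_inv_rev, ← zpow_neg, ← zpow_neg, ((στ h N).zpow_zpow (-i) (-j)).eq]

omit h N in
theorem CL_θ {q : Perm (Fin 6)} (hq : CL q) : CL (θ q) := by
  rcases CL_eq hq with rfl | rfl | rfl | rfl
  · rw [map_one]; exact CL_one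
  · rw [θ_z]; exact CL_z
  · rw [θ_f]; exact CL_mul CL_f CL_z
  · rw [θ_fz]; exact CL_f

theorem rL (m : G) (hm : m ∈ LL h N) : r⁻¹ * m * r ∈ LL h N := by
  have rix : r⁻¹ * x * r = x := by rw [mul_assoc, ← h.rx, inv_mul_cancel_left]
  have rxi : r * x * r⁻¹ = x := by rw [h.rx, mul_inv_cancel_right]
  have h1 : r⁻¹ * (x * s) * r ∈ LL h N := by
    obtain ⟨q, hq, e⟩ := N.rs
    have e2 : r * (x * s) * r⁻¹ = x * s * ι q := by
      calc r * (x * s) * r⁻¹ = r * x * r⁻¹ * (r * s * r⁻¹) := by group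
        _ = _ := by rw [rxi, e, mul_assoc]
    have e3 : r⁻¹ * (x * s) * r = x * s * (r⁻¹ * ι q * r)⁻¹ := by
      have : x * s = r⁻¹ * (x * s) * r * (r⁻¹ * ι q * r) := by
        calc x * s = r⁻¹ * (r * (x * s) * r⁻¹) * r := by group
          _ = _ := by rw [e2]; group
      nth_rw 2 [this]
      group
    rw [e3, h.rι_inv]
    exact mul_mem (σL h N) (inv_mem (ιL h N (CL_θ hq)))
  have h2 : r⁻¹ * (x * b) * r ∈ LL h N := by
    obtain ⟨q, hq, e⟩ := N.rb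
    have e2 : r * (x * b) * r⁻¹ = x * b * (x * s)⁻¹ * ι q := by
      calc r * (x * b) * r⁻¹ = r * x * r⁻¹ * (r * b * r⁻¹) := by group
        _ = x * b * (s * x) * ι q := by rw [rxi, e]; group
        _ = _ := by rw [mul_inv_rev, h.x_inv, s_inv h N]
    have e3 : r⁻¹ * (x * b) * r = x * b * (r⁻¹ * ι q * r)⁻¹ * (r⁻¹ * (x * s) * r) := by
      have : x * b = r⁻¹ * (x * b) * r * (r⁻¹ * (x * s) * r)⁻¹ * (r⁻¹ * ι q * r) := by
        calc x * b = r⁻¹ * (r * (x * b) * r⁻¹) * r := by group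
          _ = _ := by rw [e2]; group
      nth_rw 2 [this]
      group
    rw [e3, h.rι_inv]
    exact mul_mem (mul_mem (τL h N) (inv_mem (ιL h N (CL_θ hq)))) h1
  obtain ⟨i, j, rfl⟩ := hm
  have e : r⁻¹ * ((x * s) ^ i * (x * b) ^ j) * r = (r⁻¹ * (x * s) * r) ^ i * (r⁻¹ * (x * b) * r) ^ j := by
    have k1 : ∀ (g : G) (n : ℤ), (r⁻¹ * g * r) ^ n = r⁻¹ * g ^ n * r := by
      intro g n
      have := (map_zpow (MulAut.conj r⁻¹) g n).symm
      simpa [MulAut.conj_apply] using this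
    rw [k1, k1]; group
  rw [e]
  exact mul_mem (zpow_mem h1 i) (zpow_mem h2 j)

theorem bK (k : G) (hk : k ∈ ι.range) (hf : k * ι pf = ι pf * k) : k * b = b * k := by
  obtain ⟨p, rfl⟩ := hk
  obtain ⟨i, j, k, l, m, rfl⟩ := cent_f p (h.comm_ι.1 hf)
  rw [map_mul, map_mul, map_mul, map_mul, map_pow, map_pow, map_pow, map_pow, map_pow]
  exact (comm_mul (comm_pow N.mb.f _) (comm_mul (comm_pow N.mb.z _) (comm_mul (comm_pow N.mb.v1 _)
    (comm_mul (comm_pow N.mb.v2 _) (comm_pow N.bc _))))).symm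

theorem cen (c : G) (hx : c * x = x * c) (hf : c * ι pf = ι pf * c)
    (hk : ∀ k ∈ ι.range, k * ι pf = ι pf * k → k * k * k = 1 → k * c = c * k) :
    c = 1 ∨ c = x ∨ c = ι pf ∨ c = x * ι pf := by
  obtain ⟨a, ha, e⟩ := cent_xf h hx hf
  have key : ∀ p : Perm (Fin 6), p * pf = pf * p → p * p * p = 1 → a * p = p * a := by
    intro p h1 h2
    have h3 := hk (ι p) ⟨p, rfl⟩ (h.comm_ι.2 h1) (by rw [← map_mul, ← map_mul, h2, map_one])
    rcases e with e | e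
    · rw [e] at h3
      exact (h.comm_ι.1 h3).symm
    · rw [e, ← mul_assoc, ← h.comm, mul_assoc, mul_assoc] at h3
      exact (h.comm_ι.1 (mul_left_cancel h3)).symm
  rcases cent_f_c_c2 a ha (key _ cf ccc) (key _ c2f ccc2) with h1 | h1
  · rw [h1, map_one] at e
    rw [mul_one] at e
    rcases e with e | e
    · exact Or.inl e
    · exact Or.inr (Or.inl e)
  · rw [h1] at e
    rcases e with e | e
    · exact Or.inr (Or.inr (Or.inl e))
    · exact Or.inr (Or.inr (Or.inr e))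

/-- **the instance** -/
theorem cfg (nxz : ∀ g, g * ι pz * g⁻¹ ≠ x) :
    DblOne.Cfg x (ι pz) (ι pf) (ι pv1) (ι pv2) s b ((ι pc)⁻¹ * (x * s) * ι pc) r (AA h N) (LL h N) ι.range where
  xx := h.xx
  zz := by rw [← map_mul, zz, map_one]
  ff := by rw [← map_mul, ff, map_one]
  bb := N.bb
  z1 := fun e => z_ne (h.one_iff.1 e)
  f1 := fun e => f_ne (h.one_iff.1 e)
  nzf := fun e => f_ne_z (h.inj e)
  xz := h.comm _
  xf := h.comm _
  xv₁ := h.comm _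
  xv₂ := h.comm _
  zf := h.comm_ι.2 fz.symm
  zv₁ := h.comm_ι.2 zv1
  zv₂ := h.comm_ι.2 zv2
  fv₁ := h.comm_ι.2 fv1
  fv₂ := h.comm_ι.2 fv2
  sf := N.ms.f
  bf := N.mb.f
  vv₁ := by rw [← map_mul, v11, map_one]
  vv₂ := v22' h N
  v₁₂ := by rw [← map_mul, v12, map_mul, map_mul]
  xb := by rw [bx h N, mul_assoc, N.bb, mul_one]
  sb := by rw [N.sb, map_mul]
  rx := h.rx
  rf := by rw [h.conj, θ_f, map_mul]
  rz := by
    have := h.rι pz
    rwa [θ_z] at this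
  rv₁ := by rw [h.conj, θ_v1]
  rv₂ := Or.inl (by rw [h.conj, θ_v2])
  rs := by
    obtain ⟨q, hq, e⟩ := N.rs
    exact ⟨_, inL hq, e⟩
  Acomm := fun a ha a' ha' => tri_comm _ _ _ ha ha'
  Aom := Aom h N
  Av₂ := Av₂ h N
  wA := wA h N
  ww := ww h N
  xw := xw h N
  LA := LA h N
  zL := zL h N
  fL := fL h N
  sL := σL h N
  ss := σσ h N
  xL := xL h N
  Lv₂ := by
    rintro _ ⟨i, j, rfl⟩
    have h1 : Commute (x * s) (ι pv2) := (mσ h N).v2
    have h2 : Commute (x * b) (ι pv2) := (mτ h N).v2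
    exact (h1.zpow_left i).mul_left (h2.zpow_left j)
  rL := rL h N
  Lom := Lom h N
  bK := bK h N
  cen := cen h N
  del := by
    refine ⟨(ι pc)⁻¹, ?_, ?_⟩
    · rw [← map_inv]
      apply h.comm_ι.2
      have : Commute pc pf := cf
      exact this.inv_left.eq
    · rw [← map_inv, ← map_inv, inv_inv, ← map_mul, ← map_mul, cz']
  nxz := nxz

/-- `T₈ = ⟨x⟩ L D` -/
theorem inT (a : G) (hz : a * ι pz = ι pz * a) (hf : a * ι pf = ι pf * a)
    (hx : ∃ q, CL q ∧ a * x * a⁻¹ = x * ι q) : DblOne.Cfg.InT x (ι pv1) (ι pv2) (LL h N) a := by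
  obtain ⟨q, hq, e⟩ := hx
  -- the element `g` with the same action on `x`
  obtain ⟨g, m, hg⟩ : ∃ g, Mw x ι g q ∧ ∀ y, (y = 1 ∨ y = x) → (g * y ∈ LL h N ∨ x * (g * y) ∈ LL h N) := by
    have a1 : s * x = (x * s)⁻¹ := by rw [mul_inv_rev, h.x_inv, s_inv h N]
    have a2 : b * x = (x * b)⁻¹ := by rw [mul_inv_rev, h.x_inv, b_inv h N]
    rcases CL_eq hq with rfl | rfl | rfl | rfl
    · refine ⟨1, ⟨mv_one h, by rw [one_mul, mul_one]⟩, ?_⟩
      rintro y (rfl | rfl)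
      · left; rw [one_mul]; exact one_mem _
      · right; rw [one_mul, h.xx]; exact one_mem _
    · refine ⟨s, N.ms, ?_⟩
      rintro y (rfl | rfl)
      · right; rw [mul_one]; exact σL h N
      · left; rw [a1]; exact inv_mem (σL h N)
    · refine ⟨b, N.mb, ?_⟩
      rintro y (rfl | rfl)
      · right; rw [mul_one]; exact τL h N
      · left; rw [a2]; exact inv_mem (τL h N)
    · refine ⟨b * s, N.mb.mul N.ms CU_z, ?_⟩
      rintro y (rfl | rfl)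
      · left
        have : b * s * 1 = b * x * (x * s) := by
          calc b * s * 1 = b * (x * x) * s := by rw [h.xx]; group
            _ = _ := by group
        rw [this, a2]
        exact mul_mem (inv_mem (τL h N)) (σL h N)
      · right
        have : y * (b * s * y) = y * b * (s * y) := by group
        rw [this, a1]
        exact mul_mem (τL h N) (inv_mem (σL h N))
  have hc : ∀ t : G, g * t = t * g → a * t = t * a → g⁻¹ * a * t = t * (g⁻¹ * a) := by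
    intro t h1 h2
    have k1 : Commute g t := h1
    have k2 : Commute a t := h2
    exact (k1.inv_left.mul_left k2).eq
  have hx : g⁻¹ * a * x = x * (g⁻¹ * a) := by
    have h1 : a * x * a⁻¹ = g * x * g⁻¹ := by rw [e, m.x]
    calc g⁻¹ * a * x = g⁻¹ * (a * x * a⁻¹) * a := by group
      _ = g⁻¹ * (g * x * g⁻¹) * a := by rw [h1]
      _ = x * (g⁻¹ * a) := by group
  obtain ⟨p, p1, p2, e'⟩ := cent_l h hx (hc _ m.z hz) (hc _ m.f hf)
  obtain ⟨i, j, k, l, rfl⟩ := cent_zf p p1 p2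
  -- `u`
  have hu : ι (pv1 ^ (k : ℕ) * pv2 ^ (l : ℕ)) = 1 ∨ ι (pv1 ^ (k : ℕ) * pv2 ^ (l : ℕ)) = ι pv1 ∨
      ι (pv1 ^ (k : ℕ) * pv2 ^ (l : ℕ)) = ι pv2 ∨ ι (pv1 ^ (k : ℕ) * pv2 ^ (l : ℕ)) = ι pv1 * ι pv2 := by
    fin_cases k <;> fin_cases l <;> simp
  have hm : ι (pf ^ (i : ℕ) * pz ^ (j : ℕ)) ∈ LL h N := by
    rw [map_mul, map_pow, map_pow]
    exact mul_mem (pow_mem (fL h N) _) (pow_mem (zL h N) _)
  have e0 : pf ^ (i : ℕ) * (pz ^ (j : ℕ) * (pv1 ^ (k : ℕ) * pv2 ^ (l : ℕ))) =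
      pf ^ (i : ℕ) * pz ^ (j : ℕ) * (pv1 ^ (k : ℕ) * pv2 ^ (l : ℕ)) := by rw [mul_assoc]
  rw [e0, map_mul ι (pf ^ (i : ℕ) * pz ^ (j : ℕ))] at e'
  obtain ⟨y, hy, e3⟩ : ∃ y, (y = 1 ∨ y = x) ∧
      a = g * y * ι (pf ^ (i : ℕ) * pz ^ (j : ℕ)) * ι (pv1 ^ (k : ℕ) * pv2 ^ (l : ℕ)) := by
    have e4 : a = g * (g⁻¹ * a) := by group
    rcases e' with e' | e'
    · exact ⟨1, Or.inl rfl, by rw [e4, e']; group⟩
    · exact ⟨x, Or.inr rfl, by rw [e4, e']; group⟩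
  rcases hg y hy with h1 | h1
  · exact ⟨_, mul_mem h1 hm, _, hu, Or.inl e3⟩
  · refine ⟨_, mul_mem h1 hm, _, hu, Or.inr ?_⟩
    rw [e3]
    calc g * y * ι (pf ^ (i : ℕ) * pz ^ (j : ℕ)) * ι (pv1 ^ (k : ℕ) * pv2 ^ (l : ℕ))
        = (x * x) * (g * y) * ι (pf ^ (i : ℕ) * pz ^ (j : ℕ)) * ι (pv1 ^ (k : ℕ) * pv2 ^ (l : ℕ)) := by
          rw [h.xx, one_mul]
      _ = _ := by group

/-- **(DBL), `e = 1` is impossible** -/
theorem one_false (nxz : ∀ g, g * ι pz * g⁻¹ ≠ x) (W : Subgroup G) (hf : ι pf ∈ W) (hel : ∀ a ∈ W, a * a = 1)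
    (hn : ∀ g, g * ι pz = ι pz * g → ∀ a ∈ W, g * a * g⁻¹ ∈ W)
    (hT : ∀ a ∈ W, a * ι pz = ι pz * a ∧ a * ι pf = ι pf * a ∧ ∃ q, CL q ∧ a * x * a⁻¹ = x * ι q) : False :=
  (cfg h N nxz).false W hf hel hn fun a ha => inT h N a (hT a ha).1 (hT a ha).2.1 (hT a ha).2.2

end One

end Cfsg.Agent.OddHalf.D5.SixAut.DblNorm

end

-- merged: Cfsg.Agent.OddHalf.D5.SixAut.DblZeroInst
section

/-!
# ODD D5, `K = A₆`, `C(x)/⟨x⟩ = Aut(A₆)`, case (DBL), `e = 0`: the instance of `DblZero` (helper314)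

`T` is any subgroup with `g ∈ T ↔ g ∈ C(x) ∩ C(z)` (`TT x z` of `SixAut/TT.lean`).
-/

set_option autoImplicit false
set_option linter.unusedSectionVars false

namespace Cfsg.Agent.OddHalf.D5.SixAut.DblNorm

open Subgroup Equiv

variable {G : Type*} [Group G] {x r : G} {ι : Perm (Fin 6) →* G} {s b : G}

/-! ### the group `T = C(x) ∩ C(z)` -/

section TGroup

variable (h : AutSpl x ι r)
include h

/-- the elements of `C(x) ∩ C(z)` -/
theorem mem_T {g : G} (hx : g * x = x * g) (hz : g * ι pz = ι pz * g) :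
    ∃ a, a * pz = pz * a ∧ (g = ι a ∨ g = x * ι a ∨ g = ι a * r ∨ g = x * (ι a * r)) := by
  obtain ⟨a, e⟩ := h.cent g hx
  have hxz : ∀ y : G, x * y * ι pz = ι pz * (x * y) → y * ι pz = ι pz * y := by
    intro y hy
    have h1 : x * (y * ι pz) = x * (ι pz * y) := by
      calc x * (y * ι pz) = x * y * ι pz := by group
        _ = ι pz * (x * y) := hy
        _ = ι pz * x * y := by group
        _ = x * ι pz * y := by rw [h.comm]
        _ = _ := by group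
    exact mul_left_cancel h1
  refine ⟨a, ?_, e⟩
  rcases e with e | e | e | e
  · rw [e] at hz; exact h.comm_ι.1 hz
  · rw [e] at hz; exact h.comm_ι.1 (hxz _ hz)
  · rw [e] at hz
    have := h.comm_r.1 hz
    rwa [θ_z] at this
  · rw [e] at hz
    have := h.comm_r.1 (hxz _ hz)
    rwa [θ_z] at this

theorem of_T {g : G} {a : Perm (Fin 6)} (ha : a * pz = pz * a)
    (e : g = ι a ∨ g = x * ι a ∨ g = ι a * r ∨ g = x * (ι a * r)) : g * x = x * g ∧ g * ι pz = ι pz * g := by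
  refine ⟨h.mem_cent g ⟨a, e⟩, ?_⟩
  have hxz : ∀ y : G, y * ι pz = ι pz * y → x * y * ι pz = ι pz * (x * y) := by
    intro y hy
    calc x * y * ι pz = x * (y * ι pz) := by group
      _ = x * ι pz * y := by rw [hy]; group
      _ = ι pz * (x * y) := by rw [h.comm]; group
  have h1 : ι a * ι pz = ι pz * ι a := h.comm_ι.2 ha
  have h2 : ι a * r * ι pz = ι pz * (ι a * r) := h.comm_r.2 (by rw [θ_z]; exact ha)
  rcases e with e | e | e | e <;> rw [e]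
  · exact h1
  · exact hxz _ h1
  · exact h2
  · exact hxz _ h2

/-- the parametrization of `T` -/
def par (x r : G) (ι : Perm (Fin 6) →* G) (p : {a : Perm (Fin 6) // a * pz = pz * a} × Bool × Bool) : G :=
  (if p.2.1 then x else 1) * (ι p.1.1 * (if p.2.2 then r else 1))

theorem par_inj : Function.Injective (par x r ι) := by
  rintro ⟨a, i, j⟩ ⟨a', i', j'⟩ e
  have hx : ∀ y y' : G, x * y = x * y' → y = y' := fun _ _ => mul_left_cancel
  have hxx : ∀ y y' : G, x * y = y' → y = x * y' := by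
    intro y y' k
    rw [← k, ← mul_assoc, h.xx, one_mul]
  unfold par at e
  have key : i = i' ∧ j = j' ∧ a.1 = a'.1 := by
    cases i <;> cases i' <;> cases j <;> cases j' <;>
      simp only [Bool.false_eq_true, if_true, if_false, one_mul, mul_one] at e
    · exact ⟨rfl, rfl, h.inj e⟩
    · exact absurd e (h.ne_r _ _)
    · exact absurd e.symm (h.ne_r _ _)
    · exact ⟨rfl, rfl, h.inj (mul_right_cancel e)⟩
    · exact absurd e (h.ne_x _ _)
    · exact absurd e (h.ne_xr _ _)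
    · exact absurd (hxx _ _ e.symm) (h.ne_xr _ _)
    · exfalso
      apply h.ne_x a.1 a'.1
      rw [← mul_assoc] at e
      exact mul_right_cancel e
    · exact absurd e.symm (h.ne_x _ _)
    · exact absurd (hxx _ _ e) (h.ne_xr _ _)
    · exact absurd e.symm (h.ne_xr _ _)
    · exfalso
      apply h.ne_x a'.1 a.1
      rw [← mul_assoc] at e
      exact (mul_right_cancel e).symm
    · exact ⟨rfl, rfl, h.xι_inj e⟩
    · exact absurd (mul_left_cancel e) (h.ne_r _ _)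
    · exact absurd (mul_left_cancel e).symm (h.ne_r _ _)
    · exact ⟨rfl, rfl, h.inj (mul_right_cancel (mul_left_cancel e))⟩
  obtain ⟨k1, k2, k3⟩ := key
  rw [Prod.mk.injEq, Prod.mk.injEq]
  exact ⟨Subtype.ext k3, k1, k2⟩

omit h in
theorem card_cent_z : Fintype.card {a : Perm (Fin 6) // a * pz = pz * a} = 16 := by decide +kernel

theorem card_T (T : Subgroup G) (hT : ∀ g, g ∈ T ↔ g * x = x * g ∧ g * ι pz = ι pz * g) : Nat.card T = 64 := by
  have h1 : Set.range (par x r ι) = (T : Set G) := by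
    ext g
    constructor
    · rintro ⟨⟨⟨a, ha⟩, i, j⟩, rfl⟩
      refine (hT _).2 (of_T h ha ?_)
      unfold par
      cases i <;> cases j <;> simp
    · intro hg
      obtain ⟨k1, k2⟩ := (hT g).1 hg
      obtain ⟨a, ha, e | e | e | e⟩ := mem_T h k1 k2
      · exact ⟨⟨⟨a, ha⟩, false, false⟩, by unfold par; simp [e]⟩
      · exact ⟨⟨⟨a, ha⟩, true, false⟩, by unfold par; simp [e]⟩
      · exact ⟨⟨⟨a, ha⟩, false, true⟩, by unfold par; simp [e]⟩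
      · exact ⟨⟨⟨a, ha⟩, true, true⟩, by unfold par; simp [e]⟩
  have h2 : Nat.card T = Nat.card (Set.range (par x r ι)) := by
    rw [h1]; rfl
  rw [h2, Nat.card_range_of_injective (par_inj h), Nat.card_eq_fintype_card, Fintype.card_prod, Fintype.card_prod,
    card_cent_z, Fintype.card_bool]

end TGroup

/-! ### the instance -/

/-- `e = 0`, with the normalised `s = b^r b` -/
structure NrmZero (x r : G) (ι : Perm (Fin 6) →* G) (s b : G) : Prop where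
  ms : Mw x ι s pz
  mb : Mw x ι b pf
  bc : b * ι pc = ι pc * b
  ss : s * s = 1
  bb : b * b = 1
  sb : s * b = b * s
  br : b * r = r * (s * b)

theorem exists_nrmZero (h : AutSpl x ι r) (N : Nrm x r ι s b) (e0 : s * b * s⁻¹ = b)
    (er : ∃ q, CL q ∧ r * b * r⁻¹ = b * s * ι q) : ∃ s', NrmZero x r ι s' b := by
  obtain ⟨q, hq, eb⟩ := er
  obtain ⟨q₁, hq₁, es⟩ := N.rs
  have hsb : s * b = b * s := mul_inv_eq_iff_eq_mul.1 e0
  have hθ : ∀ q, CL q → ι (θ q) * ι (θ q) = 1 := fun q hq => by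
    rw [← map_mul, CU_sq _ (CL_θ hq).1, map_one]
  -- `r⁻¹ s r = s θ(q₁)`
  have k1 : r⁻¹ * s * r = s * ι (θ q₁) := by
    have h1 : s = r⁻¹ * s * r * ι (θ q₁) := by
      rw [← h.rι_inv]
      calc s = r⁻¹ * (r * s * r⁻¹) * r := by group
        _ = _ := by rw [es]; group
    calc r⁻¹ * s * r = r⁻¹ * s * r * (ι (θ q₁) * ι (θ q₁)) := by rw [hθ q₁ hq₁, mul_one]
      _ = (r⁻¹ * s * r * ι (θ q₁)) * ι (θ q₁) := by group
      _ = _ := by rw [← h1]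
  have cs : s * ι (θ q₁) = ι (θ q₁) * s := N.ms.toMv.comm (CL_θ hq₁).1
  have k2 : r⁻¹ * b * r = b * s * ι (θ q * θ q₁) := by
    have h1 : b = r⁻¹ * b * r * (s * ι (θ q₁)) * ι (θ q) := by
      rw [← k1, ← h.rι_inv q]
      calc b = r⁻¹ * (r * b * r⁻¹) * r := by group
        _ = _ := by rw [eb]; group
    have hss := N.ss
    have h2 : r⁻¹ * b * r = b * ι (θ q) * (ι (θ q₁) * s) := by
      have h3 : r⁻¹ * b * r = r⁻¹ * b * r * (s * ι (θ q₁)) * ι (θ q) * ι (θ q) * (ι (θ q₁) * s) := by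
        calc r⁻¹ * b * r = r⁻¹ * b * r * (s * s) := by rw [hss, mul_one]
          _ = r⁻¹ * b * r * (s * (ι (θ q₁) * (ι (θ q) * ι (θ q)) * ι (θ q₁)) * s) := by
            rw [hθ q hq, mul_one, hθ q₁ hq₁, mul_one]
          _ = _ := by group
      rw [← h1] at h3
      exact h3
    rw [h2, ← cs, map_mul, mul_assoc, mul_assoc, ← mul_assoc (ι (θ q)), ← N.ms.toMv.comm (CL_θ hq).1]
    simp only [mul_assoc]
  have hq' : CL (θ q * θ q₁) := CL_mul (CL_θ hq) (CL_θ hq₁)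
  have ms : Mw x ι (s * ι (θ q * θ q₁)) pz := by
    have := N.ms.mul (mw_ι h hq') CU_one
    rwa [mul_one] at this
  have cb : b * ι (θ q * θ q₁) = ι (θ q * θ q₁) * b := N.mb.toMv.comm hq'.1
  have cs' : s * ι (θ q * θ q₁) = ι (θ q * θ q₁) * s := N.ms.toMv.comm hq'.1
  have hsb' : s * ι (θ q * θ q₁) * b = b * (s * ι (θ q * θ q₁)) := by
    rw [mul_assoc, ← cb, ← mul_assoc, hsb, mul_assoc]
  refine ⟨s * ι (θ q * θ q₁), ms, N.mb, N.bc, ?_, N.bb, hsb', ?_⟩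
  · calc s * ι (θ q * θ q₁) * (s * ι (θ q * θ q₁)) = s * (ι (θ q * θ q₁) * s) * ι (θ q * θ q₁) := by group
      _ = (s * s) * (ι (θ q * θ q₁) * ι (θ q * θ q₁)) := by rw [← cs']; group
      _ = 1 := by rw [N.ss, ← map_mul, CU_sq _ hq'.1, map_one, mul_one]
  · rw [hsb']
    calc b * r = r * (r⁻¹ * b * r) := by group
      _ = _ := by rw [k2, mul_assoc]

section Zero

variable (h : AutSpl x ι r) (N : NrmZero x r ι s b)
include h N

theorem zero_mvw : Mv x ι ((ι pc)⁻¹ * s * ι pc) pv1 := by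
  have m2 := mv_c h (mv_c h N.ms.toMv)
  have e1 : ι pc * (ι pc * s * (ι pc)⁻¹) * (ι pc)⁻¹ = (ι pc)⁻¹ * s * ι pc := by
    have e2 : ι pc * ι pc = (ι pc)⁻¹ := eq_inv_of_mul_eq_one_left (iccc h)
    calc ι pc * (ι pc * s * (ι pc)⁻¹) * (ι pc)⁻¹ = ι pc * ι pc * s * (ι pc * ι pc)⁻¹ := by group
      _ = _ := by rw [e2, inv_inv]
  have e3 : pc * (pc * pz * pc⁻¹) * pc⁻¹ = pv1 := by
    have e2 : pc * pc = pc⁻¹ := eq_inv_of_mul_eq_one_left ccc
    calc pc * (pc * pz * pc⁻¹) * pc⁻¹ = pc * pc * pz * (pc * pc)⁻¹ := by group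
      _ = _ := by rw [e2, inv_inv, cz']
  rw [e1, e3] at m2
  exact m2

theorem zero_mvw₂ : Mv x ι (ι pc * s * (ι pc)⁻¹) (pz * pv1) := by
  have := mv_c h N.ms.toMv
  rwa [cz] at this

theorem zero_bw : Commute b ((ι pc)⁻¹ * s * ι pc) := by
  have h1 : Commute b (ι pc) := N.bc
  have h2 : Commute b s := N.sb.symm
  exact (h1.inv_right.mul_right h2).mul_right h1

theorem zero_bw₂ : Commute b (ι pc * s * (ι pc)⁻¹) := by
  have h1 : Commute b (ι pc) := N.bc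
  have h2 : Commute b s := N.sb.symm
  exact (h1.mul_right h2).mul_right h1.inv_right

theorem zero_q : ∃ q, CU q ∧ s * ((ι pc)⁻¹ * s * ι pc) * (ι pc * s * (ι pc)⁻¹) = ι q := by
  have m := (N.ms.toMv.mul (zero_mvw h N) CU_v1).mul (zero_mvw₂ h N) (CU_mul CU_z CU_v1)
  have e1 : pz * pv1 * (pz * pv1) = 1 := CU_sq _ (CU_mul CU_z CU_v1)
  rw [e1] at m
  have hx := m.x
  rw [map_one, mul_one] at hx
  obtain ⟨q, hq, e | e⟩ := cent_U h m (mul_inv_eq_iff_eq_mul.1 hx)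
  · exact ⟨q, hq, e⟩
  · exfalso
    have h1 : Commute b (x * ι q) := by
      rw [← e]
      exact ((show Commute b s from N.sb.symm).mul_right (zero_bw h N)).mul_right (zero_bw₂ h N)
    have h2 : Commute b (ι q) := N.mb.toMv.comm hq
    have h3 : Commute b x := by
      have h4 := h1.mul_right h2.inv_right
      rwa [mul_inv_cancel_right] at h4
    have h5 := N.mb.x
    rw [h3.eq, mul_inv_cancel_right] at h5
    exact f_ne (h.one_iff.1 (mul_left_cancel (h5.symm.trans (mul_one x).symm)))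

theorem zero_ww : (ι pc)⁻¹ * s * ι pc * ((ι pc)⁻¹ * s * ι pc) = 1 := by
  calc (ι pc)⁻¹ * s * ι pc * ((ι pc)⁻¹ * s * ι pc) = (ι pc)⁻¹ * (s * s) * ι pc := by group
    _ = 1 := by rw [N.ss]; group

theorem zero_ww₂ : ι pc * s * (ι pc)⁻¹ * (ι pc * s * (ι pc)⁻¹) = 1 := by
  calc ι pc * s * (ι pc)⁻¹ * (ι pc * s * (ι pc)⁻¹) = ι pc * (s * s) * (ι pc)⁻¹ := by group
    _ = 1 := by rw [N.ss]; group

theorem zero_sw : s * ((ι pc)⁻¹ * s * ι pc) = (ι pc)⁻¹ * s * ι pc * s := by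
  obtain ⟨q, hq, e⟩ := zero_q h N
  obtain ⟨w, hw⟩ : ∃ w, w = (ι pc)⁻¹ * s * ι pc := ⟨_, rfl⟩
  obtain ⟨w₂, hw₂⟩ : ∃ w₂, w₂ = ι pc * s * (ι pc)⁻¹ := ⟨_, rfl⟩
  have e3 := zero_ww h N
  have e4 := zero_ww₂ h N
  have e5 := (zero_mvw₂ h N).comm hq
  rw [← hw, ← hw₂] at e
  rw [← hw] at e3
  rw [← hw₂] at e4 e5
  rw [← hw]
  have e6 : s * w = ι q * w₂ := by
    rw [← e, mul_assoc, e4, mul_one]
  have e7 : s * w * (s * w) = 1 := by
    rw [e6]
    calc ι q * w₂ * (ι q * w₂) = ι q * (w₂ * ι q) * w₂ := by group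
      _ = ι q * ι q * (w₂ * w₂) := by rw [e5]; group
      _ = 1 := by rw [← map_mul, CU_sq q hq, map_one, one_mul, e4]
  calc s * w = s * w * (s * w) * (w * s) := by
        calc s * w = s * w * ((s * (w * w) * s)) := by rw [e3, mul_one, N.ss, mul_one]
          _ = _ := by group
    _ = w * s := by rw [e7, one_mul]

/-- `v₂ w v₂ = w₂` -/
theorem zero_v2w : ι pv2 * ((ι pc)⁻¹ * s * ι pc) * ι pv2 = ι pc * s * (ι pc)⁻¹ := by
  have hv2 : ι pv2 * ι pv2 = 1 := by rw [← map_mul, v22, map_one]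
  have h1 : ι pv2 * ι pc * ι pv2 = (ι pc)⁻¹ := by rw [← map_mul, ← map_mul, v2c, map_inv]
  have hv : (ι pv2)⁻¹ = ι pv2 := inv_eq_of_mul_eq_one_right hv2
  have h2 : ι pv2 * (ι pc)⁻¹ * ι pv2 = ι pc := by
    rw [← h1]
    calc ι pv2 * (ι pv2 * ι pc * ι pv2) * ι pv2 = (ι pv2 * ι pv2) * ι pc * (ι pv2 * ι pv2) := by group
      _ = ι pc := by rw [hv2]; group
  have h3 : ι pv2 * s * ι pv2 = s := by rw [← N.ms.v2, mul_assoc, hv2, mul_one]
  calc ι pv2 * ((ι pc)⁻¹ * s * ι pc) * ι pv2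
      = ι pv2 * (ι pc)⁻¹ * (ι pv2 * (ι pv2)⁻¹) * s * ((ι pv2)⁻¹ * ι pv2) * ι pc * ι pv2 := by group
    _ = ι pv2 * (ι pc)⁻¹ * ι pv2 * (ι pv2 * s * ι pv2) * (ι pv2 * ι pc * ι pv2) := by
        rw [hv]; simp only [mul_assoc]
    _ = ι pc * s * (ι pc)⁻¹ := by rw [h2, h3, h1]

theorem zero_ww' : ((ι pc)⁻¹ * s * ι pc) * (ι pc * s * (ι pc)⁻¹) = (ι pc * s * (ι pc)⁻¹) * ((ι pc)⁻¹ * s * ι pc) := by
  have h1 := zero_sw h N
  have e2 : ι pc * ι pc = (ι pc)⁻¹ := eq_inv_of_mul_eq_one_left (iccc h)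
  have e3 : (ι pc)⁻¹ * ((ι pc)⁻¹ * s * ι pc) * ι pc = ι pc * s * (ι pc)⁻¹ := by
    calc (ι pc)⁻¹ * ((ι pc)⁻¹ * s * ι pc) * ι pc = (ι pc * ι pc)⁻¹ * s * (ι pc * ι pc) := by group
      _ = _ := by rw [e2, inv_inv]
  rw [← e3]
  calc (ι pc)⁻¹ * s * ι pc * ((ι pc)⁻¹ * ((ι pc)⁻¹ * s * ι pc) * ι pc)
      = (ι pc)⁻¹ * (s * ((ι pc)⁻¹ * s * ι pc)) * ι pc := by group
    _ = (ι pc)⁻¹ * ((ι pc)⁻¹ * s * ι pc * s) * ι pc := by rw [h1]
    _ = _ := by group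

theorem zero_v2w' : ∃ n, (n = 1 ∨ n = ι pz ∨ n = ι pf ∨ n = ι pf * ι pz) ∧
    ι pv2 * ((ι pc)⁻¹ * s * ι pc) * ι pv2 = ((ι pc)⁻¹ * s * ι pc) * (s * n) := by
  obtain ⟨q, hq, e⟩ := zero_q h N
  have hv2 : ι pv2 * ι pv2 = 1 := by rw [← map_mul, v22, map_one]
  have h3 : ι pv2 * s * ι pv2 = s := by rw [← N.ms.v2, mul_assoc, hv2, mul_one]
  obtain ⟨w, hw⟩ : ∃ w, w = (ι pc)⁻¹ * s * ι pc := ⟨_, rfl⟩
  obtain ⟨w₂, hw₂⟩ : ∃ w₂, w₂ = ι pc * s * (ι pc)⁻¹ := ⟨_, rfl⟩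
  have a1 := zero_v2w h N
  have a2 := zero_sw h N
  have a3 := zero_ww h N
  have a4 := zero_ww' h N
  have a5 : w₂ * ι q = ι q * w₂ := hw₂ ▸ (zero_mvw₂ h N).comm hq
  rw [← hw, ← hw₂] at e a1 a4
  rw [← hw] at a2 a3
  rw [← hw]
  have a6 : ι pv2 * w₂ * ι pv2 = w := by
    rw [← a1]
    calc ι pv2 * (ι pv2 * w * ι pv2) * ι pv2 = (ι pv2 * ι pv2) * w * (ι pv2 * ι pv2) := by group
      _ = w := by rw [hv2]; group
  -- `ι q` commutes with `v₂`
  have hqL : CL q := by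
    refine ⟨hq, h.comm_ι.1 ?_⟩
    have h4 : ι pv2 * ι q * ι pv2 = ι q := by
      rw [← e]
      calc ι pv2 * (s * w * w₂) * ι pv2 = ι pv2 * s * 1 * w * 1 * w₂ * ι pv2 := by group
        _ = (ι pv2 * s * ι pv2) * (ι pv2 * w * ι pv2) * (ι pv2 * w₂ * ι pv2) := by
            rw [← hv2]; simp only [mul_assoc]
        _ = s * w₂ * w := by rw [h3, a1, a6]
        _ = s * w * w₂ := by rw [mul_assoc, ← a4, mul_assoc]
    calc ι q * ι pv2 = ι pv2 * ι q * ι pv2 * ι pv2 := by rw [h4]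
      _ = ι pv2 * ι q := by rw [mul_assoc, hv2, mul_one]
  have hws : w * (s * ι q) = w₂ := by
    rw [← e]
    calc w * (s * (s * w * w₂)) = w * (s * s) * w * w₂ := by group
      _ = w₂ := by rw [N.ss, mul_one, a3, one_mul]
  refine ⟨ι q, ?_, by rw [a1, hws]⟩
  rcases CL_eq hqL with e | e | e | e <;> rw [e]
  · left; rw [map_one]
  · right; left; rfl
  · right; right; left; rfl
  · right; right; right; rw [map_mul]

omit h N in
theorem cz_f : ∀ a : Perm (Fin 6), a * pz = pz * a → a * pf = pf * a := by decide +kernel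

omit h N in
theorem ι_T0 {a : Perm (Fin 6)} (ha : a * pz = pz * a) :
    ι a ∈ T0 x (ι pz) (ι pf) (ι pv1) (ι pv2) := by
  obtain ⟨i, j, k, l, rfl⟩ := cent_zf a ha (cz_f a ha)
  rw [map_mul, map_mul, map_mul, map_pow, map_pow, map_pow, map_pow]
  have m : ∀ y ∈ ({x, ι pz, ι pf, ι pv1, ι pv2} : Set G), y ∈ T0 x (ι pz) (ι pf) (ι pv1) (ι pv2) :=
    fun y hy => subset_closure hy
  exact mul_mem (pow_mem (m _ (by simp)) _) (mul_mem (pow_mem (m _ (by simp)) _)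
    (mul_mem (pow_mem (m _ (by simp)) _) (pow_mem (m _ (by simp)) _)))

omit h N in
theorem x_T0 : x ∈ T0 x (ι pz) (ι pf) (ι pv1) (ι pv2) := subset_closure (by simp)

theorem zero_T_form {t : G} (hx : t * x = x * t) (hz : t * ι pz = ι pz * t) :
    t ∈ T0 x (ι pz) (ι pf) (ι pv1) (ι pv2) ∨ ∃ u ∈ T0 x (ι pz) (ι pf) (ι pv1) (ι pv2), t = r * ι pv2 * u := by
  obtain ⟨a, ha, e⟩ := mem_T h hx hz
  have hθ : θ a * pz = pz * θ a := by
    have := congrArg θ ha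
    rwa [map_mul, map_mul, θ_z] at this
  have hv2 : ι pv2 * ι pv2 = 1 := by rw [← map_mul, v22, map_one]
  have h1 : ι pv2 * ι (θ a) ∈ T0 x (ι pz) (ι pf) (ι pv1) (ι pv2) :=
    mul_mem (ι_T0 zv2.symm) (ι_T0 hθ)
  have h2 : ι a * r = r * ι pv2 * (ι pv2 * ι (θ a)) := by
    rw [h.ιr]
    calc r * ι (θ a) = r * (ι pv2 * ι pv2) * ι (θ a) := by rw [hv2, mul_one]
      _ = _ := by group
  rcases e with e | e | e | e
  · left; rw [e]; exact ι_T0 ha
  · left; rw [e]; exact mul_mem x_T0 (ι_T0 ha)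
  · right; exact ⟨_, h1, by rw [e, h2]⟩
  · right
    refine ⟨x * (ι pv2 * ι (θ a)), mul_mem x_T0 h1, ?_⟩
    rw [e, h2]
    have h3 : x * (r * ι pv2) = r * ι pv2 * x := by rw [← mul_assoc, ← h.rx, mul_assoc, h.comm, mul_assoc]
    rw [← mul_assoc x, h3, mul_assoc]

theorem zero_eps : (r * ι pv2 * (r * ι pv2) = ι pv1 * ι pv2 ∧ s * (r * ι pv2) = r * ι pv2 * s) ∨
    (r * ι pv2 * (r * ι pv2) = ι pv1 * ι pv2 * x ∧ s * (r * ι pv2) = r * ι pv2 * (s * ι pf)) := by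
  have h1 : r * ι pv2 = ι pv1 * r := by
    have := h.rι pv2
    rwa [θ_v2] at this
  have h2 : r * ι pv2 * (r * ι pv2) = ι pv1 * (r * r) * ι pv2 := by
    nth_rw 1 [h1]; group
  have h3 : b * (r * r) = r * (s * r) * (s * b) := by
    calc b * (r * r) = b * r * r := by group
      _ = r * (s * b) * r := by rw [N.br]
      _ = r * s * (b * r) := by group
      _ = r * s * (r * (s * b)) := by rw [N.br]
      _ = _ := by group
  have hsb : s * b * (s * b) = 1 := by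
    calc s * b * (s * b) = s * (b * s) * b := by group
      _ = (s * s) * (b * b) := by rw [← N.sb]; group
      _ = 1 := by rw [N.ss, N.bb, one_mul]
  have h4 : r * (s * r) = b * (r * r) * (s * b) := by
    rw [h3]
    calc r * (s * r) = r * (s * r) * (s * b * (s * b)) := by rw [hsb, mul_one]
      _ = _ := by group
  have v2s := N.ms.v2
  rcases h.rr with e | e
  · left
    refine ⟨by rw [h2, e, mul_one], ?_⟩
    have h5 : s * r = r * s := by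
      have h6 : r * (s * r) = s := by
        rw [h4, e, mul_one, N.sb, ← mul_assoc, N.bb, one_mul]
      calc s * r = (r * r) * (s * r) := by rw [e, one_mul]
        _ = r * (r * (s * r)) := by group
        _ = r * s := by rw [h6]
    rw [← mul_assoc, h5, mul_assoc, v2s, mul_assoc]
  · right
    refine ⟨by rw [h2, e, mul_assoc, h.comm, ← mul_assoc], ?_⟩
    have hbx : b * x = x * ι pf * b := mul_inv_eq_iff_eq_mul.1 N.mb.x
    have h5 : s * r = r * (s * ι pf) := by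
      have h6 : r * (s * r) = x * (s * ι pf) := by
        rw [h4, e, hbx, N.sb]
        calc x * ι pf * b * (b * s) = x * ι pf * (b * b) * s := by group
          _ = x * (s * ι pf) := by rw [N.bb, mul_one, N.ms.f, mul_assoc]
      have h7 : r * (s * r) = r * (r * (s * ι pf)) := by
        rw [h6, ← e]; group
      exact mul_left_cancel h7
    calc s * (r * ι pv2) = s * r * ι pv2 := by group
      _ = r * (s * (ι pf * ι pv2)) := by rw [h5]; group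
      _ = r * (s * ι pv2 * ι pf) := by rw [h.comm_ι.2 fv2]; group
      _ = _ := by rw [v2s]; group

theorem zero_dbl (T : Subgroup G) (hT : ∀ g, g ∈ T ↔ g * x = x * g ∧ g * ι pz = ι pz * g) (pT : IsPGroup 2 T)
    (syl : ∀ P : Subgroup G, IsPGroup 2 P → (∀ y ∈ P, y * x = x * y) →
      ∃ g, g * x = x * g ∧ ∀ y ∈ P, g * y * g⁻¹ ∈ T) :
    DblZero x (ι pz) (ι pf) (ι pv1) (ι pv2) s b ((ι pc)⁻¹ * s * ι pc) (r * ι pv2) T where
  xx := h.xx
  zz := by rw [← map_mul, zz, map_one]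
  ff := by rw [← map_mul, ff, map_one]
  v11 := by rw [← map_mul, v11, map_one]
  v22 := by rw [← map_mul, v22, map_one]
  ss := N.ss
  bb := N.bb
  z1 := fun e => z_ne (h.one_iff.1 e)
  f1 := fun e => f_ne (h.one_iff.1 e)
  fz1 := fun e => f_ne_z (h.inj e)
  xz := h.comm _
  xf := h.comm _
  xv₁ := h.comm _
  xv₂ := h.comm _
  xr := by rw [← mul_assoc, ← h.rx, mul_assoc, h.comm, mul_assoc]
  zf := h.comm_ι.2 fz.symm
  zv₁ := h.comm_ι.2 zv1
  zv₂ := h.comm_ι.2 zv2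
  zs := N.ms.z.symm
  zb := N.mb.z.symm
  zr := by
    have h1 := h.ιr pz
    rw [θ_z] at h1
    rw [← mul_assoc, h1, mul_assoc, h.comm_ι.2 zv2, mul_assoc]
  fv₁ := h.comm_ι.2 fv1
  fv₂ := h.comm_ι.2 fv2
  fs := N.ms.f.symm
  fb := N.mb.f.symm
  v₁s := N.ms.v1.symm
  v₁b := N.mb.v1.symm
  v₂s := N.ms.v2.symm
  v₂b := N.mb.v2.symm
  v₂v₁ := by
    rw [← map_mul, ← map_mul, ← map_mul]
    congr 1
    rw [v12, mul_assoc, zz, mul_one]
  xs := by
    have h1 : s * x = x * ι pz * s := mul_inv_eq_iff_eq_mul.1 N.ms.x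
    rw [← mul_assoc, h1, mul_assoc, mul_assoc, N.ms.z, ← mul_assoc (ι pz), ← map_mul, zz, map_one, one_mul]
  xb := by
    have h1 : b * x = x * ι pf * b := mul_inv_eq_iff_eq_mul.1 N.mb.x
    rw [← mul_assoc, h1, mul_assoc, mul_assoc, N.mb.f, ← mul_assoc (ι pf), ← map_mul, ff, map_one, one_mul]
  fr := by
    have h1 := h.ιr pf
    rw [θ_f] at h1
    rw [← mul_assoc, h1, mul_assoc, mul_assoc, ← map_mul, ← map_mul, ← map_mul]
    congr 2
    rw [mul_assoc, zv2, ← mul_assoc, fv2, mul_assoc]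
  v₁r := by
    have h1 := h.ιr pv1
    rw [θ_v1] at h1
    rw [← mul_assoc, h1]
  pT := pT
  Tx := fun t ht => ((hT t).1 ht).1
  syl := syl
  cardT := card_T h T hT
  xT := (hT x).2 ⟨rfl, h.comm _⟩
  fT := (hT _).2 ⟨(h.comm _).symm, h.comm_ι.2 fz⟩
  v₁T := (hT _).2 ⟨(h.comm _).symm, h.comm_ι.2 zv1.symm⟩
  rT := by
    refine (hT _).2 (of_T h (a := pv1) zv1.symm (Or.inr (Or.inr (Or.inl ?_))))
    have := h.rι pv2
    rwa [θ_v2] at this
  T_form := fun t ht => zero_T_form h N ((hT t).1 ht).1 ((hT t).1 ht).2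
  cent := by
    intro g h1 h2 h3
    obtain ⟨q, q1, -, e | e⟩ := cent_l h h1 h2 h3
    · rw [e]; exact ι_T0 q1
    · rw [e]; exact mul_mem x_T0 (ι_T0 q1)
  sb := N.sb
  br := by
    rw [← mul_assoc, N.br, mul_assoc, mul_assoc, N.mb.v2, ← mul_assoc s, N.ms.v2]
    simp only [mul_assoc]
  eps := zero_eps h N
  ww := zero_ww h N
  zw := (zero_mvw h N).z.symm
  fw := (zero_mvw h N).f.symm
  v₁w := (zero_mvw h N).v1.symm
  sw := zero_sw h N
  bw := (zero_bw h N).eq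
  xw := by
    have m := zero_mvw h N
    have h1 : (ι pc)⁻¹ * s * ι pc * x = x * ι pv1 * ((ι pc)⁻¹ * s * ι pc) := mul_inv_eq_iff_eq_mul.1 m.x
    have hv : ι pv1 * ι pv1 = 1 := by rw [← map_mul, v11, map_one]
    obtain ⟨w, hw⟩ : ∃ w, w = (ι pc)⁻¹ * s * ι pc := ⟨_, rfl⟩
    have m1 := m.v1
    rw [← hw] at h1 m1 ⊢
    rw [← mul_assoc w, h1, mul_assoc (x * ι pv1), m1, mul_assoc, ← mul_assoc (ι pv1), hv, one_mul]
  v₂w := zero_v2w' h N

end Zero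

/-- the two cases of (DBL) -/
theorem dbl_cases (h : AutSpl x ι r) (hz : ∃ g, Mv x ι g pz) (hf : ∃ g, Mv x ι g pf) (T : Subgroup G)
    (hT : ∀ g, g ∈ T ↔ g * x = x * g ∧ g * ι pz = ι pz * g) (pT : IsPGroup 2 T)
    (syl : ∀ P : Subgroup G, IsPGroup 2 P → (∀ y ∈ P, y * x = x * y) →
      ∃ g, g * x = x * g ∧ ∀ y ∈ P, g * y * g⁻¹ ∈ T) :
    (∃ s b, NrmOne x r ι s b) ∨
      ∃ s b w, DblZero x (ι pz) (ι pf) (ι pv1) (ι pv2) s b w (r * ι pv2) T := by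
  obtain ⟨s, b, N⟩ := exists_nrm h hz hf
  rcases N.e with ⟨e0, er⟩ | ⟨e1, er⟩
  · right
    obtain ⟨s', N'⟩ := exists_nrmZero h N e0 er
    exact ⟨s', b, _, zero_dbl h N' T hT pT syl⟩
  · left
    exact ⟨s, b, N, e1, er⟩

/-- **(DBL) is impossible**, from the case `e = 0` (`h0`) and an elementary abelian normal subgroup `W ∋ f` of
`C(z)`, `W ≤ T₈` (used for `e = 1` only) -/
theorem dbl_false (h : AutSpl x ι r) (hz : ∃ g, Mv x ι g pz) (hf : ∃ g, Mv x ι g pf) (T : Subgroup G)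
    (hT : ∀ g, g ∈ T ↔ g * x = x * g ∧ g * ι pz = ι pz * g) (pT : IsPGroup 2 T)
    (syl : ∀ P : Subgroup G, IsPGroup 2 P → (∀ y ∈ P, y * x = x * y) →
      ∃ g, g * x = x * g ∧ ∀ y ∈ P, g * y * g⁻¹ ∈ T)
    (h0 : ∀ s b w, DblZero x (ι pz) (ι pf) (ι pv1) (ι pv2) s b w (r * ι pv2) T → False)
    (nxz : ∀ g, g * ι pz * g⁻¹ ≠ x) (W : Subgroup G) (hfW : ι pf ∈ W) (hel : ∀ a ∈ W, a * a = 1)
    (hn : ∀ g, g * ι pz = ι pz * g → ∀ a ∈ W, g * a * g⁻¹ ∈ W)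
    (hT8 : ∀ a ∈ W, a * ι pz = ι pz * a ∧ a * ι pf = ι pf * a ∧ ∃ q, CL q ∧ a * x * a⁻¹ = x * ι q) : False := by
  rcases dbl_cases h hz hf T hT pT syl with ⟨s, b, N⟩ | ⟨s, b, w, D⟩
  · exact one_false h N nxz W hfW hel hn hT8
  · exact h0 s b w D

end Cfsg.Agent.OddHalf.D5.SixAut.DblNorm

end

-- merged: Cfsg.Agent.OddHalf.D5.SixAut.DblEnd
section

/-!
# ODD D5, `K = A₆`, `C(x)/⟨x⟩ = Aut(A₆)`, case (DBL): the end, from `WN` (helper314)
-/

set_option autoImplicit false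

namespace Cfsg.Agent.OddHalf.D5.SixAut.DblNorm

open Subgroup Equiv

variable {G : Type*} [Group G] {x r : G} {ι : Perm (Fin 6) →* G}

/-- `W ≤ T₈` -/
theorem wn_T8 (h : AutSpl x ι r) {W : Subgroup G} (N : WN x (ι pz) (ι pf) W) (a : G) (ha : a ∈ W) :
    a * ι pz = ι pz * a ∧ a * ι pf = ι pf * a ∧ ∃ q, CL q ∧ a * x * a⁻¹ = x * ι q := by
  have ab : ∀ a ∈ W, ∀ c ∈ W, a * c = c * a := by
    intro a ha c hc
    have i1 : a⁻¹ = a := inv_eq_of_mul_eq_one_left (N.el a ha)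
    have i2 : c⁻¹ = c := inv_eq_of_mul_eq_one_left (N.el c hc)
    have i3 : (a * c)⁻¹ = a * c := inv_eq_of_mul_eq_one_left (N.el _ (W.mul_mem ha hc))
    rw [← i3, mul_inv_rev, i1, i2]
  refine ⟨ab a ha _ N.zW, ab a ha _ N.fW, ?_⟩
  have hxi := h.x_inv
  have h1 : x * a * x ∈ W := by
    have := N.nz x (h.comm _) a ha
    rwa [hxi] at this
  have hai : a⁻¹ = a := inv_eq_of_mul_eq_one_left (N.el a ha)
  have h2 : x * a * x * a ∈ W := W.mul_mem h1 ha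
  have h3 : x * a * x * a * x = x * (x * a * x * a) := by
    calc x * a * x * a * x = x * (a * (x * a * x)) := by group
      _ = x * (x * a * x * a) := by rw [ab a ha _ h1]
  have h4 : a * x * a⁻¹ = x * (x * a * x * a) := by
    calc a * x * a⁻¹ = (x * x) * (a * x * a) := by rw [h.xx, one_mul, hai]
      _ = _ := by group
  rw [h4]
  rcases N.cx _ h2 h3 with e | e | e | e <;> rw [e]
  · exact ⟨1, CL_one, by rw [map_one]⟩
  · exact ⟨pz, CL_z, rfl⟩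
  · exact ⟨pf, CL_f, rfl⟩
  · exact ⟨pf * pz, CL_mul CL_f CL_z, by rw [map_mul]⟩

/-- **(DBL) is impossible** -/
theorem dbl_false_WN (h : AutSpl x ι r) (hz : ∃ g, Mv x ι g pz) (hf : ∃ g, Mv x ι g pf) (T : Subgroup G)
    (hT : ∀ g, g ∈ T ↔ g * x = x * g ∧ g * ι pz = ι pz * g) (pT : IsPGroup 2 T)
    (syl : ∀ P : Subgroup G, IsPGroup 2 P → (∀ y ∈ P, y * x = x * y) →
      ∃ g, g * x = x * g ∧ ∀ y ∈ P, g * y * g⁻¹ ∈ T)
    (h0 : ∀ s b w, DblZero x (ι pz) (ι pf) (ι pv1) (ι pv2) s b w (r * ι pv2) T → False)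
    (nxz : ∀ g, g * ι pz * g⁻¹ ≠ x) (W : Subgroup G) (N : WN x (ι pz) (ι pf) W) : False :=
  dbl_false h hz hf T hT pT syl h0 nxz W N.fW N.el N.nz fun a ha => wn_T8 h N a ha

end Cfsg.Agent.OddHalf.D5.SixAut.DblNorm

end
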