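import Cfsg.Agent.S1273
import Cfsg.Agent.OddHalf.D5.SixAut.Defs

-- merged: Cfsg.Agent.OddHalf.D5.SixAut.HsxJ
section

/-!
# ODD D5, `K = A₆`, `C(x)/⟨x⟩ = Aut(A₆)`, case (HSx), step (3) of #12805 (helper383)

`eq_of_self`: a self-normalising abelian 2-subgroup `Y` of a subnormal subgroup `J` of a group `H` with `O(H) = 1` is
equal to `J` (Burnside).
`card_le`: `U₁ = l ∪ v₁ l` normal in `C(f)` and `U₂ = l ∪ v₂ l` normal in `C(f z)`, `C(U₁) ∩ C(U₂) ≥ Y` with
`n x n⁻¹ ∈ Y → n ∈ Y`, `O(C(f)) = 1` ⟹ `|C(f)| ≤ 768`.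
-/

set_option autoImplicit false

namespace Cfsg.Agent.OddHalf.D5.SixAut.HsxJ

open Subgroup Cfsg

/-- a self-normalising 2-subgroup is a Sylow subgroup -/
theorem exists_sylow {J : Type*} [Group J] [Finite J] {Y : Subgroup J} (h2 : IsPGroup 2 Y)
    (hs : ∀ n, (∀ y ∈ Y, n * y * n⁻¹ ∈ Y) → n ∈ Y) : ∃ S : Sylow 2 J, (S : Subgroup J) = Y := by
  have : Fact (Nat.Prime 2) := ⟨Nat.prime_two⟩
  obtain ⟨S, hS⟩ := h2.exists_le_sylow
  refine ⟨S, ?_⟩
  by_contra hne
  have hlt : Y < (S : Subgroup J) := lt_of_le_of_ne hS (fun e => hne e.symm)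
  have hnil : Group.IsNilpotent (S : Subgroup J) := S.isPGroup'.isNilpotent
  have hsub : Y.subgroupOf S < ⊤ := by
    rw [lt_top_iff_ne_top]
    intro e
    rw [subgroupOf_eq_top] at e
    exact absurd e (not_le_of_gt hlt)
  have h1 := Group.normalizerCondition_of_isNilpotent (G := (S : Subgroup J)) (Y.subgroupOf S) hsub
  obtain ⟨n, hn1, hn2⟩ := SetLike.exists_of_lt h1
  apply hn2
  rw [mem_subgroupOf]
  apply hs
  intro y hy
  have h3 := (mem_normalizer_iff.1 hn1 ⟨y, hS hy⟩).1 (mem_subgroupOf.2 hy)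
  exact mem_subgroupOf.1 h3

/-- Burnside: a self-normalising abelian 2-subgroup has a normal complement of odd order -/
theorem exists_complement {J : Type*} [Group J] [Finite J] {Y : Subgroup J} (h2 : IsPGroup 2 Y)
    (hc : ∀ y ∈ Y, ∀ y' ∈ Y, y * y' = y' * y)
    (hs : ∀ n, (∀ y ∈ Y, n * y * n⁻¹ ∈ Y) → n ∈ Y) :
    ∃ K : Subgroup J, K.Normal ∧ (Nat.card K).Coprime 2 ∧ K.IsComplement' Y := by
  have : Fact (Nat.Prime 2) := ⟨Nat.prime_two⟩
  obtain ⟨S, rfl⟩ := exists_sylow h2 hs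
  have hN : normalizer ((S : Subgroup J) : Set J) ≤ centralizer ((S : Subgroup J) : Set J) := by
    intro n hn
    have hnS : n ∈ (S : Subgroup J) := hs n fun y hy => (mem_normalizer_iff.1 hn y).1 hy
    rw [mem_centralizer_iff]
    intro y hy
    exact hc y hy n hnS
  refine ⟨(MonoidHom.transferSylow S hN).ker, inferInstance, ?_, MonoidHom.ker_transferSylow_isComplement' S hN⟩
  have h3 := (MonoidHom.ker_transferSylow_isComplement' S hN).index_eq_card
  have h4 := S.not_dvd_index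
  rw [h3] at h4
  exact (Nat.prime_two.coprime_iff_not_dvd.2 h4).symm

/-- **a self-normalising abelian 2-subgroup of a subnormal subgroup** of a group without odd core -/
theorem eq_of_self {H : Type*} [Group H] [Finite H] (hO : oddCore H = ⊥) {J Y : Subgroup H} (hJ : J.IsSubnormal)
    (hYJ : Y ≤ J) (h2 : IsPGroup 2 Y) (hc : ∀ y ∈ Y, ∀ y' ∈ Y, y * y' = y' * y)
    (hs : ∀ n ∈ J, (∀ y ∈ Y, n * y * n⁻¹ ∈ Y) → n ∈ Y) : J = Y := by
  obtain ⟨K, hKn, hK2, hKc⟩ := exists_complement (J := J) (Y := Y.subgroupOf J)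
    (h2.comap_subtype) (fun y hy y' hy' => Subtype.ext (hc y hy y' hy'))
    (fun n hn => mem_subgroupOf.2 (hs n n.2 fun y hy => by
      have := hn ⟨y, hYJ hy⟩ (mem_subgroupOf.2 hy)
      exact mem_subgroupOf.1 this))
  have hsub : (K.map J.subtype).IsSubnormal := by
    have h1 : K.IsSubnormal := hKn.isSubnormal
    exact h1.trans' hJ
  have hKb : K.map J.subtype ≤ oddCore H := by
    apply S1273.subnormal_coprime_le_pPrimeCore 2 hsub
    rw [Nat.card_congr (K.equivMapOfInjective J.subtype J.subtype_injective).symm.toEquiv]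
    exact hK2
  rw [hO, le_bot_iff, map_eq_bot_iff_of_injective _ J.subtype_injective] at hKb
  rw [hKb] at hKc
  have h5 : Y.subgroupOf J = ⊤ := by
    rw [isComplement'_bot_left] at hKc
    exact hKc
  exact le_antisymm (subgroupOf_eq_top.1 h5) hYJ

/-- counting: `|A| ≤ |S| |B|` if `A` moves `v` inside `S` and the stabiliser of `v` in `A` lies in `B` -/
theorem card_le_mul {G : Type*} [Group G] [Finite G] {A B : Subgroup G} {v : G} (S : Finset G)
    (hS : ∀ g ∈ A, g * v * g⁻¹ ∈ S) (hB : ∀ g ∈ A, g * v = v * g → g ∈ B) :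
    Nat.card A ≤ S.card * Nat.card B := by
  classical
  have := Fintype.ofFinite G
  let T : Finset G := Finset.univ.filter (fun g => g ∈ A)
  have hT : Nat.card A = T.card := by
    rw [Nat.subtype_card]
    intro g
    simp [T]
  rw [hT]
  have h1 : ∀ g ∈ T, g * v * g⁻¹ ∈ S := fun g hg => hS g (by simpa [T] using hg)
  rw [mul_comm]
  refine Finset.card_le_mul_card_image_of_maps_to (f := fun g => g * v * g⁻¹) h1 (Nat.card B) ?_
  intro s _
  by_cases hne : (T.filter (fun g => g * v * g⁻¹ = s)).Nonempty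
  · obtain ⟨g₀, hg₀⟩ := hne
    have h2 : (T.filter (fun g => g * v * g⁻¹ = s)).card ≤ (Finset.univ.filter (fun g => g ∈ B)).card := by
      refine Finset.card_le_card_of_injOn (fun g => g₀⁻¹ * g) ?_ ?_
      · intro g hg
        rw [Finset.mem_coe, Finset.mem_filter] at hg ⊢
        rw [Finset.mem_filter] at hg₀
        refine ⟨Finset.mem_univ _, ?_⟩
        have a1 : g₀ ∈ A := by simpa [T] using hg₀.1
        have a2 : g ∈ A := by simpa [T] using hg.1
        refine hB _ (A.mul_mem (A.inv_mem a1) a2) ?_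
        have e1 : g₀ * v * g₀⁻¹ = g * v * g⁻¹ := hg₀.2.trans hg.2.symm
        calc g₀⁻¹ * g * v = g₀⁻¹ * (g * v * g⁻¹) * g := by group
          _ = g₀⁻¹ * (g₀ * v * g₀⁻¹) * g := by rw [e1]
          _ = v * (g₀⁻¹ * g) := by group
      · intro a _ b _ hab
        exact mul_left_cancel hab
    refine h2.trans (le_of_eq ?_)
    rw [Nat.subtype_card (Finset.univ.filter (fun g => g ∈ B))]
    intro g
    simp
  · rw [Finset.not_nonempty_iff_eq_empty] at hne
    rw [hne, Finset.card_empty]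
    exact Nat.zero_le _

/-- **(3) of (HSx)** -/
theorem card_le {G : Type*} [Group G] [Finite G] {x z f v₁ v₂ : G} {L U₁ U₂ Y : Subgroup G}
    (hL : Nat.card L = 4) (hY : Nat.card Y ≤ 8) (zL : z ∈ L) (fL : f ∈ L)
    (f1 : f ≠ 1) (z1 : z ≠ 1) (fz : z ≠ f)
    (LU₁ : L ≤ U₁)
    (hU₁ : ∀ u ∈ U₁, u ∈ L ∨ ∃ c ∈ L, u = v₁ * c) (hU₂ : ∀ u ∈ U₂, u ∈ L ∨ ∃ c ∈ L, u = v₂ * c)
    (v₁U : v₁ ∈ U₁) (v₂U : v₂ ∈ U₂) (v₁L : v₁ ∉ L) (v₂L : v₂ ∉ L)
    (hcL : ∀ c ∈ L, ∀ g, g * z = z * g → g * f = f * g → g * c = c * g)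
    (hn₁ : ∀ g, g * f = f * g → ∀ u ∈ U₁, g * u * g⁻¹ ∈ U₁)
    (hn₂ : ∀ g, g * (f * z) = f * z * g → ∀ u ∈ U₂, g * u * g⁻¹ ∈ U₂)
    (hO : centralizerPPrimeCore 2 f = ⊥)
    (hYJ : Y ≤ centralizer (U₁ : Set G) ⊓ centralizer (U₂ : Set G))
    (h2 : IsPGroup 2 Y) (hc : ∀ y ∈ Y, ∀ y' ∈ Y, y * y' = y' * y) (xY : x ∈ Y)
    (hs : ∀ n ∈ centralizer (U₁ : Set G) ⊓ centralizer (U₂ : Set G), n * x * n⁻¹ ∈ Y → n ∈ Y) :
    Nat.card (centralizer ({f} : Set G)) ≤ 768 := by
  classical
  set C := centralizer ({f} : Set G) with hC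
  set C₁ := centralizer (U₁ : Set G) with hC₁
  set CJ := centralizer (U₁ : Set G) ⊓ centralizer (U₂ : Set G) with hCJ
  have memC : ∀ {g}, g ∈ C ↔ g * f = f * g := fun {g} => mem_centralizer_singleton_iff
  have C₁C : C₁ ≤ C := fun g hg => memC.2 ((mem_centralizer_iff.1 hg f (LU₁ fL)).symm)
  have JC₁ : CJ ≤ C₁ := inf_le_left
  have c₁z : ∀ g ∈ C₁, g * z = z * g := fun g hg => (mem_centralizer_iff.1 hg z (LU₁ zL)).symm
  have c₁f : ∀ g ∈ C₁, g * f = f * g := fun g hg => memC.1 (C₁C hg)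
  -- normality
  have nor₁ : (C₁.subgroupOf C).Normal := by
    refine ⟨fun n hn g => ?_⟩
    rw [mem_subgroupOf] at hn ⊢
    rw [hC₁, mem_centralizer_iff] at hn ⊢
    intro u hu
    have h1 : (g : G)⁻¹ * u * g ∈ U₁ := by
      have := hn₁ (g : G)⁻¹ (memC.1 (C.inv_mem g.2)) u hu
      rwa [inv_inv] at this
    have h2 := hn _ h1
    show u * ((g : G) * n * (g : G)⁻¹) = (g : G) * n * (g : G)⁻¹ * u
    calc u * ((g : G) * n * (g : G)⁻¹) = g * ((g : G)⁻¹ * u * g * n) * (g : G)⁻¹ := by group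
      _ = g * (n * ((g : G)⁻¹ * u * g)) * (g : G)⁻¹ := by rw [h2]
      _ = (g : G) * n * (g : G)⁻¹ * u := by group
  have nor₂ : (CJ.subgroupOf C₁).Normal := by
    refine ⟨fun n hn g => ?_⟩
    rw [mem_subgroupOf] at hn ⊢
    have hn' : (n : G) ∈ centralizer (U₂ : Set G) := (mem_inf.1 hn).2
    have hg1 : ∀ u ∈ U₂, (g : G)⁻¹ * u * g ∈ U₂ := by
      intro u hu
      have e : (g : G)⁻¹ * (f * z) = f * z * (g : G)⁻¹ := by
        have a1 := c₁f _ (C₁.inv_mem g.2)
        have a2 := c₁z _ (C₁.inv_mem g.2)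
        rw [← mul_assoc, a1, mul_assoc, a2, mul_assoc]
      have := hn₂ (g : G)⁻¹ e u hu
      rwa [inv_inv] at this
    refine mem_inf.2 ⟨C₁.mul_mem (C₁.mul_mem g.2 (mem_inf.1 hn).1) (C₁.inv_mem g.2), ?_⟩
    rw [mem_centralizer_iff] at hn' ⊢
    intro u hu
    have h2 := hn' _ (hg1 u hu)
    show u * ((g : G) * n * (g : G)⁻¹) = (g : G) * n * (g : G)⁻¹ * u
    calc u * ((g : G) * n * (g : G)⁻¹) = g * ((g : G)⁻¹ * u * g * n) * (g : G)⁻¹ := by group
      _ = g * (n * ((g : G)⁻¹ * u * g)) * (g : G)⁻¹ := by rw [h2]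
      _ = (g : G) * n * (g : G)⁻¹ * u := by group
  -- `C_J = Y`
  have hsn : (CJ.subgroupOf C).IsSubnormal := by
    refine IsSubnormal.step _ (C₁.subgroupOf C) (comap_mono JC₁) nor₁.isSubnormal ?_
    have e : (CJ.subgroupOf C).subgroupOf (C₁.subgroupOf C) =
        (CJ.subgroupOf C₁).comap (subgroupOfEquivOfLe C₁C).toMonoidHom := by
      ext a; rfl
    rw [e]
    exact nor₂.comap _
  have hO' : oddCore C = ⊥ := by
    rw [centralizerPPrimeCore, map_eq_bot_iff_of_injective _ C.subtype_injective] at hO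
    exact hO
  have hYC : Y ≤ C := hYJ.trans (JC₁.trans C₁C)
  have hJY : CJ.subgroupOf C = Y.subgroupOf C := by
    refine eq_of_self hO' hsn (fun y hy => mem_subgroupOf.2 (hYJ (mem_subgroupOf.1 hy))) h2.comap_subtype
      (fun y hy y' hy' => Subtype.ext (hc y hy y' hy')) ?_
    intro n hn h
    rw [mem_subgroupOf] at hn ⊢
    exact hs n hn (mem_subgroupOf.1 (h ⟨x, hYC xY⟩ (mem_subgroupOf.2 xY)))
  have hJ : CJ = Y := by
    have h3 := congrArg (Subgroup.map C.subtype) hJY
    rw [subgroupOf_map_subtype, subgroupOf_map_subtype, inf_eq_left.2 (JC₁.trans C₁C), inf_eq_left.2 hYC] at h3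
    exact h3
  -- the four-group as a finset
  have := Fintype.ofFinite G
  let Lf : Finset G := Finset.univ.filter (fun g => g ∈ L)
  have hLf : Lf.card = 4 := by
    rw [← hL, Nat.subtype_card]
    intro g
    simp [Lf]
  have memLf : ∀ {g}, g ∈ Lf ↔ g ∈ L := fun {g} => by simp [Lf]
  have hv : ∀ v : G, (Lf.image (fun c => v * c)).card ≤ 4 := fun v => hLf ▸ Finset.card_image_le
  -- `|C₁| ≤ 32`
  have s1 : Nat.card C₁ ≤ 4 * Nat.card CJ := by
    refine (card_le_mul (v := v₂) (Lf.image (fun c => v₂ * c)) ?_ ?_).trans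
      (Nat.mul_le_mul_right _ (hv v₂))
    · intro g hg
      have e : g * (f * z) = f * z * g := by
        rw [← mul_assoc, c₁f g hg, mul_assoc, c₁z g hg, mul_assoc]
      rcases hU₂ _ (hn₂ g e v₂ v₂U) with h | ⟨c, hcL', h⟩
      · exfalso
        apply v₂L
        have h3 := hcL _ h g (c₁z g hg) (c₁f g hg)
        have h4 : v₂ = g * v₂ * g⁻¹ := by
          have h5 : g⁻¹ * (g * v₂ * g⁻¹) * g = g * v₂ * g⁻¹ := by
            rw [mul_assoc g⁻¹, ← h3]; group
          rw [← h5]; group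
        rw [h4]; exact h
      · rw [h]
        exact Finset.mem_image.2 ⟨c, memLf.2 hcL', rfl⟩
    · intro g hg e
      refine mem_inf.2 ⟨hg, ?_⟩
      rw [mem_centralizer_iff]
      intro u hu
      rcases hU₂ u hu with h | ⟨c, hcL', rfl⟩
      · exact (hcL u h g (c₁z g hg) (c₁f g hg)).symm
      · rw [mul_assoc, ← hcL c hcL' g (c₁z g hg) (c₁f g hg), ← mul_assoc, ← e, mul_assoc]
  -- `|C(l)| ≤ 128`
  set H := centralizer ({z} : Set G) ⊓ C with hH
  have hz : ∀ g ∈ H, g * z = z * g := fun g hg => mem_centralizer_singleton_iff.1 (mem_inf.1 hg).1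
  have hf : ∀ g ∈ H, g * f = f * g := fun g hg => memC.1 (mem_inf.1 hg).2
  have s2 : Nat.card H ≤ 4 * Nat.card C₁ := by
    refine (card_le_mul (v := v₁) (Lf.image (fun c => v₁ * c)) ?_ ?_).trans
      (Nat.mul_le_mul_right _ (hv v₁))
    · intro g hg
      rcases hU₁ _ (hn₁ g (hf g hg) v₁ v₁U) with h | ⟨c, hcL', h⟩
      · exfalso
        apply v₁L
        have h3 := hcL _ h g (hz g hg) (hf g hg)
        have h4 : v₁ = g * v₁ * g⁻¹ := by
          have h5 : g⁻¹ * (g * v₁ * g⁻¹) * g = g * v₁ * g⁻¹ := by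
            rw [mul_assoc g⁻¹, ← h3]; group
          rw [← h5]; group
        rw [h4]; exact h
      · rw [h]
        exact Finset.mem_image.2 ⟨c, memLf.2 hcL', rfl⟩
    · intro g hg e
      rw [hC₁, mem_centralizer_iff]
      intro u hu
      rcases hU₁ u hu with h | ⟨c, hcL', rfl⟩
      · exact (hcL u h g (hz g hg) (hf g hg)).symm
      · rw [mul_assoc, ← hcL c hcL' g (hz g hg) (hf g hg), ← mul_assoc, ← e, mul_assoc]
  -- `|C(f)| ≤ 768`
  have s3 : Nat.card C ≤ 6 * Nat.card H := by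
    let S : Finset G := ((Lf ∪ Lf.image (fun c => v₁ * c)).erase 1).erase f
    have hSc : S.card ≤ 6 := by
      have h3 : (Lf ∪ Lf.image (fun c => v₁ * c)).card ≤ 8 := by
        refine (Finset.card_union_le _ _).trans ?_
        have := hv v₁
        omega
      have h4 : (1 : G) ∈ Lf ∪ Lf.image (fun c => v₁ * c) := Finset.mem_union_left _ (memLf.2 L.one_mem)
      have h5 : f ∈ (Lf ∪ Lf.image (fun c => v₁ * c)).erase 1 :=
        Finset.mem_erase.2 ⟨f1, Finset.mem_union_left _ (memLf.2 fL)⟩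
      have h6 := Finset.card_erase_of_mem h4
      have h7 := Finset.card_erase_of_mem h5
      show (((Lf ∪ Lf.image (fun c => v₁ * c)).erase 1).erase f).card ≤ 6
      omega
    refine (card_le_mul (v := z) S ?_ ?_).trans (Nat.mul_le_mul_right _ hSc)
    · intro g hg
      have hg' := memC.1 hg
      refine Finset.mem_erase.2 ⟨?_, Finset.mem_erase.2 ⟨?_, ?_⟩⟩
      · intro e
        apply fz
        have : z = g⁻¹ * (g * z * g⁻¹) * g := by group
        rw [this, e, mul_assoc, ← hg', inv_mul_cancel_left]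
      · intro e
        apply z1
        rw [mul_inv_eq_one] at e
        exact mul_eq_left.1 e
      · rcases hU₁ _ (hn₁ g hg' z (LU₁ zL)) with h | ⟨c, hcL', h⟩
        · exact Finset.mem_union_left _ (memLf.2 h)
        · rw [h]
          exact Finset.mem_union_right _ (Finset.mem_image.2 ⟨c, memLf.2 hcL', rfl⟩)
    · intro g hg e
      exact mem_inf.2 ⟨mem_centralizer_singleton_iff.2 e, hg⟩
  rw [hJ] at s1
  omega

end Cfsg.Agent.OddHalf.D5.SixAut.HsxJ

end

-- merged: Cfsg.Agent.OddHalf.D5.SixAut.HsxD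
section

/-!
# ODD D5, `K = A₆`, `C(x)/⟨x⟩ = Aut(A₆)`, (d) of #12805 (helper383)

`W` an elementary abelian normal subgroup of `C(z)`, `W ≰ ⟨z⟩`: then `z, f ∈ W` and `C_W(x) = ⟨z, f⟩`.
-/

set_option autoImplicit false

namespace Cfsg.Agent.OddHalf.D5.SixAut

open Equiv Subgroup

variable {G : Type*} [Group G]

namespace AutSpl

variable {x r : G} {ι : Perm (Fin 6) →* G}

/-- `C(x) ∩ C(z)` -/
theorem cent_z (h : AutSpl x ι r) {g : G} (hx : g * x = x * g) (hz : g * ι pz = ι pz * g) :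
    ∃ a, a * pz = pz * a ∧ (g = ι a ∨ g = x * ι a ∨ g = ι a * r ∨ g = x * (ι a * r)) := by
  have cancel : ∀ {u : G}, x * u * ι pz = ι pz * (x * u) → u * ι pz = ι pz * u := by
    intro u e
    rw [mul_assoc, ← mul_assoc (ι pz), ← h.comm, mul_assoc] at e
    exact mul_left_cancel e
  obtain ⟨a, e | e | e | e⟩ := h.cent g hx
  · refine ⟨a, ?_, Or.inl e⟩
    rw [e] at hz; exact h.comm_ι.1 hz
  · refine ⟨a, ?_, Or.inr (Or.inl e)⟩
    rw [e] at hz; exact h.comm_ι.1 (cancel hz)
  · refine ⟨a, ?_, Or.inr (Or.inr (Or.inl e))⟩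
    rw [e] at hz
    have := h.comm_r.1 hz
    rwa [θ_z] at this
  · refine ⟨a, ?_, Or.inr (Or.inr (Or.inr e))⟩
    rw [e] at hz
    have := h.comm_r.1 (cancel hz)
    rwa [θ_z] at this

theorem card_z : (Finset.univ.filter (fun a : Perm (Fin 6) => a * pz = pz * a)).card = 16 := by decide +kernel

theorem card_T_le [Finite G] (h : AutSpl x ι r) :
    Nat.card (centralizer ({x} : Set G) ⊓ centralizer ({ι pz} : Set G) : Subgroup G) ≤ 64 := by
  classical
  have hfin : Finite (↥(Finset.univ.filter (fun a : Perm (Fin 6) => a * pz = pz * a)) × Bool × Bool) :=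
    inferInstance
  have hc : Nat.card (↥(Finset.univ.filter (fun a : Perm (Fin 6) => a * pz = pz * a)) × Bool × Bool) = 64 := by
    rw [Nat.card_prod, Nat.card_prod, Nat.card_eq_fintype_card, Nat.card_eq_fintype_card, Fintype.card_coe,
      card_z, Fintype.card_bool]
  rw [← hc]
  have key : ∀ g : (centralizer ({x} : Set G) ⊓ centralizer ({ι pz} : Set G) : Subgroup G),
      ∃ p : ↥(Finset.univ.filter (fun a : Perm (Fin 6) => a * pz = pz * a)) × Bool × Bool,
        (g : G) = (if p.2.1 then x else 1) * (ι p.1 * (if p.2.2 then r else 1)) := by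
    intro g
    obtain ⟨a, ha, e⟩ := h.cent_z (mem_centralizer_singleton_iff.1 (mem_inf.1 g.2).1)
      (mem_centralizer_singleton_iff.1 (mem_inf.1 g.2).2)
    have ha' : a ∈ Finset.univ.filter (fun a : Perm (Fin 6) => a * pz = pz * a) :=
      Finset.mem_filter.2 ⟨Finset.mem_univ _, ha⟩
    rcases e with e | e | e | e
    · exact ⟨⟨⟨a, ha'⟩, false, false⟩, by simpa using e⟩
    · exact ⟨⟨⟨a, ha'⟩, true, false⟩, by simpa using e⟩
    · exact ⟨⟨⟨a, ha'⟩, false, true⟩, by simpa using e⟩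
    · exact ⟨⟨⟨a, ha'⟩, true, true⟩, by simpa using e⟩
  choose φ hφ using key
  refine Nat.card_le_card_of_injective φ ?_
  intro a b e
  apply Subtype.ext
  rw [hφ a, hφ b, e]

/-- `a` commutes with its conjugates under `C(z)` and with `θ a` -/
theorem perm_fact₁ : ∀ a : Perm (Fin 6), a * a = 1 → a * pz = pz * a → a * θ a = θ a * a →
    a = 1 ∨ a = pz ∨ a = pf ∨ a = pf * pz := by decide +kernel

theorem perm_fact₂ : ∀ a : Perm (Fin 6), a * pz = pz * a → a * θ a = 1 →
    a * θ (pv1 * a * pv2) ≠ pv1 * a * pv2 * θ a := by decide +kernel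

theorem pv1_pz : pv1 * pz = pz * pv1 := by decide +kernel
theorem pv1_pv1 : pv1 * pv1 = 1 := by decide +kernel

/-- an involution (or `1`) of `C(x) ∩ C(z)` which commutes with its conjugates under `C(x) ∩ C(z)` -/
theorem mem_Y (h : AutSpl x ι r) {w : G} (ww : w * w = 1) (wx : w * x = x * w) (wz : w * ι pz = ι pz * w)
    (hc : ∀ t, t * x = x * t → t * ι pz = ι pz * t → w * (t * w * t⁻¹) = t * w * t⁻¹ * w) :
    ∃ e, (e = 1 ∨ e = pz ∨ e = pf ∨ e = pf * pz) ∧ (w = ι e ∨ w = x * ι e) := by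
  have rz : r * ι pz = ι pz * r := by rw [h.rι, θ_z]
  have vx : ι pv1 * x = x * ι pv1 := h.comm' _
  have vz : ι pv1 * ι pz = ι pz * ι pv1 := by rw [← map_mul, pv1_pz, map_mul]
  have c1 := hc r h.rx rz
  have c2 := hc (ι pv1) vx vz
  obtain ⟨a, ha, e⟩ := h.cent_z wx wz
  -- strip `x`
  have strip : ∀ u t : G, u * x = x * u → t * x = x * t →
      x * u * (t * (x * u) * t⁻¹) = t * (x * u) * t⁻¹ * (x * u) → u * (t * u * t⁻¹) = t * u * t⁻¹ * u := by
    intro u t hu ht e
    have e1 : t * (x * u) * t⁻¹ = x * (t * u * t⁻¹) := by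
      rw [← mul_assoc, ht]; group
    have hut : (t * u * t⁻¹) * x = x * (t * u * t⁻¹) := by
      have ht' : t⁻¹ * x = x * t⁻¹ := by
        rw [inv_mul_eq_iff_eq_mul, ← mul_assoc, ht, mul_inv_cancel_right]
      rw [mul_assoc, ht', ← mul_assoc, mul_assoc t, hu, ← mul_assoc, ht]; group
    rw [e1] at e
    have e2 : x * u * (x * (t * u * t⁻¹)) = x * x * (u * (t * u * t⁻¹)) := by
      calc x * u * (x * (t * u * t⁻¹)) = x * (u * x) * (t * u * t⁻¹) := by group
        _ = x * x * (u * (t * u * t⁻¹)) := by rw [hu]; group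
    have e3 : x * (t * u * t⁻¹) * (x * u) = x * x * (t * u * t⁻¹ * u) := by
      calc x * (t * u * t⁻¹) * (x * u) = x * ((t * u * t⁻¹) * x) * u := by group
        _ = x * x * (t * u * t⁻¹ * u) := by rw [hut]; group
    rw [e2, e3, h.xx, one_mul, one_mul] at e
    exact e
  have sq : ∀ u : G, u * x = x * u → x * u * (x * u) = 1 → u * u = 1 := by
    intro u hu e
    rw [mul_assoc, ← mul_assoc u, hu, mul_assoc, ← mul_assoc, h.xx, one_mul] at e
    exact e
  -- the two kinds of elements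
  have caseA : ∀ b, b * pz = pz * b → ι b * ι b = 1 → ι b * (r * ι b * r⁻¹) = r * ι b * r⁻¹ * ι b →
      b = 1 ∨ b = pz ∨ b = pf ∨ b = pf * pz := by
    intro b hb e1 e2
    rw [h.conj, ← map_mul, ← map_mul] at e2
    rw [← map_mul] at e1
    exact perm_fact₁ b (h.one_iff.1 e1) hb (h.inj e2)
  have caseB : ∀ b, b * pz = pz * b → ι b * r * (ι b * r) = 1 →
      ι b * r * (ι pv1 * (ι b * r) * (ι pv1)⁻¹) = ι pv1 * (ι b * r) * (ι pv1)⁻¹ * (ι b * r) → False := by
    intro b hb e1 e2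
    rw [h.sq_r] at e1
    have hrr : r * r = 1 := by
      rcases h.rr with e | e
      · exact e
      · rw [e] at e1
        exfalso
        apply h.ne (b * θ b)⁻¹
        rw [map_inv]
        exact (eq_inv_of_mul_eq_one_right e1).symm
    rw [hrr, mul_one] at e1
    have e3 : b * θ b = 1 := h.one_iff.1 e1
    have hr' : r⁻¹ = r := inv_eq_of_mul_eq_one_left hrr
    have hv' : (ι pv1)⁻¹ = ι pv1 := by rw [← map_inv, inv_eq_of_mul_eq_one_left pv1_pv1]
    have e4 : ι pv1 * (ι b * r) * (ι pv1)⁻¹ = ι (pv1 * b * pv2) * r := by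
      rw [hv']
      calc ι pv1 * (ι b * r) * ι pv1 = ι pv1 * ι b * (r * ι pv1) := by group
        _ = ι (pv1 * b * pv2) * r := by rw [h.rι, θ_v1, map_mul, map_mul]; group
    rw [e4] at e2
    have e5 : ∀ c d : Perm (Fin 6), ι c * r * (ι d * r) = ι (c * θ d) := by
      intro c d
      calc ι c * r * (ι d * r) = ι c * (r * ι d) * r := by group
        _ = ι (c * θ d) * (r * r) := by rw [h.rι, map_mul]; group
        _ = ι (c * θ d) := by rw [hrr, mul_one]
    rw [e5, e5] at e2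
    exact perm_fact₂ b hb e3 (h.inj e2)
  have arx : ι a * r * x = x * (ι a * r) := by
    rw [mul_assoc, h.rx, ← mul_assoc, h.comm', mul_assoc]
  rcases e with rfl | rfl | rfl | rfl
  · exact ⟨a, caseA a ha ww c1, Or.inl rfl⟩
  · exact ⟨a, caseA a ha (sq _ (h.comm' a) ww) (strip _ _ (h.comm' a) h.rx c1), Or.inr rfl⟩
  · exact (caseB a ha ww c2).elim
  · exact (caseB a ha (sq _ arx ww) (strip _ _ arx vx c2)).elim

end AutSpl

/-- **(d)**, if `x ∉ W` -/
theorem exists_WN_of [Finite G] {x r : G} {ι : Perm (Fin 6) →* G} (h : AutSpl x ι r)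
    (hb : ∃ b, b * ι pf = ι pf * b ∧ b * ι pz = ι pz * b ∧ b * x * b⁻¹ = x * ι pf)
    (hker : ∀ (m : centralizer ({ι pz} : Set G) →* ℤˣ) (hx : x ∈ centralizer ({ι pz} : Set G)), m ⟨x, hx⟩ = 1)
    (W : Subgroup G) (el : ∀ a ∈ W, a * a = 1) (hWz : ∀ w ∈ W, w * ι pz = ι pz * w)
    (nz : ∀ g, g * ι pz = ι pz * g → ∀ w ∈ W, g * w * g⁻¹ ∈ W)
    (hW : ∃ w ∈ W, w ≠ 1 ∧ w ≠ ι pz) (xW : x ∉ W) :
    ι pz ∈ W ∧ ι pf ∈ W ∧ ∀ w ∈ W, w * x = x * w → w = 1 ∨ w = ι pz ∨ w = ι pf ∨ w = ι pf * ι pz := by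
  classical
  obtain ⟨b, bf, bz, bx⟩ := hb
  have ab : ∀ a ∈ W, ∀ c ∈ W, a * c = c * a := by
    intro a ha c hc
    have e1 := el a ha
    have e2 := el c hc
    have e3 := el _ (W.mul_mem ha hc)
    have i1 : a⁻¹ = a := inv_eq_of_mul_eq_one_left e1
    have i2 : c⁻¹ = c := inv_eq_of_mul_eq_one_left e2
    have i3 : (a * c)⁻¹ = a * c := inv_eq_of_mul_eq_one_left e3
    rw [← i3, mul_inv_rev, i1, i2]
  have xz : x * ι pz = ι pz * x := h.comm _
  have xf : x * ι pf = ι pf * x := h.comm _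
  have zf : ι pz * ι pf = ι pf * ι pz := by
    rw [← map_mul, ← map_mul]; congr 1; decide +kernel
  have zz : ι pz * ι pz = 1 := by
    rw [← map_mul, show pz * pz = 1 by decide +kernel, map_one]
  have ff : ι pf * ι pf = 1 := by
    rw [← map_mul, show pf * pf = 1 by decide +kernel, map_one]
  have z1 : ι pz ≠ 1 := fun e => absurd (h.one_iff.1 e) (by decide +kernel)
  have rz : r * ι pz = ι pz * r := by rw [h.rι, θ_z]
  have rfr : r * ι pf * r⁻¹ = ι pf * ι pz := by rw [h.conj, θ_f, map_mul]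
  have rzr : r * ι pz * r⁻¹ = ι pz := by rw [rz, mul_inv_cancel_right]
  -- `W ∩ C(x) ⊆ Y`
  have inY : ∀ w ∈ W, w * x = x * w →
      ∃ e, (e = 1 ∨ e = pz ∨ e = pf ∨ e = pf * pz) ∧ (w = ι e ∨ w = x * ι e) := by
    intro w hw wx
    exact h.mem_Y (el w hw) wx (hWz w hw) fun t _ tz => ab _ hw _ (nz t tz w hw)
  have bxf : b * (x * ι pf) * b⁻¹ = x := by
    calc b * (x * ι pf) * b⁻¹ = (b * x * b⁻¹) * (b * ι pf * b⁻¹) := by group
      _ = x * ι pf * ι pf := by rw [bx, bf, mul_inv_cancel_right]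
      _ = x := by rw [mul_assoc, ff, mul_one]
  have bxz : b * (x * ι pz) * b⁻¹ = x * ι pf * ι pz := by
    calc b * (x * ι pz) * b⁻¹ = (b * x * b⁻¹) * (b * ι pz * b⁻¹) := by group
      _ = x * ι pf * ι pz := by rw [bx, bz, mul_inv_cancel_right]
  have xfW : x * ι pf ∉ W := by
    intro hx
    have := nz b bz _ hx
    rw [bxf] at this
    exact xW this
  have fz_of : ι pf ∈ W → ι pz ∈ W := by
    intro hf
    have h1 := nz r rz _ hf
    rw [rfr] at h1
    have h2 := W.mul_mem hf h1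
    rwa [← mul_assoc, ff, one_mul] at h2
  have xzW : x * ι pz ∉ W := by
    intro hx
    have h1 := nz b bz _ hx
    rw [bxz] at h1
    have h2 := W.mul_mem hx h1
    have e : x * ι pz * (x * ι pf * ι pz) = ι pf := by
      calc x * ι pz * (x * ι pf * ι pz) = x * (ι pz * x) * (ι pf * ι pz) := by group
        _ = x * x * (ι pz * (ι pf * ι pz)) := by rw [← xz]; group
        _ = ι pf := by rw [h.xx, one_mul, ← zf, ← mul_assoc, zz, one_mul]
    rw [e] at h2
    have h3 := W.mul_mem hx (fz_of h2)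
    rw [mul_assoc, zz, mul_one] at h3
    exact xW h3
  have xfzW : x * (ι pf * ι pz) ∉ W := by
    intro hx
    have h1 := nz b bz _ hx
    have e : b * (x * (ι pf * ι pz)) * b⁻¹ = x * ι pz := by
      calc b * (x * (ι pf * ι pz)) * b⁻¹ = (b * x * b⁻¹) * (b * ι pf * b⁻¹) * (b * ι pz * b⁻¹) := by group
        _ = x * ι pf * ι pf * ι pz := by rw [bx, bf, bz, mul_inv_cancel_right, mul_inv_cancel_right]
        _ = x * ι pz := by rw [mul_assoc x, ff, mul_one]
    rw [e] at h1
    exact xzW h1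
  have cx : ∀ w ∈ W, w * x = x * w → w = 1 ∨ w = ι pz ∨ w = ι pf ∨ w = ι pf * ι pz := by
    intro w hw wx
    obtain ⟨e, he, e1 | e1⟩ := inY w hw wx
    · rcases he with rfl | rfl | rfl | rfl
      · rw [map_one] at e1; exact Or.inl e1
      · exact Or.inr (Or.inl e1)
      · exact Or.inr (Or.inr (Or.inl e1))
      · rw [map_mul] at e1; exact Or.inr (Or.inr (Or.inr e1))
    · exfalso
      rcases he with rfl | rfl | rfl | rfl
      · rw [map_one, mul_one] at e1; exact xW (e1 ▸ hw)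
      · exact xzW (e1 ▸ hw)
      · exact xfW (e1 ▸ hw)
      · rw [map_mul] at e1; exact xfzW (e1 ▸ hw)
  have xinv : x⁻¹ = x := h.x_inv
  have conjx : ∀ w ∈ W, x * w * x ∈ W := by
    intro w hw
    have := nz x xz w hw
    rwa [xinv] at this
  have comx : ∀ w ∈ W, (w * (x * w * x)) * x = x * (w * (x * w * x)) := by
    intro w hw
    calc (w * (x * w * x)) * x = w * x * w * (x * x) := by group
      _ = w * x * w := by rw [h.xx, mul_one]
      _ = (x * x) * (w * x * w) := by rw [h.xx, one_mul]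
      _ = x * ((x * w * x) * w) := by group
      _ = x * (w * (x * w * x)) := by rw [ab _ (conjx w hw) _ hw]
  -- from a nontrivial element of `C_W(x)`
  have z_of : ∀ w ∈ W, w * x = x * w → w ≠ 1 → ι pz ∈ W := by
    intro w hw wx w1
    rcases cx w hw wx with e | e | e | e
    · exact absurd e w1
    · rw [e] at hw; exact hw
    · rw [e] at hw; exact fz_of hw
    · rw [e] at hw
      have h1 := nz r rz _ hw
      have e2 : r * (ι pf * ι pz) * r⁻¹ = ι pf := by
        calc r * (ι pf * ι pz) * r⁻¹ = (r * ι pf * r⁻¹) * (r * ι pz * r⁻¹) := by group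
          _ = ι pf := by rw [rfr, rzr, mul_assoc, zz, mul_one]
      rw [e2] at h1
      exact fz_of h1
  obtain ⟨w, hw, w1, wz⟩ := hW
  have zW : ι pz ∈ W := by
    by_cases hc : w * x = x * w
    · exact z_of w hw hc w1
    · refine z_of _ (W.mul_mem hw (conjx w hw)) (comx w hw) ?_
      intro e
      apply hc
      have e1 : x * w * x = w := by
        have := eq_inv_of_mul_eq_one_right e
        rw [this, inv_eq_of_mul_eq_one_left (el w hw)]
      calc w * x = (x * w * x) * x := by rw [e1]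
        _ = x * w := by rw [mul_assoc, h.xx, mul_one]
  have fW : ι pf ∈ W := by
    by_contra hf
    have fz : ι pf * ι pz ∉ W := fun hh => hf (by
      have := W.mul_mem hh zW
      rwa [mul_assoc, zz, mul_one] at this)
    have cx' : ∀ w ∈ W, w * x = x * w → w = 1 ∨ w = ι pz := by
      intro w hw wx
      rcases cx w hw wx with e | e | e | e
      · exact Or.inl e
      · exact Or.inr e
      · exact absurd (e ▸ hw) hf
      · exact absurd (e ▸ hw) fz
    -- elements outside are moved by `z`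
    have mv : ∀ w ∈ W, w ≠ 1 → w ≠ ι pz → x * w * x = w * ι pz := by
      intro w hw w1 wz
      rcases cx' _ (W.mul_mem hw (conjx w hw)) (comx w hw) with e | e
      · exfalso
        have e1 : x * w * x = w := by
          have := eq_inv_of_mul_eq_one_right e
          rw [this, inv_eq_of_mul_eq_one_left (el w hw)]
        have e2 : w * x = x * w := by
          calc w * x = (x * w * x) * x := by rw [e1]
            _ = x * w := by rw [mul_assoc, h.xx, mul_one]
        rcases cx' w hw e2 with e3 | e3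
        · exact w1 e3
        · exact wz e3
      · calc x * w * x = (w * w) * (x * w * x) := by rw [el w hw, one_mul]
          _ = w * (w * (x * w * x)) := by group
          _ = w * ι pz := by rw [e]
    have two : ∀ u ∈ W, u ≠ 1 → u ≠ ι pz → u = w ∨ u = w * ι pz := by
      intro u hu u1 uz
      have e1 := mv u hu u1 uz
      have e2 := mv w hw w1 wz
      have e3 : (w * u) * x = x * (w * u) := by
        have e4 : x * (w * u) * x = w * u := by
          calc x * (w * u) * x = (x * w) * (x * x) * (u * x) := by rw [h.xx]; group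
            _ = (x * w * x) * (x * u * x) := by group
            _ = w * (ι pz * u) * ι pz := by rw [e1, e2]; group
            _ = w * u * (ι pz * ι pz) := by rw [ab _ zW _ hu]; group
            _ = w * u := by rw [zz, mul_one]
        calc (w * u) * x = x * (w * u) * x * x := by rw [e4]
          _ = x * (w * u) := by rw [mul_assoc, h.xx, mul_one]
      have wi : w⁻¹ = w := inv_eq_of_mul_eq_one_left (el w hw)
      rcases cx' _ (W.mul_mem hw hu) e3 with e | e
      · left
        rw [← wi]; exact eq_inv_of_mul_eq_one_right e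
      · right
        calc u = (w * w) * u := by rw [el w hw, one_mul]
          _ = w * (w * u) := by group
          _ = w * ι pz := by rw [e]
    have cz : ∀ g, g * ι pz = ι pz * g → g * w * g⁻¹ = w ∨ g * w * g⁻¹ = w * ι pz := by
      intro g hg
      refine two _ (nz g hg w hw) ?_ ?_
      · intro e
        rw [mul_inv_eq_one] at e
        exact w1 (mul_eq_left.1 e)
      · intro e
        apply wz
        have : w = g⁻¹ * (g * w * g⁻¹) * g := by group
        rw [this, e, mul_assoc, ← hg, inv_mul_cancel_left]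
    have wz' : w * ι pz ≠ w := fun e => z1 (mul_eq_left.1 e)
    have memz : ∀ g : centralizer ({ι pz} : Set G), (g : G) * ι pz = ι pz * g := fun g =>
      mem_centralizer_singleton_iff.1 g.2
    let m : centralizer ({ι pz} : Set G) →* ℤˣ :=
      { toFun := fun g => if (g : G) * w * (g : G)⁻¹ = w then 1 else -1
        map_one' := by simp
        map_mul' := by
          intro g k
          have e0 : ((g * k : centralizer ({ι pz} : Set G)) : G) * w * ((g * k : centralizer ({ι pz} : Set G)) : G)⁻¹ =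
              (g : G) * ((k : G) * w * (k : G)⁻¹) * (g : G)⁻¹ := by
            rw [Subgroup.coe_mul]; group
          have eg : (g : G) * (w * ι pz) * (g : G)⁻¹ = (g : G) * w * (g : G)⁻¹ * ι pz := by
            have := memz g
            calc (g : G) * (w * ι pz) * (g : G)⁻¹ = g * w * (ι pz * (g : G)⁻¹) := by group
              _ = g * w * ((g : G)⁻¹ * ι pz) := by
                  have e9 : ι pz * (g : G)⁻¹ = (g : G)⁻¹ * ι pz := by
                    rw [eq_inv_mul_iff_mul_eq, ← mul_assoc, this, mul_inv_cancel_right]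
                  rw [e9]
              _ = (g : G) * w * (g : G)⁻¹ * ι pz := by group
          rw [e0]
          have n1 : (-1 : ℤˣ) ≠ 1 := by decide
          have n2 : (-1 : ℤˣ) * -1 = 1 := by decide
          have e8 : w * ι pz * ι pz = w := by rw [mul_assoc, zz, mul_one]
          rcases cz g (memz g) with e1 | e1 <;> rcases cz k (memz k) with e2 | e2
          · rw [e2, e1, if_pos rfl, one_mul]
          · rw [e2, eg, e1, if_neg wz', if_pos rfl, one_mul]
          · rw [e2, e1, if_neg wz', if_pos rfl, mul_one]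
          · rw [e2, eg, e1, e8, if_pos rfl, if_neg wz', n2] }
    have hx := hker m (mem_centralizer_singleton_iff.2 xz)
    have hm : m ⟨x, mem_centralizer_singleton_iff.2 xz⟩ = if x * w * x⁻¹ = w then 1 else -1 := rfl
    rw [hm, xinv, mv w hw w1 wz, if_neg wz'] at hx
    exact absurd hx (by decide)
  exact ⟨zW, fW, cx⟩

/-- **(d)** -/
theorem exists_WN [Finite G] {x r : G} {ι : Perm (Fin 6) →* G} (h : AutSpl x ι r)
    (hb : ∃ b, b * ι pf = ι pf * b ∧ b * ι pz = ι pz * b ∧ b * x * b⁻¹ = x * ι pf)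
    (hcard : 512 < Nat.card (centralizer ({ι pz} : Set G)))
    (hker : ∀ (m : centralizer ({ι pz} : Set G) →* ℤˣ) (hx : x ∈ centralizer ({ι pz} : Set G)), m ⟨x, hx⟩ = 1)
    (W : Subgroup G) (el : ∀ a ∈ W, a * a = 1) (hWz : ∀ w ∈ W, w * ι pz = ι pz * w)
    (nz : ∀ g, g * ι pz = ι pz * g → ∀ w ∈ W, g * w * g⁻¹ ∈ W)
    (hW : ∃ w ∈ W, w ≠ 1 ∧ w ≠ ι pz) :
    ι pz ∈ W ∧ ι pf ∈ W ∧ ∀ w ∈ W, w * x = x * w → w = 1 ∨ w = ι pz ∨ w = ι pf ∨ w = ι pf * ι pz := by
  classical
  have ab : ∀ a ∈ W, ∀ c ∈ W, a * c = c * a := by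
    intro a ha c hc
    have e1 := el a ha
    have e2 := el c hc
    have e3 := el _ (W.mul_mem ha hc)
    have i1 : a⁻¹ = a := inv_eq_of_mul_eq_one_left e1
    have i2 : c⁻¹ = c := inv_eq_of_mul_eq_one_left e2
    have i3 : (a * c)⁻¹ = a * c := inv_eq_of_mul_eq_one_left e3
    rw [← i3, mul_inv_rev, i1, i2]
  have inY : ∀ w ∈ W, w * x = x * w →
      ∃ e, (e = 1 ∨ e = pz ∨ e = pf ∨ e = pf * pz) ∧ (w = ι e ∨ w = x * ι e) := by
    intro w hw wx
    exact h.mem_Y (el w hw) wx (hWz w hw) fun t _ tz => ab _ hw _ (nz t tz w hw)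
  -- `x ∉ W`
  have xW : x ∉ W := by
    intro hx
    have key : Nat.card (centralizer ({ι pz} : Set G)) ≤ 8 * 64 := by
      let S : Finset G := ({1, pz, pf, pf * pz} : Finset (Perm (Fin 6))).image (fun e => ι e) ∪
        ({1, pz, pf, pf * pz} : Finset (Perm (Fin 6))).image (fun e => x * ι e)
      have hS : S.card ≤ 8 := by
        refine (Finset.card_union_le _ _).trans ?_
        have h4 : ({1, pz, pf, pf * pz} : Finset (Perm (Fin 6))).card ≤ 4 := Finset.card_le_four
        have h5 := (Finset.card_image_le (s := ({1, pz, pf, pf * pz} : Finset (Perm (Fin 6))))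
          (f := fun e => ι e)).trans h4
        have h6 := (Finset.card_image_le (s := ({1, pz, pf, pf * pz} : Finset (Perm (Fin 6))))
          (f := fun e => x * ι e)).trans h4
        omega
      refine (HsxJ.card_le_mul (B := centralizer ({x} : Set G) ⊓ centralizer ({ι pz} : Set G)) (v := x) S
        ?_ ?_).trans (Nat.mul_le_mul hS h.card_T_le)
      · intro g hg
        have hgz := mem_centralizer_singleton_iff.1 hg
        have hgx := nz g hgz x hx
        obtain ⟨e, he, e1⟩ := inY _ hgx (ab _ hgx _ hx)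
        have heS : e ∈ ({1, pz, pf, pf * pz} : Finset (Perm (Fin 6))) := by
          simp only [Finset.mem_insert, Finset.mem_singleton]; exact he
        rcases e1 with e1 | e1
        · rw [e1]; exact Finset.mem_union_left _ (Finset.mem_image.2 ⟨e, heS, rfl⟩)
        · rw [e1]; exact Finset.mem_union_right _ (Finset.mem_image.2 ⟨e, heS, rfl⟩)
      · intro g hg e
        exact mem_inf.2 ⟨mem_centralizer_singleton_iff.2 e, hg⟩
    omega
  exact exists_WN_of h hb hker W el hWz nz hW xW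

/-- **(d)** for (DBL): some `w ∈ C(z)` maps `x` to `x v₁` -/
theorem exists_WN_dbl [Finite G] {x r : G} {ι : Perm (Fin 6) →* G} (h : AutSpl x ι r)
    (hb : ∃ b, b * ι pf = ι pf * b ∧ b * ι pz = ι pz * b ∧ b * x * b⁻¹ = x * ι pf)
    (hv : ∃ w, w * ι pz = ι pz * w ∧ w * x * w⁻¹ = x * ι pv1)
    (hker : ∀ (m : centralizer ({ι pz} : Set G) →* ℤˣ) (hx : x ∈ centralizer ({ι pz} : Set G)), m ⟨x, hx⟩ = 1)
    (W : Subgroup G) (el : ∀ a ∈ W, a * a = 1) (hWz : ∀ w ∈ W, w * ι pz = ι pz * w)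
    (nz : ∀ g, g * ι pz = ι pz * g → ∀ w ∈ W, g * w * g⁻¹ ∈ W)
    (hW : ∃ w ∈ W, w ≠ 1 ∧ w ≠ ι pz) :
    ι pz ∈ W ∧ ι pf ∈ W ∧ ∀ w ∈ W, w * x = x * w → w = 1 ∨ w = ι pz ∨ w = ι pf ∨ w = ι pf * ι pz := by
  refine exists_WN_of h hb hker W el hWz nz hW ?_
  intro hx
  obtain ⟨w, wz, wx⟩ := hv
  have ab : ∀ a ∈ W, ∀ c ∈ W, a * c = c * a := by
    intro a ha c hc
    have e1 := el a ha
    have e2 := el c hc
    have e3 := el _ (W.mul_mem ha hc)
    have i1 : a⁻¹ = a := inv_eq_of_mul_eq_one_left e1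
    have i2 : c⁻¹ = c := inv_eq_of_mul_eq_one_left e2
    have i3 : (a * c)⁻¹ = a * c := inv_eq_of_mul_eq_one_left e3
    rw [← i3, mul_inv_rev, i1, i2]
  have h1 := nz w wz x hx
  rw [wx] at h1
  obtain ⟨e, he, e1⟩ := h.mem_Y (el _ h1) (ab _ h1 _ hx) (hWz _ h1) fun t _ tz => ab _ h1 _ (nz t tz _ h1)
  rcases e1 with e1 | e1
  · exact h.ne_x _ _ e1.symm
  · have e2 := h.xι_inj e1
    rcases he with rfl | rfl | rfl | rfl <;> revert e2 <;> decide +kernel

end Cfsg.Agent.OddHalf.D5.SixAut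

end
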