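import Cfsg.Agent.OddHalf.D5.SixAut.HsxDefs
import Cfsg.Agent.OddHalf.D5.SixAut.HsxD

-- merged: Cfsg.Agent.OddHalf.D5.SixAut.HsxW
section

/-!
# ODD D5, `n = 6`, `C_G(x)/⟨x⟩ = Aut(A_6)`, the case (HSx): the elementary abelian normal subgroups of `C(z)`

For `i ∈ {z, f, f z}` let `W_i` be the conjugate of `W` normal in `C(i)` (`In z W i w` : `w ∈ W_i`). Then
`U₁ = ⟨z, f, v₁⟩ ≤ W_f`, `x ∉ W_f` (`not_x`), and if `W_f ≠ U₁` then `b ∈ W_f`, which is impossible (`not_b`).
-/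

set_option autoImplicit false
set_option linter.unusedSectionVars false

namespace Cfsg.Agent.OddHalf.D5.SixAut.HsxW

variable {G : Type*} [Group G]

theorem comm_of_sq {a b : G} (ha : a * a = 1) (hb : b * b = 1) (hab : a * b * (a * b) = 1) : a * b = b * a := by
  have h1 : (a * b)⁻¹ = a * b := inv_eq_of_mul_eq_one_left hab
  have h2 : a⁻¹ = a := inv_eq_of_mul_eq_one_left ha
  have h3 : b⁻¹ = b := inv_eq_of_mul_eq_one_left hb
  calc a * b = (a * b)⁻¹ := h1.symm
    _ = b * a := by rw [mul_inv_rev, h2, h3]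

/-- `w ∈ W_i` -/
def In (z : G) (W : Subgroup G) (i w : G) : Prop := ∃ h, h * z * h⁻¹ = i ∧ h⁻¹ * w * h ∈ W

theorem In.conj {z i w : G} {W : Subgroup G} (h1 : In z W i w) (k : G) : In z W (k * i * k⁻¹) (k * w * k⁻¹) := by
  obtain ⟨h, e, hw⟩ := h1
  refine ⟨k * h, by rw [← e]; group, ?_⟩
  have e2 : (k * h)⁻¹ * (k * w * k⁻¹) * (k * h) = h⁻¹ * w * h := by group
  rwa [e2]

/-- conjugation inside `C(i)` -/
theorem In.conj' {z i w : G} {W : Subgroup G} (h1 : In z W i w) {k : G} (hk : k * i = i * k) :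
    In z W i (k * w * k⁻¹) := by
  have h2 := h1.conj k
  rwa [hk, mul_inv_cancel_right] at h2

theorem In.of_mem {z w : G} {W : Subgroup G} (hw : w ∈ W) : In z W z w :=
  ⟨1, by group, by simpa using hw⟩

section basic

variable {x z f : G} {W : Subgroup G} (hW : WN x z f W)
include hW

theorem In.all {i w : G} (hi : In z W i w) (h : G) (e : h * z * h⁻¹ = i) : h⁻¹ * w * h ∈ W := by
  obtain ⟨h0, e0, hw⟩ := hi
  have h1 : (h⁻¹ * h0) * z = z * (h⁻¹ * h0) := by
    have e1 : h0 * z * h0⁻¹ = h * z * h⁻¹ := by rw [e0, e]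
    calc (h⁻¹ * h0) * z = h⁻¹ * (h0 * z * h0⁻¹) * h0 := by group
      _ = h⁻¹ * (h * z * h⁻¹) * h0 := by rw [e1]
      _ = z * (h⁻¹ * h0) := by group
  have h2 := hW.nz _ h1 _ hw
  have e2 : (h⁻¹ * h0) * (h0⁻¹ * w * h0) * (h⁻¹ * h0)⁻¹ = h⁻¹ * w * h := by group
  rwa [e2] at h2

theorem In.mem {w : G} (hi : In z W z w) : w ∈ W := by
  have := In.all hW hi 1 (by group)
  simpa using this

theorem In.mul {i w w' : G} (h1 : In z W i w) (h2 : In z W i w') : In z W i (w * w') := by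
  obtain ⟨h, e, hw⟩ := h1
  have h3 := In.all hW h2 h e
  refine ⟨h, e, ?_⟩
  have e2 : h⁻¹ * (w * w') * h = (h⁻¹ * w * h) * (h⁻¹ * w' * h) := by group
  rw [e2]
  exact W.mul_mem hw h3

theorem In.sq {i w : G} (h1 : In z W i w) : w * w = 1 := by
  obtain ⟨h, e, hw⟩ := h1
  have h2 := hW.el _ hw
  have e2 : (h⁻¹ * w * h) * (h⁻¹ * w * h) = h⁻¹ * (w * w) * h := by group
  rw [e2] at h2
  have e3 : h * (h⁻¹ * (w * w) * h) * h⁻¹ = w * w := by group
  rw [← e3, h2]; group

theorem In.comm {i w w' : G} (h1 : In z W i w) (h2 : In z W i w') : w * w' = w' * w :=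
  comm_of_sq (In.sq hW h1) (In.sq hW h2) (In.sq hW (In.mul hW h1 h2))

/-- `[w, x] ∈ C(x)` for `w ∈ W_i`, `x ∈ C(i)` -/
theorem In.brak {i w : G} (xx : x * x = 1) (hi : x * i = i * x) (h1 : In z W i w) :
    ∃ u, In z W i u ∧ u * x = x * u ∧ w * x * w⁻¹ = x * u := by
  have xi : x⁻¹ = x := inv_eq_of_mul_eq_one_left xx
  have h2 : In z W i (x * w * x⁻¹) := h1.conj' hi
  have h3 := In.mul hW h2 h1
  have h4 := In.comm hW h2 h1
  have wi : w⁻¹ = w := inv_eq_of_mul_eq_one_left (In.sq hW h1)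
  refine ⟨_, h3, ?_, ?_⟩
  · have e1 : x * (x * w * x⁻¹ * w) * x⁻¹ = (x * x) * w * (x * x)⁻¹ * (x * w * x⁻¹) := by group
    rw [xx, inv_one, one_mul, mul_one] at e1
    have e2 : x * (x * w * x⁻¹ * w) * x⁻¹ = x * w * x⁻¹ * w := by rw [e1, h4]
    rw [mul_inv_eq_iff_eq_mul] at e2
    exact e2.symm
  · calc w * x * w⁻¹ = w * x * w := by rw [wi]
      _ = x * (x⁻¹ * w * x * w) := by group
      _ = x * (x * w * x⁻¹ * w) := by rw [xi]

end basic

section InL

theorem lcomm {z f s g : G} (hs : InL z f s) (hf : g * f = f * g) (hz : g * z = z * g) : g * s = s * g := by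
  unfold InL at hs
  rcases hs with rfl | rfl | rfl | rfl
  · rw [mul_one, one_mul]
  · exact hz
  · exact hf
  · rw [← mul_assoc, hf, mul_assoc, hz, mul_assoc]

variable {x z f v₁ v₂ b c : G} (h : T8R x z f v₁ v₂ b c)
include h

theorem lmul {s t : G} (hs : InL z f s) (ht : InL z f t) : InL z f (s * t) := by
  unfold InL at *
  rcases hs with rfl | rfl | rfl | rfl <;> rcases ht with rfl | rfl | rfl | rfl <;> nf8 h <;> simp

theorem lsq {s : G} (hs : InL z f s) : s * s = 1 := by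
  unfold InL at hs
  rcases hs with rfl | rfl | rfl | rfl <;> nf8 h

end InL

/-- `t ∈ U₁ = ⟨z, f, v₁⟩` -/
def InU (z f v₁ t : G) : Prop := ∃ l, InL z f l ∧ (t = l ∨ t = v₁ * l)

section frame

variable {x z f v₁ v₂ b c r d m : G} (h : HX x z f v₁ v₂ b c r d m)
include h

theorem t8 : T8R x z f v₁ v₂ b c := h.toT8R

theorem rho_z : (r * m) * z * (r * m)⁻¹ = f := by
  have hr := h.toT8R
  calc (r * m) * z * (r * m)⁻¹ = r * (m * z * m⁻¹) * r⁻¹ := by group
    _ = (r * f * r⁻¹) * (r * z * r⁻¹) := by rw [h.mz]; group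
    _ = f := by rw [h.rf, h.rz]; nf8 hr

theorem rho_f : (r * m) * f * (r * m)⁻¹ = f * z := by
  calc (r * m) * f * (r * m)⁻¹ = r * (m * f * m⁻¹) * r⁻¹ := by group
    _ = f * z := by rw [h.mf, h.rf]

theorem rho_fz : (r * m) * (f * z) * (r * m)⁻¹ = z := by
  have hr := h.toT8R
  calc (r * m) * (f * z) * (r * m)⁻¹ = ((r * m) * f * (r * m)⁻¹) * ((r * m) * z * (r * m)⁻¹) := by group
    _ = z := by rw [rho_f h, rho_z h]; nf8 hr

theorem fx : f * x = x * f := h.toT8R.fx

/-- `x ∉ ⟨z, f⟩` -/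
theorem x_notL : ¬ InL z f x := by
  intro hx
  have hr := h.toT8R
  have e1 := lcomm hx hr.fb.symm hr.zb.symm
  rw [hr.xb] at e1
  have e2 := mul_left_cancel e1
  rw [left_eq_mul] at e2
  exact hr.f1 e2

theorem rho_L {t : G} : InL z f ((r * m) * t * (r * m)⁻¹) → InL z f t := by
  intro ht
  have key : ∀ a b : G, (r * m) * t * (r * m)⁻¹ = a → (r * m) * b * (r * m)⁻¹ = a → t = b := by
    intro a b e1 e2
    exact mul_left_cancel (mul_right_cancel (e1.trans e2.symm))
  rcases ht with e | e | e | e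
  · left; exact key _ _ e (by group)
  · right; right; right; exact key _ _ e (rho_fz h)
  · right; left; exact key _ _ e (rho_z h)
  · right; right; left; exact key _ _ e (rho_f h)

theorem rho_L' {t : G} : InL z f ((r * m)⁻¹ * t * (r * m)) → InL z f t := by
  intro ht
  have e0 : (r * m) * ((r * m)⁻¹ * t * (r * m)) * (r * m)⁻¹ = t := by group
  rcases ht with e | e | e | e
  · left; rw [← e0, e]; group
  · right; right; left; rw [← e0, e]; exact rho_z h
  · right; right; right; rw [← e0, e]; exact rho_f h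
  · right; left; rw [← e0, e]; exact rho_fz h

/-- `C_G(x, U₁) = E₁` -/
theorem centU {g : G} (hx : g * x = x * g) (hf : g * f = f * g) (hz : g * z = z * g) (hv : g * v₁ = v₁ * g) :
    InU z f v₁ g ∨ ∃ t, InU z f v₁ t ∧ g = x * t := by
  have hr := h.toT8R
  obtain ⟨p, q, s, l, hp, hq, hs, hl, rfl⟩ := h.cent g hx hf hz
  have hlv : v₁ * l = l * v₁ := lcomm hl hr.fv₁.symm hr.zv₁.symm
  have hs1 : s = 1 := by
    rcases hs with hs | hs
    · exact hs
    · exfalso
      rw [hs] at hv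
      have hpv : p * v₁ = v₁ * p := by
        rcases hp with rfl | rfl
        · rw [one_mul, mul_one]
        · exact hr.v₁x.symm
      have hqv : q * v₁ = v₁ * q := by
        rcases hq with rfl | rfl
        · rw [one_mul, mul_one]
        · rfl
      have e1 : p * (q * (v₂ * l)) * v₁ = p * q * (v₂ * v₁) * l := by
        calc p * (q * (v₂ * l)) * v₁ = p * q * v₂ * (l * v₁) := by group
          _ = p * q * (v₂ * v₁) * l := by rw [← hlv]; group
      have e2 : v₁ * (p * (q * (v₂ * l))) = p * q * (v₁ * v₂) * l := by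
        calc v₁ * (p * (q * (v₂ * l))) = (v₁ * p) * (q * (v₂ * l)) := by group
          _ = p * (v₁ * q) * (v₂ * l) := by rw [← hpv]; group
          _ = p * q * (v₁ * v₂) * l := by rw [← hqv]; group
      rw [e1, e2] at hv
      have e3 := mul_left_cancel (mul_right_cancel hv)
      rw [hr.v₂v₁] at e3
      have e4 := mul_left_cancel e3
      rw [mul_eq_left] at e4
      exact hr.z1 e4
  subst hs1
  rw [one_mul]
  have hU : InU z f v₁ (q * l) := by
    refine ⟨l, hl, ?_⟩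
    rcases hq with rfl | rfl
    · left; rw [one_mul]
    · right; rfl
  rcases hp with rfl | rfl
  · left; rwa [one_mul]
  · right; exact ⟨_, hU, rfl⟩

variable {W : Subgroup G} (hW : WN x z f W)
include hW

theorem rz_ : r * z = z * r := by
  have := h.rz; rwa [mul_inv_eq_iff_eq_mul] at this

/-- `W_f ∋ f, z` -/
theorem f_f : In z W f f := by
  have h1 := (In.of_mem (z := z) hW.zW).conj (r * m)
  rwa [rho_z h] at h1

theorem f_fz : In z W f (f * z) := by
  have h1 := (In.of_mem (z := z) hW.fW).conj (r * m)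
  rwa [rho_z h, rho_f h] at h1

theorem f_z : In z W f z := by
  have h1 := In.mul hW (f_f h hW) (f_fz h hW)
  rwa [← mul_assoc, h.ff, one_mul] at h1

theorem f_v₁ : In z W f v₁ := by
  have h1 := (f_z h hW).conj d
  rwa [h.df, h.dz] at h1

theorem fz_of {w : G} (hw : In z W f w) : In z W (f * z) (r * w * r⁻¹) := by
  have h1 := hw.conj r
  rwa [h.rf] at h1

theorem of_fz {w : G} (hw : In z W (f * z) w) : In z W f (r⁻¹ * w * r) := by
  have hr := h.toT8R
  have h1 := hw.conj r⁻¹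
  rw [inv_inv] at h1
  have e1 : r⁻¹ * (f * z) * r = f := by rw [← h.rf]; group
  rwa [e1] at h1

theorem fz_f : In z W (f * z) f := by
  have h1 := (f_fz h hW).conj r
  have hr := h.toT8R
  have e1 : r * (f * z) * r⁻¹ = f := by
    calc r * (f * z) * r⁻¹ = (r * f * r⁻¹) * (r * z * r⁻¹) := by group
      _ = f := by rw [h.rf, h.rz]; nf8 hr
  rwa [e1, h.rf] at h1

theorem fz_z : In z W (f * z) z := by
  have h1 := fz_of h hW (f_z h hW)
  rwa [h.rz] at h1

theorem fz_v₂ : In z W (f * z) v₂ := by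
  have h1 := fz_of h hW (f_v₁ h hW)
  rwa [h.rv₁] at h1

/-- `ρ : W_z → W_f → W_{fz} → W_z` -/
theorem rho1 {w : G} (hw : In z W z w) : In z W f ((r * m) * w * (r * m)⁻¹) := by
  have h1 := hw.conj (r * m)
  rwa [rho_z h] at h1

theorem rho2 {w : G} (hw : In z W f w) : In z W (f * z) ((r * m) * w * (r * m)⁻¹) := by
  have h1 := hw.conj (r * m)
  rwa [rho_f h] at h1

theorem rho3 {w : G} (hw : In z W (f * z) w) : In z W z ((r * m) * w * (r * m)⁻¹) := by
  have h1 := hw.conj (r * m)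
  rwa [rho_fz h] at h1

theorem rho1' {w : G} (hw : In z W f w) : In z W z ((r * m)⁻¹ * w * (r * m)) := by
  have h1 := hw.conj (r * m)⁻¹
  have e1 : (r * m)⁻¹ * f * (r * m) = z := by rw [← rho_z h]; group
  rwa [inv_inv, e1] at h1

theorem rho2' {w : G} (hw : In z W (f * z) w) : In z W f ((r * m)⁻¹ * w * (r * m)) := by
  have h1 := hw.conj (r * m)⁻¹
  have e1 : (r * m)⁻¹ * (f * z) * (r * m) = f := by rw [← rho_f h]; group
  rwa [inv_inv, e1] at h1

theorem rho3' {w : G} (hw : In z W z w) : In z W (f * z) ((r * m)⁻¹ * w * (r * m)) := by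
  have h1 := hw.conj (r * m)⁻¹
  have e1 : (r * m)⁻¹ * z * (r * m) = f * z := by
    calc (r * m)⁻¹ * z * (r * m) = (r * m)⁻¹ * ((r * m) * (f * z) * (r * m)⁻¹) * (r * m) := by rw [rho_fz h]
      _ = f * z := by group
  rwa [inv_inv, e1] at h1

/-- **(1)** -/
theorem not_x : ¬ In z W f x := by
  intro hx
  have h1 : In z W (f * z) x := by
    have := fz_of h hW hx
    rwa [h.rx] at this
  have h2 := rho2 h hW hx
  have h3 := rho3 h hW h1
  have h4 := In.comm hW h2 h1
  exact x_notL h (rho_L h (hW.cx _ (In.mem hW h3) h4))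

/-- an element of `W_f` centralises `U₁` -/
theorem cU {w : G} (hw : In z W f w) : w * f = f * w ∧ w * z = z * w ∧ w * v₁ = v₁ * w :=
  ⟨In.comm hW hw (f_f h hW), In.comm hW hw (f_z h hW), In.comm hW hw (f_v₁ h hW)⟩

theorem InU_f {t : G} (ht : InU z f v₁ t) : In z W f t := by
  obtain ⟨l, hl, e⟩ := ht
  have hl' : In z W f l := by
    rcases hl with rfl | rfl | rfl | rfl
    · have := In.mul hW (f_f h hW) (f_f h hW)
      rwa [h.ff] at this
    · exact f_z h hW
    · exact f_f h hW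
    · exact f_fz h hW
  rcases e with rfl | rfl
  · exact hl'
  · exact In.mul hW (f_v₁ h hW) hl'

theorem cxU {w : G} (hw : In z W f w) (hx : w * x = x * w) : InU z f v₁ w := by
  obtain ⟨hf, hz, hv⟩ := cU h hW hw
  rcases centU h hx hf hz hv with h1 | ⟨t, ht, e⟩
  · exact h1
  · exfalso
    apply not_x h hW
    have h2 := In.mul hW hw (InU_f h hW ht)
    have h3 := In.sq hW (InU_f h hW ht)
    rw [e, mul_assoc, h3, mul_one] at h2
    exact h2

/-- the elements of `W_f` -/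
theorem form {w : G} (hw : In z W f w) : InU z f v₁ w ∨ ∃ u, InU z f v₁ u ∧ w = b * u := by
  have hr := h.toT8R
  obtain ⟨hf, hz, hv⟩ := cU h hW hw
  obtain ⟨u, hu, hux, e⟩ := In.brak hW h.xx (fx h).symm hw
  have hU := cxU h hW hu hux
  have htr := h.tr w hf hz hv (by
    obtain ⟨l, hl, e'⟩ := hU
    refine ⟨l, hl, ?_⟩
    rcases e' with e' | e'
    · left; rw [e, e']
    · right; rw [e, e'])
  rcases htr with e1 | e1
  · left
    apply cxU h hW hw
    rwa [mul_inv_eq_iff_eq_mul] at e1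
  · right
    have e2 : w * x = x * f * w := by rwa [mul_inv_eq_iff_eq_mul] at e1
    have hbx : (b * w) * x = x * (b * w) := by
      rw [mul_assoc, e2]
      nf8 hr
    have hbf : (b * w) * f = f * (b * w) := by
      rw [mul_assoc, hf]; nf8 hr
    have hbz : (b * w) * z = z * (b * w) := by
      rw [mul_assoc, hz]; nf8 hr
    have hbv : (b * w) * v₁ = v₁ * (b * w) := by
      rw [mul_assoc, hv]; nf8 hr
    rcases centU h hbx hbf hbz hbv with h1 | ⟨t, ht, e3⟩
    · exact ⟨b * w, h1, by nf8 hr⟩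
    · exfalso
      have e4 : w = b * (x * t) := by rw [← e3]; nf8 hr
      have e5 := In.sq hW hw
      rw [e4] at e5
      obtain ⟨l, hl, e'⟩ := ht
      rcases hl with rfl | rfl | rfl | rfl <;> rcases e' with rfl | rfl <;> nf8a hr e5 <;> exact hr.f1 e5

/-- **the dichotomy** -/
theorem dich : (∀ w, In z W f w → InU z f v₁ w) ∨ In z W f b := by
  by_cases hA : ∀ w, In z W f w → InU z f v₁ w
  · exact Or.inl hA
  · right
    push Not at hA
    obtain ⟨w, hw, hn⟩ := hA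
    rcases form h hW hw with h1 | ⟨u, hu, e⟩
    · exact absurd h1 hn
    · have h2 := In.mul hW hw (InU_f h hW hu)
      have h3 := In.sq hW (InU_f h hW hu)
      rwa [e, mul_assoc, h3, mul_one] at h2

theorem fz_form {w : G} (hw : In z W (f * z) w) :
    (∃ l, InL z f l ∧ (w = l ∨ w = v₂ * l)) ∨ ∃ l, InL z f l ∧ (w = c * l ∨ w = c * (v₂ * l)) := by
  have hr := h.toT8R
  have h1 := of_fz h hW hw
  have key : ∀ l, InL z f l → InL z f (r * l * r⁻¹) := by
    intro l hl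
    rcases hl with rfl | rfl | rfl | rfl
    · left; group
    · right; left; exact h.rz
    · right; right; right; exact h.rf
    · right; right; left
      calc r * (f * z) * r⁻¹ = (r * f * r⁻¹) * (r * z * r⁻¹) := by group
        _ = f := by rw [h.rf, h.rz]; nf8 hr
  have e0 : w = r * (r⁻¹ * w * r) * r⁻¹ := by group
  rcases form h hW h1 with ⟨l, hl, e | e⟩ | ⟨u, ⟨l, hl, e | e⟩, e'⟩
  · left; exact ⟨_, key l hl, Or.inl (by rw [e0, e])⟩
  · left
    refine ⟨_, key l hl, Or.inr ?_⟩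
    rw [e0, e, ← h.rv₁]; group
  · right
    refine ⟨_, key l hl, Or.inl ?_⟩
    rw [e0, e', e, ← h.rb]; group
  · right
    refine ⟨_, key l hl, Or.inr ?_⟩
    rw [e0, e', e, ← h.rb, ← h.rv₁]; group

/-- `W_f ∩ W_{fz} = ⟨z, f⟩` -/
theorem inter {w : G} (h1 : In z W f w) (h2 : In z W (f * z) w) : InL z f w := by
  have hr := h.toT8R
  have hv := In.comm hW h2 (fz_v₂ h hW)
  rcases form h hW h1 with ⟨l, hl, e | e⟩ | ⟨u, ⟨l, hl, e | e⟩, e'⟩
  · rw [e]; exact hl
  · exfalso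
    have hlv : l * v₂ = v₂ * l := (lcomm hl hr.fv₂.symm hr.zv₂.symm).symm
    rw [e, mul_assoc, hlv, ← mul_assoc, ← mul_assoc] at hv
    have e1 := mul_right_cancel hv
    rw [hr.v₂v₁, ← mul_assoc, left_eq_mul] at e1
    exact hr.z1 e1
  · exfalso
    have hlv : l * v₂ = v₂ * l := (lcomm hl hr.fv₂.symm hr.zv₂.symm).symm
    rw [e', e, mul_assoc, hlv, ← mul_assoc, ← mul_assoc] at hv
    have e1 := mul_right_cancel hv
    rw [hr.v₂b, ← mul_assoc, left_eq_mul] at e1
    exact hr.f1 e1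
  · exfalso
    have hlv : l * v₂ = v₂ * l := (lcomm hl hr.fv₂.symm hr.zv₂.symm).symm
    rw [e', e] at hv
    have e1 : b * (v₁ * l) * v₂ = b * (v₁ * v₂) * l := by
      calc b * (v₁ * l) * v₂ = b * v₁ * (l * v₂) := by group
        _ = b * (v₁ * v₂) * l := by rw [hlv]; group
    have e2 : v₂ * (b * (v₁ * l)) = v₂ * (b * v₁) * l := by group
    rw [e1, e2] at hv
    have e3 := mul_right_cancel hv
    nf8a hr e3
    simp only [mul_right_inj, left_eq_mul] at e3
    exact hr.fz1 e3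

/-- `W ∩ W_f ≤ ⟨z, f⟩` -/
theorem inter1 {w : G} (h1 : In z W z w) (h2 : In z W f w) : InL z f w :=
  rho_L h (inter h hW (rho1 h hW h1) (rho2 h hW h2))

/-- `W ∩ W_{fz} ≤ ⟨z, f⟩` -/
theorem inter2 {w : G} (h1 : In z W z w) (h2 : In z W (f * z) w) : InL z f w :=
  rho_L' h (inter h hW (rho2' h hW h2) (rho3' h hW h1))

/-- `x^w ∈ x ⟨z, f⟩` for `w ∈ W` -/
theorem mv {w : G} (hw : In z W z w) : ∃ l, InL z f l ∧ w * x * w⁻¹ = x * l := by
  have hr := h.toT8R
  obtain ⟨u, hu, hux, e⟩ := In.brak hW h.xx hr.zx.symm hw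
  exact ⟨u, hW.cx _ (In.mem hW hu) hux, e⟩

theorem L_z {l : G} (hl : InL z f l) : In z W z l := by
  rcases hl with rfl | rfl | rfl | rfl
  · exact In.of_mem W.one_mem
  · exact In.of_mem hW.zW
  · exact In.of_mem hW.fW
  · exact In.of_mem (W.mul_mem hW.fW hW.zW)

theorem cl {w : G} (hw : In z W z w) : w * f = f * w ∧ w * z = z * w :=
  ⟨In.comm hW hw (In.of_mem hW.fW), In.comm hW hw (In.of_mem hW.zW)⟩

/-- `W` covers `T₈/T₀` -/
theorem covers (hb : In z W f b) : (∃ y, In z W z y ∧ y * x * y⁻¹ = x * f) ∧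
    (∃ y, In z W z y ∧ y * x * y⁻¹ = x * (f * z)) := by
  have hr := h.toT8R
  have w1 := rho1' h hW (f_v₁ h hW)
  have w2 := rho1' h hW hb
  obtain ⟨u1, hu1, e1⟩ := mv h hW w1
  obtain ⟨u2, hu2, e2⟩ := mv h hW w2
  set y1 := (r * m)⁻¹ * v₁ * (r * m) with hy1
  set y2 := (r * m)⁻¹ * b * (r * m) with hy2
  -- products
  have e3 : (y1 * y2) * x * (y1 * y2)⁻¹ = x * (u1 * u2) := by
    have hc : y1 * u2 = u2 * y1 := lcomm hu2 (cl h hW w1).1 (cl h hW w1).2
    calc (y1 * y2) * x * (y1 * y2)⁻¹ = y1 * (y2 * x * y2⁻¹) * y1⁻¹ := by group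
      _ = y1 * x * (u2 * y1⁻¹) := by rw [e2]; group
      _ = y1 * x * (y1⁻¹ * u2) := by
          congr 1
          rw [eq_inv_mul_iff_mul_eq, ← mul_assoc, hc, mul_inv_cancel_right]
      _ = (y1 * x * y1⁻¹) * u2 := by group
      _ = x * (u1 * u2) := by rw [e1]; group
  have w3 := In.mul hW w1 w2
  -- non-triviality
  have k1 : u1 ≠ 1 := by
    intro e
    rw [e, mul_one, mul_inv_eq_iff_eq_mul] at e1
    have h1 := hW.cx _ (In.mem hW w1) e1
    have h2 := rho_L' h h1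
    have h3 := lcomm h2 hr.fv₂.symm hr.zv₂.symm
    rw [hr.v₂v₁, ← mul_assoc, mul_eq_left] at h3
    exact hr.z1 h3
  have k2 : u2 ≠ 1 := by
    intro e
    rw [e, mul_one, mul_inv_eq_iff_eq_mul] at e2
    have h1 := hW.cx _ (In.mem hW w2) e2
    have h2 := rho_L' h h1
    have h3 := lcomm h2 hr.fv₂.symm hr.zv₂.symm
    rw [hr.v₂b, ← mul_assoc, mul_eq_left] at h3
    exact hr.f1 h3
  have k3 : u1 * u2 ≠ 1 := by
    intro e
    rw [e, mul_one, mul_inv_eq_iff_eq_mul] at e3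
    have h1 := hW.cx _ (In.mem hW w3) e3
    have e4 : y1 * y2 = (r * m)⁻¹ * (v₁ * b) * (r * m) := by rw [hy1, hy2]; group
    rw [e4] at h1
    have h2 := rho_L' h h1
    have h3 := lcomm h2 hr.fv₂.symm hr.zv₂.symm
    nf8a hr h3
    simp only [mul_right_inj, mul_eq_left] at h3
    exact hr.fz1 h3
  have sel : ∀ t, (t = u1 ∨ t = u2 ∨ t = u1 * u2) → ∃ y, In z W z y ∧ y * x * y⁻¹ = x * t := by
    rintro t (rfl | rfl | rfl)
    · exact ⟨_, w1, e1⟩
    · exact ⟨_, w2, e2⟩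
    · exact ⟨_, w3, e3⟩
  constructor
  · apply sel
    rcases hu1 with rfl | rfl | rfl | rfl <;> rcases hu2 with rfl | rfl | rfl | rfl <;> (try nf8a hr k3) <;>
      first
      | exact absurd rfl k1
      | exact absurd rfl k2
      | exact absurd rfl k3
      | (left; rfl)
      | (right; left; rfl)
      | (right; right; nf8 hr)
  · apply sel
    rcases hu1 with rfl | rfl | rfl | rfl <;> rcases hu2 with rfl | rfl | rfl | rfl <;> (try nf8a hr k3) <;>
      first
      | exact absurd rfl k1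
      | exact absurd rfl k2
      | exact absurd rfl k3
      | (left; rfl)
      | (right; left; rfl)
      | (right; right; nf8 hr)

/-- the element `y ∈ W`, `x^y = x f` -/
theorem y_mem (hb : In z W f b) : In z W z (b * (x * v₂)) := by
  have hr := h.toT8R
  obtain ⟨⟨y, hy, e⟩, -⟩ := covers h hW hb
  obtain ⟨hf, hz⟩ := cl h hW hy
  have e2 : y * x = x * f * y := by rwa [mul_inv_eq_iff_eq_mul] at e
  have hbx : (b * y) * x = x * (b * y) := by
    rw [mul_assoc, e2]; nf8 hr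
  have hbf : (b * y) * f = f * (b * y) := by rw [mul_assoc, hf]; nf8 hr
  have hbz : (b * y) * z = z * (b * y) := by rw [mul_assoc, hz]; nf8 hr
  obtain ⟨p, q, s, l, hp, hq, hs, hl, e3⟩ := h.cent _ hbx hbf hbz
  have e4 : y = b * (p * (q * (s * l))) := by rw [← e3]; nf8 hr
  have h5 := In.mul hW hy (L_z h hW hl)
  have e5 : y * l = b * (p * (q * s)) := by
    rw [e4]
    calc b * (p * (q * (s * l))) * l = b * (p * (q * s)) * (l * l) := by group
      _ = b * (p * (q * s)) := by rw [lsq hr hl, mul_one]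
  rw [e5] at h5
  have e6 := In.sq hW h5
  have nb : ∀ w, In z W f w → In z W z w → w * v₂ = v₂ * w := by
    intro w h1 h2
    exact (lcomm (inter1 h hW h2 h1) hr.fv₂.symm hr.zv₂.symm).symm
  have hbv : In z W f (b * v₁) := In.mul hW hb (f_v₁ h hW)
  rcases hp with rfl | rfl
  · exfalso
    rcases hq with rfl | rfl
    · rcases hs with rfl | rfl
      · simp only [mul_one] at h5
        have e7 := nb _ hb h5
        nf8a hr e7
        simp only [mul_right_inj, left_eq_mul] at e7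
        exact hr.f1 e7
      · nf8a hr e6; exact hr.f1 e6
    · rcases hs with rfl | rfl
      · simp only [one_mul, mul_one] at h5
        have e7 := nb _ hbv h5
        nf8a hr e7
        simp only [mul_right_inj, left_eq_mul] at e7
        exact hr.fz1 e7
      · nf8a hr e6; exact hr.fz1 e6
  · rcases hq with rfl | rfl
    · rcases hs with rfl | rfl
      · exfalso; nf8a hr e6; exact hr.f1 e6
      · rwa [one_mul] at h5
    · exfalso
      rcases hs with rfl | rfl
      · nf8a hr e6; exact hr.f1 e6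
      · nf8a hr e6; exact hr.z1 e6

theorem c_fz (hb : In z W f b) : In z W (f * z) c := by
  have h1 := fz_of h hW hb
  rwa [h.rb] at h1

/-- the element `y' ∈ W`, `x^{y'} = x f z` -/
theorem y'_mem (hb : In z W f b) : In z W z (c * (x * v₁)) := by
  have hr := h.toT8R
  obtain ⟨-, y, hy, e⟩ := covers h hW hb
  obtain ⟨hf, hz⟩ := cl h hW hy
  have e2 : y * x = x * (f * z) * y := by rwa [mul_inv_eq_iff_eq_mul] at e
  have hbx : (c * y) * x = x * (c * y) := by
    rw [mul_assoc, e2]; nf8 hr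
  have hbf : (c * y) * f = f * (c * y) := by rw [mul_assoc, hf]; nf8 hr
  have hbz : (c * y) * z = z * (c * y) := by rw [mul_assoc, hz]; nf8 hr
  obtain ⟨p, q, s, l, hp, hq, hs, hl, e3⟩ := h.cent _ hbx hbf hbz
  have e4 : y = c * (p * (q * (s * l))) := by rw [← e3]; nf8 hr
  have h5 := In.mul hW hy (L_z h hW hl)
  have e5 : y * l = c * (p * (q * s)) := by
    rw [e4]
    calc c * (p * (q * (s * l))) * l = c * (p * (q * s)) * (l * l) := by group
      _ = c * (p * (q * s)) := by rw [lsq hr hl, mul_one]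
  rw [e5] at h5
  have e6 := In.sq hW h5
  have nb : ∀ w, In z W (f * z) w → In z W z w → w * v₁ = v₁ * w := by
    intro w h1 h2
    exact (lcomm (inter2 h hW h2 h1) hr.fv₁.symm hr.zv₁.symm).symm
  have hc := c_fz h hW hb
  have hcv : In z W (f * z) (c * v₂) := In.mul hW hc (fz_v₂ h hW)
  rcases hp with rfl | rfl
  · exfalso
    rcases hq with rfl | rfl
    · rcases hs with rfl | rfl
      · simp only [mul_one] at h5
        have e7 := nb _ hc h5
        nf8a hr e7
        simp only [mul_right_inj, left_eq_mul] at e7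
        exact hr.fz1 e7
      · simp only [one_mul] at h5
        have e7 := nb _ hcv h5
        nf8a hr e7
        simp only [mul_right_inj, right_eq_mul] at e7
        exact hr.f1 e7
    · rcases hs with rfl | rfl
      · nf8a hr e6; exact hr.fz1 e6
      · nf8a hr e6; exact hr.f1 e6
  · rcases hq with rfl | rfl
    · exfalso
      rcases hs with rfl | rfl
      · nf8a hr e6; exact hr.fz1 e6
      · nf8a hr e6; exact hr.fz1 e6
    · rcases hs with rfl | rfl
      · rwa [mul_one] at h5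
      · exfalso; nf8a hr e6; exact hr.z1 e6

/-- `e = 0` -/
theorem cb0 (hb : In z W f b) : c * b = b * c := by
  have hr := h.toT8R
  have h1 := In.comm hW (y_mem h hW hb) (y'_mem h hW hb)
  rcases hr.cb with h2 | h2
  · exact h2
  · exfalso
    have h2' : ∀ t, c * (b * t) = b * (c * (z * t)) := by
      intro t; rw [← mul_assoc, h2]; simp only [mul_assoc]
    nf8a hr h1
    simp only [h2', mul_right_inj] at h1
    nf8a hr h1
    simp only [mul_right_inj, left_eq_mul] at h1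
    exact hr.z1 h1

/-- the images of `x` under `W_f` -/
theorem mv_f {w : G} (hw : In z W f w) : w * x * w⁻¹ = x ∨ w * x * w⁻¹ = x * f := by
  obtain ⟨hf, hz, hv⟩ := cU h hW hw
  obtain ⟨u, hu, hux, e⟩ := In.brak hW h.xx (fx h).symm hw
  have hU := cxU h hW hu hux
  apply h.tr w hf hz hv
  obtain ⟨l, hl, e'⟩ := hU
  refine ⟨l, hl, ?_⟩
  rcases e' with e' | e'
  · left; rw [e, e']
  · right; rw [e, e']

end frame

/-- `g ∈ T₈` -/
def T8 (x z f g : G) : Prop := g * f = f * g ∧ g * z = z * g ∧ ∃ l, InL z f l ∧ g * x * g⁻¹ = x * l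

section eight

variable {x z f v₁ v₂ b c r d m : G} (h : HX x z f v₁ v₂ b c r d m)
include h

theorem T8.mul {g g' : G} (h1 : T8 x z f g) (h2 : T8 x z f g') : T8 x z f (g * g') := by
  have hr := h.toT8R
  obtain ⟨a1, a2, l, hl, a3⟩ := h1
  obtain ⟨b1, b2, l', hl', b3⟩ := h2
  refine ⟨by rw [mul_assoc, b1, ← mul_assoc, a1, mul_assoc], by rw [mul_assoc, b2, ← mul_assoc, a2, mul_assoc],
    l * l', lmul hr hl hl', ?_⟩
  have hc : g * l' = l' * g := lcomm hl' a1 a2
  calc (g * g') * x * (g * g')⁻¹ = g * (g' * x * g'⁻¹) * g⁻¹ := by group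
    _ = g * x * (l' * g⁻¹) := by rw [b3]; group
    _ = g * x * (g⁻¹ * l') := by
        congr 1
        rw [eq_inv_mul_iff_mul_eq, ← mul_assoc, hc, mul_inv_cancel_right]
    _ = (g * x * g⁻¹) * l' := by group
    _ = x * (l * l') := by rw [a3]; group

/-- the normal form in `T₈` -/
theorem T8.nform {g : G} (h1 : T8 x z f g) :
    ∃ β t, (β = 1 ∨ β = b ∨ β = c ∨ β = b * c) ∧ InT0 x z f v₁ v₂ t ∧ g = β * t := by
  have hr := h.toT8R
  obtain ⟨a1, a2, l, hl, a3⟩ := h1
  have a4 : g * x = x * l * g := by rwa [mul_inv_eq_iff_eq_mul] at a3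
  rcases hl with rfl | rfl | rfl | rfl
  · rw [mul_one] at a4
    exact ⟨1, g, Or.inl rfl, h.cent g a4 a1 a2, by group⟩
  · -- `x z`
    refine ⟨b * c, c * (b * g), Or.inr (Or.inr (Or.inr rfl)), ?_, by nf8 hr⟩
    apply h.cent
    · rw [mul_assoc, mul_assoc, a4]; nf8 hr
    · rw [mul_assoc, mul_assoc, a1]; nf8 hr
    · rw [mul_assoc, mul_assoc, a2]; nf8 hr
  · refine ⟨b, b * g, Or.inr (Or.inl rfl), ?_, by nf8 hr⟩
    apply h.cent
    · rw [mul_assoc, a4]; nf8 hr
    · rw [mul_assoc, a1]; nf8 hr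
    · rw [mul_assoc, a2]; nf8 hr
  · refine ⟨c, c * g, Or.inr (Or.inr (Or.inl rfl)), ?_, by nf8 hr⟩
    apply h.cent
    · rw [mul_assoc, a4]; nf8 hr
    · rw [mul_assoc, a1]; nf8 hr
    · rw [mul_assoc, a2]; nf8 hr

end eight

end Cfsg.Agent.OddHalf.D5.SixAut.HsxW

end

-- merged: Cfsg.Agent.OddHalf.D5.SixAut.HsxB
section

/-!
# ODD D5, `n = 6`, `C_G(x)/⟨x⟩ = Aut(A_6)`, the case (HSx): `b ∉ W_f`

If `b ∈ W_f`, then `T₈ = ⟨W, W_f, W_{fz}⟩` is normalised by the element `ρ = r m` of order 3 on `⟨z, f⟩`;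
`y = x v₁ v₂` has `[y, T₈] = ⟨z⟩`, `y² = z`; but the elements `t` of `T₈` with `[t, T₈] ≤ ⟨f⟩` are involutions.
-/

set_option autoImplicit false
set_option linter.unusedSectionVars false

namespace Cfsg.Agent.OddHalf.D5.SixAut.HsxB

open HsxW

/-- refute a commutation modulo `⟨f⟩` -/
local macro "kill8" r:ident e:ident e':ident t:ident : tactic => `(tactic| (
  rcases $t:ident with $t:ident | $t:ident <;> nf8a $r $t <;>
  simp only [($e), ($e'), mul_right_inj, left_eq_mul, mul_eq_left, right_eq_mul, mul_eq_right] at $t:ident <;>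
  first
  | exact ($r).z1 $t
  | exact ($r).f1 $t
  | exact ($r).fz1 $t
  | exact ($r).fz $t
  | exact ($r).fz ($t).symm))

variable {G : Type*} [Group G]

/-- `g` commutes with `y` modulo `⟨z⟩` -/
def Q (y z g : G) : Prop := y * g = g * y ∨ y * g = g * (y * z)

theorem Q.mul {y z g g' : G} (zz : z * z = 1) (hz : g' * z = z * g') (h1 : Q y z g) (h2 : Q y z g') :
    Q y z (g * g') := by
  rcases h1 with e1 | e1 <;> rcases h2 with e2 | e2
  · left; rw [← mul_assoc, e1, mul_assoc, e2, mul_assoc]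
  · right; rw [← mul_assoc, e1, mul_assoc, e2, mul_assoc]
  · right
    calc y * (g * g') = (y * g) * g' := by group
      _ = g * y * (z * g') := by rw [e1]; group
      _ = g * (y * g') * z := by rw [← hz]; group
      _ = g * g' * (y * z) := by rw [e2]; group
  · left
    calc y * (g * g') = (y * g) * g' := by group
      _ = g * y * (z * g') := by rw [e1]; group
      _ = g * (y * g') * z := by rw [← hz]; group
      _ = g * g' * y * (z * z) := by rw [e2]; group
      _ = g * g' * y := by rw [zz, mul_one]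

section

variable {x z f v₁ v₂ b c r d m : G} (h : HX x z f v₁ v₂ b c r d m)
include h

theorem q_all {g : G} (hg : T8 x z f g) : Q (x * (v₁ * v₂)) z g := by
  have hr := h.toT8R
  obtain ⟨β, t, hβ, ⟨p, q, s, l, hp, hq, hs, hl, rfl⟩, rfl⟩ := hg.nform h
  have q1 : Q (x * (v₁ * v₂)) z (1 : G) := by left; rw [one_mul, mul_one]
  have qx : Q (x * (v₁ * v₂)) z x := by left; nf8 hr
  have qv₁ : Q (x * (v₁ * v₂)) z v₁ := by right; nf8 hr
  have qv₂ : Q (x * (v₁ * v₂)) z v₂ := by right; nf8 hr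
  have qb : Q (x * (v₁ * v₂)) z b := by left; nf8 hr
  have qc : Q (x * (v₁ * v₂)) z c := by left; nf8 hr
  have qf : Q (x * (v₁ * v₂)) z f := by left; nf8 hr
  have qz : Q (x * (v₁ * v₂)) z z := by left; nf8 hr
  have o : (1 : G) * z = z * 1 := by rw [one_mul, mul_one]
  have ql : Q (x * (v₁ * v₂)) z l ∧ l * z = z * l := by
    rcases hl with rfl | rfl | rfl | rfl
    · exact ⟨q1, o⟩
    · exact ⟨qz, rfl⟩
    · exact ⟨qf, hr.zf.symm⟩
    · exact ⟨qf.mul hr.zz rfl qz, by rw [mul_assoc, ← mul_assoc z, hr.zf, mul_assoc]⟩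
  have qs : Q (x * (v₁ * v₂)) z s ∧ s * z = z * s := by
    rcases hs with rfl | rfl
    · exact ⟨q1, o⟩
    · exact ⟨qv₂, hr.zv₂.symm⟩
  have qq : Q (x * (v₁ * v₂)) z q ∧ q * z = z * q := by
    rcases hq with rfl | rfl
    · exact ⟨q1, o⟩
    · exact ⟨qv₁, hr.zv₁.symm⟩
  have qp : Q (x * (v₁ * v₂)) z p ∧ p * z = z * p := by
    rcases hp with rfl | rfl
    · exact ⟨q1, o⟩
    · exact ⟨qx, hr.zx.symm⟩
  have qβ : Q (x * (v₁ * v₂)) z β ∧ β * z = z * β := by
    rcases hβ with rfl | rfl | rfl | rfl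
    · exact ⟨q1, o⟩
    · exact ⟨qb, hr.zb.symm⟩
    · exact ⟨qc, hr.zc.symm⟩
    · exact ⟨qb.mul hr.zz hr.zc.symm qc, by nf8 hr⟩
  have mz : ∀ {a b : G}, a * z = z * a → b * z = z * b → a * b * z = z * (a * b) := by
    intro a b ha hb
    rw [mul_assoc, hb, ← mul_assoc, ha, mul_assoc]
  have z1 := mz qs.2 ql.2
  have z2 := mz qq.2 z1
  have z3 := mz qp.2 z2
  exact qβ.1.mul hr.zz z3 (qp.1.mul hr.zz z2 (qq.1.mul hr.zz z1 (qs.1.mul hr.zz ql.2 ql.1)))

/-- an element of `T₈` commuting with `T₈` modulo `⟨f⟩` is an involution -/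
theorem elim (hcb : c * b = b * c) {t : G} (hT : T8 x z f t)
    (cx : t * x = x * t ∨ t * x = x * (t * f)) (c1 : t * v₁ = v₁ * t ∨ t * v₁ = v₁ * (t * f))
    (c2 : t * v₂ = v₂ * t ∨ t * v₂ = v₂ * (t * f)) (c3 : t * c = c * t ∨ t * c = c * (t * f)) : t * t = 1 := by
  have hr := h.toT8R
  have hcb' : ∀ t, c * (b * t) = b * (c * t) := by
    intro t; rw [← mul_assoc, hcb, mul_assoc]
  obtain ⟨β, t, hβ, ⟨p, q, s, l, hp, hq, hs, hl, rfl⟩, rfl⟩ := hT.nform h
  have l2 := lsq hr hl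
  have key : ∀ g, g * f = f * g → g * z = z * g → ∀ t', (t' * l * g = g * (t' * l) ∨ t' * l * g = g * (t' * l * f)) →
      t' * g = g * t' ∨ t' * g = g * (t' * f) := by
    intro g hf hz t' e
    have hc : g * l = l * g := lcomm hl hf hz
    have hlf : l * f = f * l := (lcomm hl rfl hr.zf.symm).symm
    rcases e with e | e
    · left
      apply mul_right_cancel (b := l)
      calc t' * g * l = t' * (g * l) := by group
        _ = t' * l * g := by rw [hc]; group
        _ = g * t' * l := by rw [e]; group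
    · right
      apply mul_right_cancel (b := l)
      calc t' * g * l = t' * (g * l) := by group
        _ = t' * l * g := by rw [hc]; group
        _ = g * t' * (l * f) := by rw [e]; group
        _ = g * (t' * f) * l := by rw [hlf]; group
  have e0 : β * (p * (q * (s * l))) = β * (p * (q * s)) * l := by group
  rw [e0] at cx c1 c2 c3 ⊢
  have cx' := key x hr.fx.symm hr.zx.symm _ cx
  have c1' := key v₁ hr.fv₁.symm hr.zv₁.symm _ c1
  have c2' := key v₂ hr.fv₂.symm hr.zv₂.symm _ c2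
  have c3' := key c hr.fc.symm hr.zc.symm _ c3
  have hlt : β * (p * (q * s)) * l * (β * (p * (q * s)) * l) = β * (p * (q * s)) * (β * (p * (q * s))) := by
    have hT' := hT
    rw [e0] at hT'
    have hc : β * (p * (q * s)) * l * l = l * (β * (p * (q * s)) * l) := lcomm hl hT'.1 hT'.2.1
    have hc2 : β * (p * (q * s)) * l = l * (β * (p * (q * s))) := by
      apply mul_right_cancel (b := l)
      rw [hc]; group
    calc β * (p * (q * s)) * l * (β * (p * (q * s)) * l) = β * (p * (q * s)) * l * (l * (β * (p * (q * s)))) := by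
          rw [← hc2]
      _ = β * (p * (q * s)) * (l * l) * (β * (p * (q * s))) := by group
      _ = β * (p * (q * s)) * (β * (p * (q * s))) := by rw [l2, mul_one]
  rw [hlt]
  clear cx c1 c2 c3 hlt e0 key hT
  have n1 := hr.z1
  have n2 := hr.f1
  have n3 := hr.fz1
  have n4 := hr.fz
  rcases hβ with rfl | rfl | rfl | rfl
  · rcases hp with rfl | rfl <;> rcases hq with rfl | rfl <;> rcases hs with rfl | rfl
    all_goals first
      | (exfalso; kill8 hr hcb hcb' cx')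
      | (exfalso; kill8 hr hcb hcb' c1')
      | (exfalso; kill8 hr hcb hcb' c2')
      | (exfalso; kill8 hr hcb hcb' c3')
      | nf8 hr
  · rcases hp with rfl | rfl <;> rcases hq with rfl | rfl <;> rcases hs with rfl | rfl
    all_goals first
      | (exfalso; kill8 hr hcb hcb' cx')
      | (exfalso; kill8 hr hcb hcb' c1')
      | (exfalso; kill8 hr hcb hcb' c2')
      | (exfalso; kill8 hr hcb hcb' c3')
      | nf8 hr
  · rcases hp with rfl | rfl <;> rcases hq with rfl | rfl <;> rcases hs with rfl | rfl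
    all_goals exfalso; kill8 hr hcb hcb' cx'
  · rcases hp with rfl | rfl <;> rcases hq with rfl | rfl <;> rcases hs with rfl | rfl
    all_goals exfalso; kill8 hr hcb hcb' cx'

variable {W : Subgroup G} (hW : WN x z f W)
include hW

theorem t8_z {w : G} (hw : In z W z w) : T8 x z f w :=
  ⟨(cl h hW hw).1, (cl h hW hw).2, mv h hW hw⟩

theorem t8_f {w : G} (hw : In z W f w) : T8 x z f w := by
  refine ⟨(cU h hW hw).1, (cU h hW hw).2.1, ?_⟩
  rcases mv_f h hW hw with e | e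
  · exact ⟨1, Or.inl rfl, by rw [e, mul_one]⟩
  · exact ⟨f, Or.inr (Or.inr (Or.inl rfl)), e⟩

theorem t8_fz {w : G} (hw : In z W (f * z) w) : T8 x z f w := by
  have hr := h.toT8R
  have h1 := of_fz h hW hw
  have e0 : w = r * (r⁻¹ * w * r) * r⁻¹ := by group
  refine ⟨In.comm hW hw (fz_f h hW), In.comm hW hw (fz_z h hW), ?_⟩
  have hx : r⁻¹ * x * r = x := by
    calc r⁻¹ * x * r = r⁻¹ * (r * x * r⁻¹) * r := by rw [h.rx]
      _ = x := by group
  rcases mv_f h hW h1 with e | e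
  · refine ⟨1, Or.inl rfl, ?_⟩
    calc w * x * w⁻¹ = r * ((r⁻¹ * w * r) * (r⁻¹ * x * r) * (r⁻¹ * w * r)⁻¹) * r⁻¹ := by group
      _ = x * 1 := by rw [hx, e, h.rx, mul_one]
  · refine ⟨f * z, Or.inr (Or.inr (Or.inr rfl)), ?_⟩
    calc w * x * w⁻¹ = r * ((r⁻¹ * w * r) * (r⁻¹ * x * r) * (r⁻¹ * w * r)⁻¹) * r⁻¹ := by group
      _ = (r * x * r⁻¹) * (r * f * r⁻¹) := by rw [hx, e]; group
      _ = x * (f * z) := by rw [h.rx, h.rf]

/-- **(2)** -/
theorem not_b : ¬ In z W f b := by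
  intro hb
  have hr := h.toT8R
  have hcb := cb0 h hW hb
  have hc := c_fz h hW hb
  have hv1 := f_v₁ h hW
  have hv2 := fz_v₂ h hW
  have hy := y_mem h hW hb
  -- conjugates under `ρ`
  have ρv1 := t8_fz h hW (rho2 h hW hv1)
  have ρb := t8_fz h hW (rho2 h hW hb)
  have ρv2 := t8_z h hW (rho3 h hW hv2)
  have ρy := t8_f h hW (rho1 h hW hy)
  have ρ'v1 := t8_z h hW (rho1' h hW hv1)
  have ρ'b := t8_z h hW (rho1' h hW hb)
  have ρ'v2 := t8_f h hW (rho2' h hW hv2)
  have ρ'c := t8_f h hW (rho2' h hW hc)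
  have ρ'y := t8_fz h hW (rho3' h hW hy)
  have ex : b * (b * (x * v₂)) * v₂ = x := by nf8 hr
  have ρx : T8 x z f ((r * m) * x * (r * m)⁻¹) := by
    have h1 := T8.mul h (T8.mul h ρb ρy) ρv2
    have e1 : (r * m) * b * (r * m)⁻¹ * ((r * m) * (b * (x * v₂)) * (r * m)⁻¹) * ((r * m) * v₂ * (r * m)⁻¹) =
        (r * m) * (b * (b * (x * v₂)) * v₂) * (r * m)⁻¹ := by group
    rwa [e1, ex] at h1
  have ρ'x : T8 x z f ((r * m)⁻¹ * x * (r * m)) := by
    have h1 := T8.mul h (T8.mul h ρ'b ρ'y) ρ'v2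
    have e1 : (r * m)⁻¹ * b * (r * m) * ((r * m)⁻¹ * (b * (x * v₂)) * (r * m)) * ((r * m)⁻¹ * v₂ * (r * m)) =
        (r * m)⁻¹ * (b * (b * (x * v₂)) * v₂) * (r * m) := by group
    rwa [e1, ex] at h1
  have ρt : T8 x z f ((r * m) * (x * (v₁ * v₂)) * (r * m)⁻¹) := by
    have h1 := T8.mul h ρx (T8.mul h ρv1 ρv2)
    have e1 : (r * m) * x * (r * m)⁻¹ * ((r * m) * v₁ * (r * m)⁻¹ * ((r * m) * v₂ * (r * m)⁻¹)) =
        (r * m) * (x * (v₁ * v₂)) * (r * m)⁻¹ := by group
    rwa [e1] at h1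
  have key : ∀ g, T8 x z f ((r * m)⁻¹ * g * (r * m)) →
      ((r * m) * (x * (v₁ * v₂)) * (r * m)⁻¹) * g = g * ((r * m) * (x * (v₁ * v₂)) * (r * m)⁻¹) ∨
      ((r * m) * (x * (v₁ * v₂)) * (r * m)⁻¹) * g = g * (((r * m) * (x * (v₁ * v₂)) * (r * m)⁻¹) * f) := by
    intro g hg
    have e0 : ((r * m) * (x * (v₁ * v₂)) * (r * m)⁻¹) * g =
        (r * m) * ((x * (v₁ * v₂)) * ((r * m)⁻¹ * g * (r * m))) * (r * m)⁻¹ := by group
    rcases q_all h hg with e | e
    · left; rw [e0, e]; group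
    · right
      rw [e0, e]
      calc (r * m) * ((r * m)⁻¹ * g * (r * m) * (x * (v₁ * v₂) * z)) * (r * m)⁻¹
          = g * (((r * m) * (x * (v₁ * v₂)) * (r * m)⁻¹) * ((r * m) * z * (r * m)⁻¹)) := by group
        _ = _ := by rw [rho_z h]
  have h1 := elim h hcb ρt (key _ ρ'x) (key _ ρ'v1) (key _ ρ'v2) (key _ ρ'c)
  have e1 : (r * m) * (x * (v₁ * v₂)) * (r * m)⁻¹ * ((r * m) * (x * (v₁ * v₂)) * (r * m)⁻¹) =
      (r * m) * ((x * (v₁ * v₂)) * (x * (v₁ * v₂))) * (r * m)⁻¹ := by group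
  have e2 : (x * (v₁ * v₂)) * (x * (v₁ * v₂)) = z := by nf8 hr
  rw [e1, e2, rho_z h] at h1
  exact hr.f1 h1

/-- `W_f = U₁` -/
theorem mem_f {w : G} : In z W f w ↔ InU z f v₁ w :=
  ⟨fun hw => (dich h hW).elim (fun h1 => h1 w hw) fun h1 => absurd h1 (not_b h hW), InU_f h hW⟩

/-- **`U₁` is normal in `C(f)`** -/
theorem normU {g u : G} (hg : g * f = f * g) (hu : InU z f v₁ u) : InU z f v₁ (g * u * g⁻¹) := by
  rw [← mem_f h hW] at hu ⊢
  exact hu.conj' hg

end

end Cfsg.Agent.OddHalf.D5.SixAut.HsxB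

end

-- merged: Cfsg.Agent.OddHalf.D5.SixAut.HsxEnd
section

/-!
# ODD D5, `n = 6`, `C_G(x)/⟨x⟩ = Aut(A_6)`, the case (HSx): the end

`no_W` : in the situation `HX`, `C(z)` has no elementary abelian normal subgroup other than `1`, `⟨z⟩`.
-/

set_option autoImplicit false
set_option linter.unusedSectionVars false

namespace Cfsg.Agent.OddHalf.D5.SixAut.HsxEnd

open HsxW HsxB Subgroup Cfsg

/-- refute a commutation -/
local macro "kl8" r:ident t:ident : tactic => `(tactic| (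
  nf8a $r $t
  simp only [mul_right_inj, left_eq_mul, mul_eq_left, right_eq_mul, mul_eq_right] at $t:ident
  first
  | exact ($r).z1 $t
  | exact ($r).f1 $t
  | exact ($r).fz1 $t
  | exact ($r).fz $t
  | exact ($r).fz ($t).symm))

variable {G : Type*} [Group G]

/-- `A ∪ v A` -/
def grow (A : Subgroup G) (v : G) (hv : v * v = 1) (hc : ∀ a ∈ A, v * a = a * v) : Subgroup G where
  carrier := {g | g ∈ A ∨ ∃ a ∈ A, g = v * a}
  one_mem' := Or.inl A.one_mem
  mul_mem' := by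
    rintro g g' (hg | ⟨a, ha, rfl⟩) (hg' | ⟨a', ha', rfl⟩)
    · exact Or.inl (A.mul_mem hg hg')
    · exact Or.inr ⟨g * a', A.mul_mem hg ha', by rw [← mul_assoc, ← hc g hg, mul_assoc]⟩
    · exact Or.inr ⟨a * g', A.mul_mem ha hg', by rw [mul_assoc]⟩
    · left
      have e : v * a * (v * a') = a * a' := by
        calc v * a * (v * a') = (v * a) * v * a' := by group
          _ = a * (v * v) * a' := by rw [hc a ha]; group
          _ = a * a' := by rw [hv, mul_one]
      show v * a * (v * a') ∈ A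
      rw [e]
      exact A.mul_mem ha ha'
  inv_mem' := by
    rintro g (hg | ⟨a, ha, rfl⟩)
    · exact Or.inl (A.inv_mem hg)
    · right
      refine ⟨a⁻¹, A.inv_mem ha, ?_⟩
      rw [mul_inv_rev, inv_eq_of_mul_eq_one_left hv, hc _ (A.inv_mem ha)]

theorem mem_grow {A : Subgroup G} {v : G} {hv : v * v = 1} {hc : ∀ a ∈ A, v * a = a * v} {g : G} :
    g ∈ grow A v hv hc ↔ g ∈ A ∨ ∃ a ∈ A, g = v * a := Iff.rfl

theorem card_grow [Finite G] {A : Subgroup G} {v : G} {hv : v * v = 1} {hc : ∀ a ∈ A, v * a = a * v} :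
    Nat.card (grow A v hv hc) ≤ 2 * Nat.card A := by
  have e : ((grow A v hv hc : Subgroup G) : Set G) = (A : Set G) ∪ (fun a => v * a) '' (A : Set G) := by
    ext g
    constructor
    · rintro (h | ⟨a, ha, rfl⟩)
      · exact Or.inl h
      · exact Or.inr ⟨a, ha, rfl⟩
    · rintro (h | ⟨a, ha, rfl⟩)
      · exact Or.inl h
      · exact Or.inr ⟨a, ha, rfl⟩
  have h1 : Nat.card (grow A v hv hc) = ((grow A v hv hc : Subgroup G) : Set G).ncard := rfl
  have h2 : Nat.card A = (A : Set G).ncard := rfl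
  rw [h1, h2, e, two_mul]
  refine (Set.ncard_union_le _ _).trans (Nat.add_le_add_left ?_ _)
  exact Set.ncard_image_le (Set.toFinite _)

section

variable {x z f v₁ v₂ b c r d m : G} (h : HX x z f v₁ v₂ b c r d m)
include h

theorem linv {s : G} (hs : InL z f s) : InL z f s⁻¹ := by
  rw [inv_eq_of_mul_eq_one_left (lsq h.toT8R hs)]; exact hs

/-- `L = ⟨z, f⟩` -/
def Lg : Subgroup G where
  carrier := {g | InL z f g}
  one_mem' := Or.inl rfl
  mul_mem' := fun ha hb => lmul h.toT8R ha hb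
  inv_mem' := fun ha => linv h ha

theorem mem_Lg {g : G} : g ∈ Lg h ↔ InL z f g := Iff.rfl

theorem card_Lg [Finite G] : Nat.card (Lg h) = 4 := by
  classical
  have hr := h.toT8R
  have e : ((Lg h : Subgroup G) : Set G) = (({1, z, f, f * z} : Finset G) : Set G) := by
    ext g
    rw [Finset.mem_coe]
    simp only [Finset.mem_insert, Finset.mem_singleton]
    exact Iff.rfl
  have h1 : Nat.card (Lg h) = ((Lg h : Subgroup G) : Set G).ncard := rfl
  rw [h1, e, Set.ncard_coe_finset]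
  rw [Finset.card_insert_of_notMem, Finset.card_insert_of_notMem, Finset.card_insert_of_notMem,
    Finset.card_singleton]
  · rw [Finset.mem_singleton]
    intro e'
    rw [left_eq_mul] at e'
    exact hr.z1 e'
  · simp only [Finset.mem_insert, Finset.mem_singleton, not_or]
    refine ⟨fun e' => hr.fz e'.symm, fun e' => ?_⟩
    rw [right_eq_mul] at e'
    exact hr.f1 e'
  · simp only [Finset.mem_insert, Finset.mem_singleton, not_or]
    exact ⟨fun e' => hr.z1 e'.symm, fun e' => hr.f1 e'.symm, fun e' => hr.fz1 e'.symm⟩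

theorem lc {g : G} (hf : f * g = g * f) (hz : z * g = g * z) : ∀ a ∈ Lg h, g * a = a * g :=
  fun _ ha => lcomm ha hf.symm hz.symm

/-- `U₁ = ⟨z, f, v₁⟩` -/
def U1 : Subgroup G := grow (Lg h) v₁ h.v₁v₁ (lc h h.fv₁ h.zv₁)

/-- `U₂ = ⟨z, f, v₂⟩` -/
def U2 : Subgroup G := grow (Lg h) v₂ h.v₂v₂ (lc h h.fv₂ h.zv₂)

/-- `Y = ⟨z, f, x⟩` -/
def Yg : Subgroup G := grow (Lg h) x h.xx (lc h h.toT8R.fx h.zx)

theorem xU1 : ∀ a ∈ U1 h, x * a = a * x := by
  rintro a (ha | ⟨l, hl, rfl⟩)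
  · exact lc h h.toT8R.fx h.zx a ha
  · have := lc h h.toT8R.fx h.zx l hl
    rw [← mul_assoc, ← h.v₁x, mul_assoc, this, mul_assoc]

/-- `E₁ = ⟨z, f, v₁, x⟩` -/
def E1 : Subgroup G := grow (U1 h) x h.xx (xU1 h)

theorem mem_U1 {g : G} : g ∈ U1 h ↔ InU z f v₁ g := by
  constructor
  · rintro (ha | ⟨l, hl, rfl⟩)
    · exact ⟨g, ha, Or.inl rfl⟩
    · exact ⟨l, hl, Or.inr rfl⟩
  · rintro ⟨l, hl, e | e⟩
    · left; rw [e]; exact hl
    · exact Or.inr ⟨l, hl, e⟩

/-- `C(v₁) ∩ C(v₂) ∩ T₈ = Y` -/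
theorem centY {t : G} (hT : T8 x z f t) (c1 : t * v₁ = v₁ * t) (c2 : t * v₂ = v₂ * t) : t ∈ Yg h := by
  have hr := h.toT8R
  obtain ⟨β, t, hβ, ⟨p, q, s, l, hp, hq, hs, hl, rfl⟩, rfl⟩ := hT.nform h
  have key : ∀ g, g * f = f * g → g * z = z * g → ∀ t', t' * l * g = g * (t' * l) → t' * g = g * t' := by
    intro g hf hz t' e
    have hc : g * l = l * g := lcomm hl hf hz
    apply mul_right_cancel (b := l)
    calc t' * g * l = t' * (g * l) := by group
      _ = t' * l * g := by rw [hc]; group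
      _ = g * t' * l := by rw [e]; group
  have e0 : β * (p * (q * (s * l))) = β * (p * (q * s)) * l := by group
  rw [e0] at c1 c2
  have c1' := key v₁ hr.fv₁.symm hr.zv₁.symm _ c1
  have c2' := key v₂ hr.fv₂.symm hr.zv₂.symm _ c2
  clear c1 c2 e0 key hT
  rcases hβ with rfl | rfl | rfl | rfl
  · rcases hp with rfl | rfl <;> rcases hq with rfl | rfl <;> rcases hs with rfl | rfl
    all_goals first
      | (exfalso; kl8 hr c1')
      | (exfalso; kl8 hr c2')
      | (simp only [one_mul]; exact Or.inl hl)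
      | (simp only [one_mul]; exact Or.inr ⟨l, hl, rfl⟩)
  · rcases hp with rfl | rfl <;> rcases hq with rfl | rfl <;> rcases hs with rfl | rfl
    all_goals first
      | (exfalso; kl8 hr c1')
      | (exfalso; kl8 hr c2')
  · rcases hp with rfl | rfl <;> rcases hq with rfl | rfl <;> rcases hs with rfl | rfl
    all_goals exfalso; kl8 hr c1'
  · rcases hp with rfl | rfl <;> rcases hq with rfl | rfl <;> rcases hs with rfl | rfl
    all_goals exfalso; kl8 hr c1'

theorem r_L {l : G} (hl : InL z f l) : InL z f (r * l * r⁻¹) := by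
  have hr := h.toT8R
  rcases hl with rfl | rfl | rfl | rfl
  · left; group
  · right; left; exact h.rz
  · right; right; right; exact h.rf
  · right; right; left
    calc r * (f * z) * r⁻¹ = (r * f * r⁻¹) * (r * z * r⁻¹) := by group
      _ = f := by rw [h.rf, h.rz]; nf8 hr

theorem r'_L {l : G} (hl : InL z f l) : InL z f (r⁻¹ * l * r) := by
  have hr := h.toT8R
  have e1 : r⁻¹ * z * r = z := by
    calc r⁻¹ * z * r = r⁻¹ * (r * z * r⁻¹) * r := by rw [h.rz]
      _ = z := by group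
  have e2 : r⁻¹ * (f * z) * r = f := by
    calc r⁻¹ * (f * z) * r = r⁻¹ * (r * f * r⁻¹) * r := by rw [h.rf]
      _ = f := by group
  rcases hl with e | e | e | e
  · left; rw [e]; group
  · right; left; rw [e]; exact e1
  · right; right; right
    rw [e]
    calc r⁻¹ * f * r = (r⁻¹ * (f * z) * r) * (r⁻¹ * z * r)⁻¹ := by group
      _ = f * z := by rw [e1, e2, hr.z_inv]
  · right; right; left; rw [e]; exact e2

theorem r_U {u : G} (hu : u ∈ U1 h) : r * u * r⁻¹ ∈ U2 h := by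
  rcases hu with hl | ⟨l, hl, rfl⟩
  · exact Or.inl (r_L h hl)
  · refine Or.inr ⟨_, r_L h hl, ?_⟩
    rw [← h.rv₁]; group

theorem r'_U {u : G} (hu : u ∈ U2 h) : r⁻¹ * u * r ∈ U1 h := by
  rcases hu with hl | ⟨l, hl, rfl⟩
  · exact Or.inl (r'_L h hl)
  · refine Or.inr ⟨_, r'_L h hl, ?_⟩
    rw [← h.rv₁]; group

theorem card_le [Finite G] {W : Subgroup G} (hW : WN x z f W) (hO : centralizerPPrimeCore 2 f = ⊥) :
    Nat.card (centralizer ({f} : Set G)) ≤ 768 := by
  have hr := h.toT8R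
  have nU1 : ∀ g, g * f = f * g → ∀ u ∈ U1 h, g * u * g⁻¹ ∈ U1 h := by
    intro g hg u hu
    rw [mem_U1] at hu ⊢
    exact normU h hW hg hu
  have hv1L : v₁ ∉ Lg h := by
    intro hv
    have h3 := lcomm hv hr.fv₂.symm hr.zv₂.symm
    rw [hr.v₂v₁, ← mul_assoc, mul_eq_left] at h3
    exact hr.z1 h3
  have hv2L : v₂ ∉ Lg h := by
    intro hv
    have h3 := lcomm hv hr.fv₁.symm hr.zv₁.symm
    rw [hr.v₂v₁, ← mul_assoc, left_eq_mul] at h3
    exact hr.z1 h3
  have cY : Nat.card (Yg h) ≤ 8 := by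
    have h1 := card_grow (A := Lg h) (hv := h.xx) (hc := lc h h.toT8R.fx h.zx)
    rw [card_Lg] at h1
    exact h1
  have sqY : ∀ y ∈ Yg h, y * y = 1 := by
    rintro y (hl | ⟨l, hl, rfl⟩)
    · exact lsq hr hl
    · have h1 := lc h h.toT8R.fx h.zx l hl
      calc x * l * (x * l) = x * l * (l * x) := by rw [h1]
        _ = x * (l * l) * x := by group
        _ = 1 := by rw [lsq hr hl, mul_one, hr.xx]
  have memc : ∀ {g}, g ∈ centralizer (U1 h : Set G) ⊓ centralizer (U2 h : Set G) →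
      g * z = z * g ∧ g * f = f * g ∧ g * v₁ = v₁ * g ∧ g * v₂ = v₂ * g := by
    intro g hg
    rw [mem_inf, mem_centralizer_iff, mem_centralizer_iff] at hg
    refine ⟨(hg.1 z (Or.inl ?_)).symm, (hg.1 f (Or.inl ?_)).symm, (hg.1 v₁ (Or.inr ⟨1, (Lg h).one_mem, ?_⟩)).symm,
      (hg.2 v₂ (Or.inr ⟨1, (Lg h).one_mem, ?_⟩)).symm⟩
    · exact Or.inr (Or.inl rfl)
    · exact Or.inr (Or.inr (Or.inl rfl))
    · rw [mul_one]
    · rw [mul_one]
  refine HsxJ.card_le (x := x) (z := z) (f := f) (v₁ := v₁) (v₂ := v₂) (L := Lg h) (U₁ := U1 h) (U₂ := U2 h)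
    (Y := Yg h) (card_Lg h) cY (Or.inr (Or.inl rfl)) (Or.inr (Or.inr (Or.inl rfl))) hr.f1 hr.z1 (fun e => hr.fz e.symm)
    (fun a ha => Or.inl ha) (fun u hu => hu) (fun u hu => hu) (Or.inr ⟨1, (Lg h).one_mem, by rw [mul_one]⟩)
    (Or.inr ⟨1, (Lg h).one_mem, by rw [mul_one]⟩) hv1L hv2L (fun c hc g hz hf => lcomm hc hf hz) nU1 ?_ hO ?_ ?_ ?_
    (Or.inr ⟨1, (Lg h).one_mem, by rw [mul_one]⟩) ?_
  · -- `U₂` normal in `C(f z)`
    intro g hg u hu
    have h1 := r'_U h hu
    have e1 : r⁻¹ * (f * z) * r = f := by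
      calc r⁻¹ * (f * z) * r = r⁻¹ * (r * f * r⁻¹) * r := by rw [h.rf]
        _ = f := by group
    have h2 : (r⁻¹ * g * r) * f = f * (r⁻¹ * g * r) := by
      calc (r⁻¹ * g * r) * f = (r⁻¹ * g * r) * (r⁻¹ * (f * z) * r) := by rw [e1]
        _ = r⁻¹ * (g * (f * z)) * r := by group
        _ = r⁻¹ * (f * z) * r * (r⁻¹ * g * r) := by rw [hg]; group
        _ = f * (r⁻¹ * g * r) := by rw [e1]
    have h3 := r_U h (nU1 _ h2 _ h1)
    have e2 : r * (r⁻¹ * g * r * (r⁻¹ * u * r) * (r⁻¹ * g * r)⁻¹) * r⁻¹ = g * u * g⁻¹ := by group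
    rwa [e2] at h3
  · -- `Y` centralises `U₁`, `U₂`
    intro y hy
    have hyz : y * z = z * y := by
      rcases hy with hl | ⟨l, hl, rfl⟩
      · exact (lcomm hl hr.zf rfl).symm
      · have := lcomm hl hr.zf rfl
        rw [mul_assoc, ← this, ← mul_assoc, ← hr.zx, mul_assoc]
    have hyf : y * f = f * y := by
      rcases hy with hl | ⟨l, hl, rfl⟩
      · exact (lcomm hl rfl hr.zf.symm).symm
      · have := lcomm hl rfl hr.zf.symm
        rw [mul_assoc, ← this, ← mul_assoc, ← hr.fx, mul_assoc]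
    have hy1 : y * v₁ = v₁ * y := by
      rcases hy with hl | ⟨l, hl, rfl⟩
      · exact (lcomm hl hr.fv₁.symm hr.zv₁.symm).symm
      · have := lcomm hl hr.fv₁.symm hr.zv₁.symm
        rw [mul_assoc, ← this, ← mul_assoc, ← hr.v₁x, mul_assoc]
    have hy2 : y * v₂ = v₂ * y := by
      rcases hy with hl | ⟨l, hl, rfl⟩
      · exact (lcomm hl hr.fv₂.symm hr.zv₂.symm).symm
      · have := lcomm hl hr.fv₂.symm hr.zv₂.symm
        rw [mul_assoc, ← this, ← mul_assoc, ← hr.v₂x, mul_assoc]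
    refine mem_inf.2 ⟨mem_centralizer_iff.2 ?_, mem_centralizer_iff.2 ?_⟩
    · rintro u (hu | ⟨l, hl, rfl⟩)
      · exact (lcomm hu hyf hyz).symm
      · have := lcomm hl hyf hyz
        rw [mul_assoc, ← this, ← mul_assoc, ← hy1, mul_assoc]
    · rintro u (hu | ⟨l, hl, rfl⟩)
      · exact (lcomm hu hyf hyz).symm
      · have := lcomm hl hyf hyz
        rw [mul_assoc, ← this, ← mul_assoc, ← hy2, mul_assoc]
  · -- a 2-group
    intro y
    refine ⟨1, ?_⟩
    rw [pow_one, pow_two]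
    apply Subtype.ext
    exact sqY y y.2
  · intro y hy y' hy'
    exact comm_of_sq (sqY y hy) (sqY y' hy') (sqY _ ((Yg h).mul_mem hy hy'))
  · -- self-normalising
    intro n hn hnx
    obtain ⟨hz, hf, hv1, hv2⟩ := memc hn
    refine centY h ⟨hf, hz, ?_⟩ hv1 hv2
    rcases hnx with hl | ⟨l, hl, e⟩
    · exfalso
      apply x_notL h
      have hl' : InL z f (n * x * n⁻¹) := hl
      have e2 : n * (n * x * n⁻¹) = (n * x * n⁻¹) * n := lcomm hl' hf hz
      have e3 : x = n * x * n⁻¹ := by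
        have e4 : n⁻¹ * (n * (n * x * n⁻¹)) * n⁻¹ = n⁻¹ * ((n * x * n⁻¹) * n) * n⁻¹ := by rw [e2]
        have e5 : n⁻¹ * (n * (n * x * n⁻¹)) * n⁻¹ = n * x * n⁻¹ * n⁻¹ := by group
        have e6 : n⁻¹ * ((n * x * n⁻¹) * n) * n⁻¹ = x * n⁻¹ := by group
        rw [e5, e6] at e4
        exact (mul_right_cancel e4).symm
      rw [e3]; exact hl'
    · exact ⟨l, hl, e⟩

theorem mem_E1 {g : G} : g ∈ E1 h ↔ InU z f v₁ g ∨ ∃ t, InU z f v₁ t ∧ g = x * t := by
  constructor
  · rintro (hu | ⟨u, hu, rfl⟩)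
    · exact Or.inl ((mem_U1 h).1 hu)
    · exact Or.inr ⟨u, (mem_U1 h).1 hu, rfl⟩
  · rintro (hu | ⟨u, hu, rfl⟩)
    · exact Or.inl ((mem_U1 h).2 hu)
    · exact Or.inr ⟨u, (mem_U1 h).2 hu, rfl⟩

theorem E1_sq : ∀ a ∈ E1 h, a * a = 1 := by
  have hr := h.toT8R
  have hU : ∀ a ∈ U1 h, a * a = 1 := by
    rintro a (hl | ⟨l, hl, rfl⟩)
    · exact lsq hr hl
    · have h1 := lc h h.fv₁ h.zv₁ l hl
      calc v₁ * l * (v₁ * l) = v₁ * l * (l * v₁) := by rw [h1]
        _ = v₁ * (l * l) * v₁ := by group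
        _ = 1 := by rw [lsq hr hl, mul_one, hr.v₁v₁]
  rintro a (hu | ⟨u, hu, rfl⟩)
  · exact hU a hu
  · have h1 := xU1 h u hu
    calc x * u * (x * u) = x * u * (u * x) := by rw [h1]
      _ = x * (u * u) * x := by group
      _ = 1 := by rw [hU u hu, mul_one, hr.xx]

/-- **(HSx) is dead with `W`** -/
theorem no_W [Finite G] (hO : centralizerPPrimeCore 2 f = ⊥)
    (N : Subgroup G) (hNf : ∀ g ∈ N, g * f = f * g) (hN : ∀ g ∈ N, ∀ e ∈ E1 h, g * e * g⁻¹ ∈ E1 h)
    (hcN : 768 ≤ Nat.card N)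
    (hd : ∀ W : Subgroup G, (∀ a ∈ W, a * a = 1) → (∀ w ∈ W, w * z = z * w) →
      (∀ g, g * z = z * g → ∀ w ∈ W, g * w * g⁻¹ ∈ W) → (∃ w ∈ W, w ≠ 1 ∧ w ≠ z) → WN x z f W)
    {W : Subgroup G} (hW : WN x z f W) : False := by
  have hr := h.toT8R
  have h1 := card_le h hW hO
  have h2 : N ≤ centralizer ({f} : Set G) := fun g hg => mem_centralizer_singleton_iff.2 (hNf g hg)
  have h3 : N = centralizer ({f} : Set G) :=
    Subgroup.eq_of_le_of_card_ge h2 (h1.trans hcN)
  have hE : ∀ g, g * f = f * g → ∀ e ∈ E1 h, g * e * g⁻¹ ∈ E1 h := by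
    intro g hg
    apply hN
    rw [h3]
    exact mem_centralizer_singleton_iff.2 hg
  let φ : G ≃* G := MulAut.conj (r * m)
  let W' : Subgroup G := (E1 h).comap φ.toMonoidHom
  have memW' : ∀ {w}, w ∈ W' ↔ (r * m) * w * (r * m)⁻¹ ∈ E1 h := fun {w} => Iff.rfl
  have fE : f ∈ E1 h := (mem_E1 h).2 (Or.inl ⟨f, Or.inr (Or.inr (Or.inl rfl)), Or.inl rfl⟩)
  have fzE : f * z ∈ E1 h := (mem_E1 h).2 (Or.inl ⟨f * z, Or.inr (Or.inr (Or.inr rfl)), Or.inl rfl⟩)
  have xE : x ∈ E1 h := Or.inr ⟨1, (U1 h).one_mem, by rw [mul_one]⟩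
  have elW' : ∀ a ∈ W', a * a = 1 := by
    intro a ha
    have h5 := E1_sq h _ (memW'.1 ha)
    have e : (r * m) * a * (r * m)⁻¹ * ((r * m) * a * (r * m)⁻¹) = (r * m) * (a * a) * (r * m)⁻¹ := by group
    rw [e] at h5
    have e3 : (r * m)⁻¹ * ((r * m) * (a * a) * (r * m)⁻¹) * (r * m) = a * a := by group
    rw [← e3, h5]; group
  have hW' : WN x z f W' := by
    apply hd
    · exact elW'
    · intro w hw
      have hz' : z ∈ W' := by rw [memW', rho_z h]; exact fE
      exact comm_of_sq (elW' w hw) (elW' z hz') (elW' _ (W'.mul_mem hw hz'))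
    · intro g hg w hw
      rw [memW'] at hw ⊢
      have h5 : ((r * m) * g * (r * m)⁻¹) * f = f * ((r * m) * g * (r * m)⁻¹) := by
        calc ((r * m) * g * (r * m)⁻¹) * f = ((r * m) * g * (r * m)⁻¹) * ((r * m) * z * (r * m)⁻¹) := by rw [rho_z h]
          _ = (r * m) * (g * z) * (r * m)⁻¹ := by group
          _ = ((r * m) * z * (r * m)⁻¹) * ((r * m) * g * (r * m)⁻¹) := by rw [hg]; group
          _ = f * ((r * m) * g * (r * m)⁻¹) := by rw [rho_z h]
      have h6 := hE _ h5 _ hw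
      have e : (r * m) * g * (r * m)⁻¹ * ((r * m) * w * (r * m)⁻¹) * ((r * m) * g * (r * m)⁻¹)⁻¹ =
          (r * m) * (g * w * g⁻¹) * (r * m)⁻¹ := by group
      rwa [e] at h6
    · refine ⟨f, ?_, hr.f1, hr.fz⟩
      rw [memW', rho_f h]; exact fzE
  apply not_x h hW'
  refine ⟨r * m, rho_z h, ?_⟩
  rw [memW']
  have e : (r * m) * ((r * m)⁻¹ * x * (r * m)) * (r * m)⁻¹ = x := by group
  rw [e]; exact xE

end

end Cfsg.Agent.OddHalf.D5.SixAut.HsxEnd

end
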