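import Mathlib
import Cfsg.Agent.OddHalf.D5.Setup
import Cfsg.Agent.OddHalf.Soft
import Cfsg.Agent.StandardComponent.AltFinal
import Cfsg.Agent.GH.L2One.Inst
import Cfsg.Agent.UGT.FrameRank
import Cfsg.Agent.TwoFusion.SLTwoFacts
import Cfsg.Agent.SignalizersComponents.EvenComponent
import Cfsg.Agent.OddHalf.D5.SixAut.FitZ
import Cfsg.Agent.OddHalf.D5.Rows

-- merged: Cfsg.Agent.OddHalf.UQ4Std
section

/-!
# Centralizers of order at least 4: standard components

`K` standard in the simple group `G`, `t ∈ C(K)` an involution, `O(C(t)) = 1`, the Sylow 2-subgroups of `C(K)` cyclic.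
Then `R = C(t) ∩ C(K)` is a cyclic 2-group (`isCyclic_RR`); if `K` is `A_n`, `n ≥ 7`, then `R = ⟨t⟩`
(`RR_eq_of_alt`) and the Sylow 2-subgroups of `C(K)` have order 2 (`card_sylow_of_alt`).
-/

set_option autoImplicit false
set_option linter.style.haveILetI false

namespace Cfsg.Agent.OddHalf.UQ4

open Subgroup

universe u

variable {G : Type u} [Group G] {K : Subgroup G} {t : G}

theorem RR_le_centralizer : RR t K ≤ centralizer (K : Set G) := inf_le_right

/-- Normality of `K` in `C(t)`. -/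
theorem norm_of_std [Finite G] (std : IsStandardSubgroup K) (ht : orderOf t = 2)
    (htK : t ∈ centralizer (K : Set G)) (x : G) (hx : x * t = t * x) (k : G) (hk : k ∈ K) :
    x * k * x⁻¹ ∈ K := by
  have h := (Cfsg.Agent.S1754.result K std t ht htK).1 (mem_centralizer_singleton_iff.2 hx)
  exact (mem_normalizer_iff.1 h k).1 hk

theorem norm_RR_of (hn : ∀ x : G, x * t = t * x → ∀ k ∈ K, x * k * x⁻¹ ∈ K) {x y : G} (hx : x * t = t * x)
    (hy : y ∈ RR t K) : x * y * x⁻¹ ∈ RR t K := by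
  rw [mem_RR] at hy ⊢
  have hi : x⁻¹ * t = t * x⁻¹ := by
    calc x⁻¹ * t = x⁻¹ * (t * x) * x⁻¹ := by group
      _ = t * x⁻¹ := by rw [← hx]; group
  constructor
  · have h : x * t * x⁻¹ = t := by rw [hx]; group
    have := comm_conj x hy.1
    rwa [h] at this
  · intro k hk
    have h0 := hn _ hi _ hk
    rw [inv_inv] at h0
    have h := comm_conj x (hy.2 _ h0)
    have h2 : x * (x⁻¹ * k * x) * x⁻¹ = k := by group
    rwa [h2] at h

/-- A subgroup of odd order of `C(t)`, normalized by a subnormal subgroup containing it, is trivial. -/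
theorem eq_bot_of_odd [Finite G] (hO : centralizerPPrimeCore 2 t = ⊥) {X N : Subgroup G} (hNX : N ≤ X)
    (hX : X ≤ centralizer ({t} : Set G)) (hXn : ∀ x, x * t = t * x → ∀ y ∈ X, x * y * x⁻¹ ∈ X)
    (hNn : ∀ x ∈ X, ∀ y ∈ N, x * y * x⁻¹ ∈ N) (hodd : Odd (Nat.card N)) : N = ⊥ := by
  set C := centralizer ({t} : Set G) with hC
  have h1 : (X.subgroupOf C).Normal := by
    refine ⟨fun y hy x => ?_⟩
    rw [mem_subgroupOf] at hy ⊢
    exact hXn _ (mem_centralizer_singleton_iff.1 x.2) _ hy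
  have h2 : ((N.subgroupOf C).subgroupOf (X.subgroupOf C)).Normal := by
    refine ⟨fun y hy x => ?_⟩
    rw [mem_subgroupOf, mem_subgroupOf] at hy ⊢
    exact hNn _ (mem_subgroupOf.1 x.2) _ hy
  have h3 : N.subgroupOf C ≤ X.subgroupOf C := comap_mono hNX
  have h4 : (N.subgroupOf C).IsSubnormal := IsSubnormal.step _ _ h3 h1.isSubnormal h2
  have h5 : (Nat.card (N.subgroupOf C)).Coprime 2 := by
    rw [Nat.card_congr (subgroupOfEquivOfLe (hNX.trans hX)).toEquiv]
    exact Nat.coprime_two_right.2 hodd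
  have h6 := Lib.PComponents.le_pPrimeCore_of_isSubnormal h4 h5
  rw [Soft.core_eq_bot hO, le_bot_iff, subgroupOf_eq_bot, disjoint_iff] at h6
  rw [← h6]
  exact (inf_eq_left.2 (hNX.trans hX)).symm

/-- `R = C(t) ∩ C(K)` is a cyclic 2-group. -/
theorem isCyclic_RR [Finite G] (hO : centralizerPPrimeCore 2 t = ⊥)
    (hn : ∀ x : G, x * t = t * x → ∀ k ∈ K, x * k * x⁻¹ ∈ K)
    (ht : orderOf t = 2) (htK : t ∈ centralizer (K : Set G))
    (hc : ∀ P : Sylow 2 ↥(centralizer (K : Set G)), IsCyclic ↥(P : Subgroup ↥(centralizer (K : Set G)))) :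
    IsPGroup 2 ↥(RR t K) ∧ IsCyclic ↥(RR t K) := by
  classical
  haveI : Fact (Nat.Prime 2) := ⟨Nat.prime_two⟩
  have htR : t ∈ RR t K := ⟨mem_centralizer_singleton_iff.2 rfl, htK⟩
  have heven : (Nat.card ↥(RR t K)).minFac = 2 := by
    rw [Nat.minFac_eq_two_iff, ← ht, ← Subgroup.orderOf_mk _ htR]
    exact orderOf_dvd_natCard _
  obtain ⟨P⟩ : Nonempty (Sylow 2 ↥(RR t K)) := inferInstance
  -- `P` is cyclic
  have hPc : IsCyclic ↥(P : Subgroup ↥(RR t K)) := by
    let f : ↥(RR t K) →* ↥(centralizer (K : Set G)) := Subgroup.inclusion RR_le_centralizer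
    have hf : Function.Injective f := Subgroup.inclusion_injective _
    have h1 : IsPGroup 2 ((P : Subgroup ↥(RR t K)).map f) := P.isPGroup'.map f
    obtain ⟨Q, hQ⟩ := h1.exists_le_sylow
    haveI := hc Q
    have h2 : IsCyclic ((P : Subgroup ↥(RR t K)).map f) :=
      isCyclic_of_injective (Subgroup.inclusion hQ) (Subgroup.inclusion_injective _)
    exact isCyclic_of_surjective ((P : Subgroup ↥(RR t K)).equivMapOfInjective f hf).symm
      ((P : Subgroup ↥(RR t K)).equivMapOfInjective f hf).symm.surjective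
  -- the normal complement is trivial
  obtain ⟨N, hNn, hcomp⟩ : ∃ N : Subgroup ↥(RR t K), N.Normal ∧ N.IsComplement' (P : Subgroup ↥(RR t K)) :=
    ⟨_, inferInstance, IsCyclic.isComplement' heven hPc⟩
  have hNodd : Odd (Nat.card N) := by
    have h1 := hcomp.index_eq_card
    rw [← h1]
    have h2 := P.not_dvd_index
    rwa [← Nat.not_even_iff_odd, even_iff_two_dvd]
  have hNbot : N = ⊥ := by
    have h1 : N.map (RR t K).subtype = ⊥ := by
      refine eq_bot_of_odd hO (X := RR t K) (map_subtype_le N) inf_le_left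
        (fun x hx y hy => norm_RR_of hn hx hy) ?_ ?_
      · rintro x hx _ ⟨y, hy, rfl⟩
        exact ⟨⟨x, hx⟩ * y * ⟨x, hx⟩⁻¹, hNn.conj_mem _ hy _, rfl⟩
      · rwa [Nat.card_congr (N.equivMapOfInjective _ (RR t K).subtype_injective).toEquiv.symm]
    exact (map_eq_bot_iff_of_injective _ (RR t K).subtype_injective).1 h1
  have hPtop : (P : Subgroup ↥(RR t K)) = ⊤ := by
    have h1 := hcomp.sup_eq_top
    rwa [hNbot, bot_sup_eq] at h1
  have hP2 := P.isPGroup'
  rw [hPtop] at hP2 hPc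
  exact ⟨hP2.of_equiv Subgroup.topEquiv, isCyclic_of_surjective Subgroup.topEquiv Subgroup.topEquiv.surjective⟩

/-- In a cyclic group there is at most one involution. -/
theorem eq_of_cyclic {H : Type*} [Group H] [Finite H] [IsCyclic H] {x y : H} (hx : x * x = 1) (hx1 : x ≠ 1)
    (hy : y * y = 1) (hy1 : y ≠ 1) : x = y := by
  classical
  haveI := Fintype.ofFinite H
  by_contra hne
  have h := IsCyclic.card_pow_eq_one_le (α := H) (n := 2) (by norm_num)
  have h1 : ({1, x, y} : Finset H) ⊆ Finset.univ.filter (fun a : H => a ^ 2 = 1) := by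
    intro a ha
    simp only [Finset.mem_insert, Finset.mem_singleton] at ha
    rw [Finset.mem_filter]
    refine ⟨Finset.mem_univ _, ?_⟩
    rcases ha with rfl | rfl | rfl
    · exact one_pow 2
    · rw [pow_two, hx]
    · rw [pow_two, hy]
  have h2 := Finset.card_le_card h1
  rw [Finset.card_eq_three.2 ⟨1, x, y, Ne.symm hx1, Ne.symm hy1, hne, rfl⟩] at h2
  omega

/-- The frame. -/
theorem fr_of_std [Finite G] (std : IsStandardSubgroup K) (hO : centralizerPPrimeCore 2 t = ⊥)
    (hc : ∀ P : Sylow 2 ↥(centralizer (K : Set G)), IsCyclic ↥(P : Subgroup ↥(centralizer (K : Set G))))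
    (hZ : center ↥K = ⊥) (ht : orderOf t = 2) (htK : t ∈ centralizer (K : Set G))
    (hr : ∃ r ∈ centralizer (K : Set G), r * r = t) : Fr t K := by
  have t1 : t ≠ 1 := by
    rintro rfl
    rw [orderOf_one] at ht
    exact absurd ht (by decide)
  have tt : t * t = 1 := by rw [← pow_two, ← ht, pow_orderOf_eq_one]
  have hn := norm_of_std std ht htK
  have hle : ∀ k ∈ K, t * k = k * t := fun k hk => (mem_centralizer_iff.1 htK k hk).symm
  refine ⟨t1, tt, ?_, hle, hn, ?_, ?_, ?_⟩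
  · intro h
    have h1 : (⟨t, h⟩ : K) ∈ center ↥K := by
      rw [mem_center_iff]
      intro g
      exact Subtype.ext (hle g g.2).symm
    rw [hZ, mem_bot] at h1
    exact t1 (congrArg Subtype.val h1)
  · intro x hx hxK hxx
    have hR := (isCyclic_RR hO hn ht htK hc).2
    by_cases hx1 : x = 1
    · exact Or.inl hx1
    right
    have hxR : x ∈ RR t K := mem_RR.2 ⟨hx, hxK⟩
    have htR : t ∈ RR t K := mem_RR.2 ⟨rfl, hle⟩
    exact congrArg Subtype.val (eq_of_cyclic (x := (⟨x, hxR⟩ : RR t K)) (y := ⟨t, htR⟩) (Subtype.ext hxx)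
      (fun h => hx1 (congrArg Subtype.val h)) (Subtype.ext tt) (fun h => t1 (congrArg Subtype.val h)))
  · intro N hN hNn hodd
    exact eq_bot_of_odd hO hN (fun k hk => mem_centralizer_singleton_iff.2 (hle k hk).symm) hn hNn hodd
  · obtain ⟨r, hr, hrt⟩ := hr
    exact ⟨r, fun k hk => (mem_centralizer_iff.1 hr k hk).symm, hrt⟩

/-- `R = ⟨t⟩` if `t` is not a square in `C(K)`. -/
theorem RR_eq_of_not_square [Finite G] (hO : centralizerPPrimeCore 2 t = ⊥)
    (hn : ∀ x : G, x * t = t * x → ∀ k ∈ K, x * k * x⁻¹ ∈ K)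
    (ht : orderOf t = 2) (htK : t ∈ centralizer (K : Set G))
    (hc : ∀ P : Sylow 2 ↥(centralizer (K : Set G)), IsCyclic ↥(P : Subgroup ↥(centralizer (K : Set G))))
    (hr : ∀ r ∈ centralizer (K : Set G), r * r ≠ t) : RR t K = zpowers t := by
  classical
  haveI : Fact (Nat.Prime 2) := ⟨Nat.prime_two⟩
  have t1 : t ≠ 1 := by
    rintro rfl
    rw [orderOf_one] at ht
    exact absurd ht (by decide)
  have tt : t * t = 1 := by rw [← pow_two, ← ht, pow_orderOf_eq_one]
  have htR : t ∈ RR t K := ⟨mem_centralizer_singleton_iff.2 rfl, htK⟩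
  obtain ⟨h2, hR⟩ := isCyclic_RR hO hn ht htK hc
  obtain ⟨m, hm⟩ := IsPGroup.iff_card.1 h2
  obtain ⟨g, hg⟩ := hR.exists_generator
  have hog : orderOf g = 2 ^ m := by rw [← hm]; exact orderOf_eq_card_of_forall_mem_zpowers hg
  have hm1 : m = 1 := by
    by_contra hne
    rcases m with _ | _ | m
    · -- trivial group
      rw [pow_zero] at hm
      have := (Nat.card_eq_one_iff_unique.1 hm).1
      exact t1 (congrArg Subtype.val (Subsingleton.elim (⟨t, htR⟩ : RR t K) 1))
    · exact hne rfl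
    · -- `g ^ (2 ^ m)` is a square root of `t`
      apply hr ((g ^ 2 ^ m : RR t K) : G) (RR_le_centralizer (g ^ 2 ^ m : RR t K).2)
      have h3 : (g ^ 2 ^ m : RR t K) * g ^ 2 ^ m = ⟨t, htR⟩ := by
        apply eq_of_cyclic
        · rw [← pow_add, ← pow_add, ← orderOf_dvd_iff_pow_eq_one, hog]
          apply dvd_of_eq
          ring
        · intro h
          rw [← pow_add, ← orderOf_dvd_iff_pow_eq_one, hog] at h
          have h4 := Nat.le_of_dvd (by positivity) h
          have h5 : 2 ^ (m + 1 + 1) = 4 * 2 ^ m := by ring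
          have h6 : 0 < 2 ^ m := by positivity
          omega
        · exact Subtype.ext tt
        · exact fun h => t1 (congrArg Subtype.val h)
      exact congrArg Subtype.val h3
  symm
  apply eq_of_le_of_card_ge (zpowers_le.2 htR)
  rw [hm, hm1, Nat.card_zpowers, ht, pow_one]

/-- The Sylow 2-subgroups of `C(K)` have order 2 if `R = ⟨t⟩`. -/
theorem card_sylow_of_RR [Finite G] (ht : orderOf t = 2) (htK : t ∈ centralizer (K : Set G))
    (hc : ∀ P : Sylow 2 ↥(centralizer (K : Set G)), IsCyclic ↥(P : Subgroup ↥(centralizer (K : Set G))))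
    (hR : RR t K = zpowers t) (P : Sylow 2 ↥(centralizer (K : Set G))) :
    Nat.card ↥(P : Subgroup ↥(centralizer (K : Set G))) = 2 := by
  classical
  haveI : Fact (Nat.Prime 2) := ⟨Nat.prime_two⟩
  have ho : orderOf (⟨t, htK⟩ : centralizer (K : Set G)) = 2 := by rw [Subgroup.orderOf_mk, ht]
  have h1 : IsPGroup 2 (zpowers (⟨t, htK⟩ : centralizer (K : Set G))) :=
    IsPGroup.of_card (n := 1) (by rw [Nat.card_zpowers, ho, pow_one])
  obtain ⟨Q, hQ⟩ := h1.exists_le_sylow
  have hPQ : Nat.card (P : Subgroup ↥(centralizer (K : Set G))) = Nat.card (Q : Subgroup ↥(centralizer (K : Set G))) :=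
    Nat.card_congr (P.equiv Q).toEquiv
  rw [hPQ]
  have htQ : (⟨t, htK⟩ : centralizer (K : Set G)) ∈ (Q : Subgroup ↥(centralizer (K : Set G))) := hQ (mem_zpowers _)
  have h2 : (Q : Subgroup ↥(centralizer (K : Set G))) = zpowers (⟨t, htK⟩ : centralizer (K : Set G)) := by
    refine le_antisymm (fun x hx => ?_) hQ
    have hcyc := hc Q
    letI := hcyc.commGroup
    have h3 : (⟨x, hx⟩ : (Q : Subgroup ↥(centralizer (K : Set G)))) * ⟨⟨t, htK⟩, htQ⟩ = ⟨⟨t, htK⟩, htQ⟩ * ⟨x, hx⟩ := mul_comm _ _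
    have h4 : (x : G) * t = t * x := congrArg (fun z : (Q : Subgroup ↥(centralizer (K : Set G))) => ((z : ↥(centralizer (K : Set G))) : G)) h3
    have h5 : (x : G) ∈ RR t K := ⟨mem_centralizer_singleton_iff.2 h4, x.2⟩
    rw [hR, mem_zpowers_iff] at h5
    obtain ⟨k, hk⟩ := h5
    rw [mem_zpowers_iff]
    exact ⟨k, Subtype.ext (by rw [← hk]; rfl)⟩
  rw [h2, Nat.card_zpowers, ho]

/-- `t` is not a square in `C(K)`, if `|Out K| ≤ 2` and `K` satisfies `KFact`. -/
theorem not_square [Finite G] [IsSimpleGroup G] (hna : ¬ IsMulCommutative G) (std : IsStandardSubgroup K)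
    (hO : centralizerPPrimeCore 2 t = ⊥)
    (hc : ∀ P : Sylow 2 ↥(centralizer (K : Set G)), IsCyclic ↥(P : Subgroup ↥(centralizer (K : Set G))))
    (hZ : center ↥K = ⊥) (ht : orderOf t = 2) (htK : t ∈ centralizer (K : Set G))
    (O : OutTwo K) (P : KFact K) : ∀ r ∈ centralizer (K : Set G), r * r ≠ t := by
  intro r hr hrt
  have F := fr_of_std std hO hc hZ ht htK ⟨r, hr, hrt⟩
  obtain ⟨g, hg1, hg2⟩ := StandardComponent.AltFinal.exists_conj hna ht
  exact F.main_out ⟨g, hg1, hg2⟩ (isCyclic_RR hO F.norm ht htK hc).2 O P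

/-- **[O4]** for `K = A_n`, `n ≥ 7`: `R = ⟨t⟩`. -/
theorem RR_eq_of_alt [Finite G] [IsSimpleGroup G] (hna : ¬ IsMulCommutative G) (std : IsStandardSubgroup K)
    (hO : centralizerPPrimeCore 2 t = ⊥)
    (hc : ∀ P : Sylow 2 ↥(centralizer (K : Set G)), IsCyclic ↥(P : Subgroup ↥(centralizer (K : Set G))))
    {n : ℕ} (hn : 7 ≤ n) (e : K ≃* alternatingGroup (Fin n))
    (ht : orderOf t = 2) (htK : t ∈ centralizer (K : Set G)) :
    centralizer ({t} : Set G) ⊓ centralizer (K : Set G) = zpowers t := by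
  have hZ : center ↥K = ⊥ := by
    rw [eq_bot_iff]
    intro x hx
    rw [mem_center_iff] at hx
    rw [mem_bot]
    apply e.injective
    rw [map_one]
    apply Subtype.ext
    obtain ⟨m, rfl⟩ : ∃ m, n = m + 2 := ⟨n - 2, by omega⟩
    apply StandardComponent.AltAut.eq_one_of_centralizes (m := m) (by omega)
    intro y
    have h1 := congrArg (fun z => ((e z : alternatingGroup (Fin (m + 2))) : Equiv.Perm (Fin (m + 2)))) (hx (e.symm y))
    simp only [map_mul, e.apply_symm_apply, Subgroup.coe_mul] at h1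
    rw [← h1]
    group
  exact RR_eq_of_not_square hO (norm_of_std std ht htK) ht htK hc
    (not_square hna std hO hc hZ ht htK ((outTwo_alt hn).congr e.symm) ((kfact_alt hn).congr e.symm))

/-- **[O4]** for `K = A_n`, `n ≥ 7`: the Sylow 2-subgroups of `C(K)` have order 2. -/
theorem card_sylow_of_alt [Finite G] [IsSimpleGroup G] (hna : ¬ IsMulCommutative G) (std : IsStandardSubgroup K)
    (hO : centralizerPPrimeCore 2 t = ⊥)
    (hc : ∀ P : Sylow 2 ↥(centralizer (K : Set G)), IsCyclic ↥(P : Subgroup ↥(centralizer (K : Set G))))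
    {n : ℕ} (hn : 7 ≤ n) (e : K ≃* alternatingGroup (Fin n))
    (ht : orderOf t = 2) (htK : t ∈ centralizer (K : Set G)) (P : Sylow 2 ↥(centralizer (K : Set G))) :
    Nat.card ↥(P : Subgroup ↥(centralizer (K : Set G))) = 2 :=
  card_sylow_of_RR ht htK hc (RR_eq_of_alt hna std hO hc hn e ht htK) P

end Cfsg.Agent.OddHalf.UQ4

end

-- merged: Cfsg.Agent.OddHalf.D6.QTwo
section

/-!
# D6, `K = L₂(q)`: the Sylow 2-subgroups of `C(K)` have order 2

`K` standard in the simple group `G`, `K ≅ L₂(q)` (`q` odd, `q ≥ 5`; or any simple `K` with `HasData`), `t ∈ C(K)` an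
involution, `O(C(t)) = 1`, the Sylow 2-subgroups of `C(K)` cyclic. If `t` is a square in `C(K)`, then the sectional
2-rank of `G` is at most 4 (`rank_of_l2`). So in the world of `Iface.Ctx` they have order 2 (`card_sylow_of_l2`), and
`C(t) ∩ C(K) = ⟨t⟩` (`inf_eq_of_l2`).
-/

set_option autoImplicit false
set_option linter.style.haveILetI false

namespace Cfsg.Agent.OddHalf.D6.QTwo

open Subgroup Cfsg Cfsg.Agent.OddHalf.Iface Cfsg.Agent.OddHalf.UQ4
open Cfsg.Agent.Intrinsic.Basic Cfsg.Agent.GH.Defs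
open Cfsg.Agent.Walter.SylowIn
open scoped commutatorElement

universe u

variable {G : Type u} [Group G] {K : Subgroup G} {t : G}

/-- `K ≃ K / O(K)` if `O(K) = 1`. -/
noncomputable def barEquiv (hO : oddCore ↥K = ⊥) : ↥K ≃* Bar K :=
  ((QuotientGroup.quotientMulEquivOfEq hO).trans QuotientGroup.quotientBot).symm

theorem center_bar (hO : oddCore ↥K = ⊥) (hZ : center ↥K = ⊥) : center (Bar K) = ⊥ := by
  rw [eq_bot_iff]
  intro y hy
  rw [mem_bot]
  have h1 : (barEquiv hO).symm y ∈ center ↥K := by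
    rw [mem_center_iff] at hy ⊢
    intro g
    have h2 := hy (barEquiv hO g)
    apply (barEquiv hO).injective
    rw [map_mul, map_mul, (barEquiv hO).apply_symm_apply]
    exact h2
  rw [hZ, mem_bot] at h1
  rw [← (barEquiv hO).apply_symm_apply y, h1, map_one]

/-- `K ≃ STop K` if `O(K) = 1` and `Z(K) = 1`. -/
noncomputable def topEquiv' (hO : oddCore ↥K = ⊥) (hZ : center ↥K = ⊥) : ↥K ≃* STop K :=
  (barEquiv hO).trans
    ((QuotientGroup.quotientMulEquivOfEq (center_bar hO hZ)).trans QuotientGroup.quotientBot).symm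

theorem core_eq_bot (hO : oddCore ↥K = ⊥) : core K = ⊥ := by
  unfold core
  rw [hO, Subgroup.map_bot]

/-- `Fixes a K` for `O(K) = 1`: `a ∈ C(K)`. -/
theorem fixes_iff (hO : oddCore ↥K = ⊥) {a : G} : Fixes a K ↔ a ∈ centralizer (K : Set G) := by
  unfold Fixes
  rw [core_eq_bot hO]
  constructor
  · rintro ⟨-, h⟩
    rw [mem_centralizer_iff]
    intro y hy
    have h1 := h y hy
    rw [mem_bot, commutatorElement_eq_one_iff_mul_comm] at h1
    exact h1.symm
  · intro h
    refine ⟨?_, ?_⟩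
    · exact Subgroup.centralizer_le_normalizer _ h
    · intro y hy
      rw [mem_bot, commutatorElement_eq_one_iff_mul_comm]
      exact (mem_centralizer_iff.1 h y hy).symm

theorem center_eq_bot (hs : IsSimpleGroup ↥K) (hna : ¬ IsMulCommutative ↥K) : center ↥K = ⊥ := by
  rcases (inferInstance : (center ↥K).Normal).eq_bot_or_eq_top with h1 | h1
  · exact h1
  · exfalso
    refine hna ⟨⟨fun a b => ?_⟩⟩
    exact mem_center_iff.mp (h1 ▸ mem_top b : b ∈ center ↥K) a

/-- The frame of GH-L2 (`m₂(Q) = 1`, `|Q| ≥ 4`). -/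
theorem exists_frame [Finite G] (std : IsStandardSubgroup K) (hOt : centralizerPPrimeCore 2 t = ⊥)
    (hK : CompOf t K) (hc : Cyc K) (hs : IsSimpleGroup ↥K) (hKna : ¬ IsMulCommutative ↥K)
    (heven : Even (Nat.card ↥K)) (hd : GH.L2One.HasData ↥K) (ht : orderOf t = 2)
    (htK : t ∈ centralizer (K : Set G)) {r : G} (hr : r ∈ centralizer (K : Set G)) (hrt : r * r = t) :
    ∃ (T : Subgroup G) (A : Type) (_ : Group A) (d : ℕ) (r c : G) (o1 : G → ℤˣ) (o2 : G → A),
      GH.L2One.Frame t K T (T ⊓ K) (T ⊓ GH.L2Frame.fix K) d r c o1 o2 := by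
  classical
  haveI : Fact (Nat.Prime 2) := ⟨Nat.prime_two⟩
  have t1 : t ≠ 1 := by
    rintro rfl
    rw [orderOf_one] at ht
    exact absurd ht (by decide)
  have tt : t * t = 1 := by rw [← pow_two, ← ht, pow_orderOf_eq_one]
  have hn : ∀ x : G, x * t = t * x → ∀ k ∈ K, x * k * x⁻¹ ∈ K := norm_of_std std ht htK
  have hNK : centralizer ({t} : Set G) ≤ normalizer (K : Set G) :=
    (Cfsg.Agent.S1754.result K std t ht htK).1
  have hO : oddCore ↥K = ⊥ := Soft.oddCore_eq_bot heven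
  have hZ : center ↥K = ⊥ := center_eq_bot hs hKna
  have r4 : orderOf r = 4 := by
    have h1 : r ^ 2 ^ 2 = 1 := by
      have h2 : r ^ 2 ^ 2 = (r * r) * (r * r) := by
        rw [show (2 : ℕ) ^ 2 = 2 + 2 from rfl, pow_add, pow_two]
      rw [h2, hrt, tt]
    have h2 : ¬ r ^ 2 ^ 1 = 1 := by
      rw [pow_one, pow_two, hrt]
      exact t1
    rw [orderOf_eq_prime_pow h2 h1]
    norm_num
  have hrz : IsPGroup 2 (zpowers r) := IsPGroup.of_card (n := 2) (by rw [Nat.card_zpowers, r4]; norm_num)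
  have hrt' : r * t = t * r := by rw [← hrt, mul_assoc]
  have hrc : zpowers r ≤ centralizer ({t} : Set G) := by
    rw [zpowers_le]
    exact mem_centralizer_singleton_iff.2 hrt'
  obtain ⟨T, hT, hrT⟩ := exists_sylIn_ge hrc hrz
  have hfix : ∀ a : G, a ∈ GH.L2Frame.fix K ↔ a ∈ centralizer (K : Set G) := fun a => by
    rw [← fixes_iff hO]
    exact GH.L2Frame.mem_fix
  have F : GH.L2Frame.Frame (centralizer ({t} : Set G)) K T := by
    refine ⟨⟨hK.1, ?_⟩, ?_, hT.le.trans hNK, hT⟩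
    · refine SignalizersComponents.EvenComponent.isPComponent_of_isComponent hK.2 ?_
      rw [Nat.card_congr (subgroupOfEquivOfLe hK.1).toEquiv]
      exact even_iff_two_dvd.mp heven
    · unfold EvenCenter
      rw [center_bar hO hZ, Subgroup.card_bot]
      decide
  obtain ⟨A, i, d, r', c, o1, o2, h⟩ := GH.L2One.HasData.frame ht F hNK (hd.congr (topEquiv' hO hZ))
    (by
      intro q hq hqq
      have hRc := (isCyclic_RR hOt hn ht htK hc).2
      by_cases hq1 : q = 1
      · exact Or.inl hq1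
      right
      have hqR : q ∈ RR t K := ⟨hT.le hq.1, (hfix q).1 hq.2⟩
      have htR : t ∈ RR t K := ⟨mem_centralizer_singleton_iff.2 rfl, htK⟩
      exact congrArg Subtype.val (eq_of_cyclic (x := (⟨q, hqR⟩ : RR t K)) (y := ⟨t, htR⟩) (Subtype.ext hqq)
        (fun h => hq1 (congrArg Subtype.val h)) (Subtype.ext tt) (fun h => t1 (congrArg Subtype.val h))))
    (by
      have h1 : zpowers r ≤ T ⊓ GH.L2Frame.fix K := by
        rw [zpowers_le]
        exact ⟨hrT (mem_zpowers r), (hfix r).2 hr⟩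
      have h2 := Subgroup.card_le_of_le h1
      rw [Nat.card_zpowers, r4] at h2
      exact h2)
  exact ⟨T, A, i, d, r', c, o1, o2, h⟩

/-- `|Q| ≥ 4`: sectional 2-rank at most 4. -/
theorem rank_of_data [Finite G] [IsSimpleGroup G] (hna : ¬ IsMulCommutative G) (std : IsStandardSubgroup K)
    (hOt : centralizerPPrimeCore 2 t = ⊥) (hK : CompOf t K) (hc : Cyc K) (hs : IsSimpleGroup ↥K)
    (hKna : ¬ IsMulCommutative ↥K) (heven : Even (Nat.card ↥K)) (hd : GH.L2One.HasData ↥K)
    (ht : orderOf t = 2) (htK : t ∈ centralizer (K : Set G)) {r : G} (hr : r ∈ centralizer (K : Set G))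
    (hrt : r * r = t) : SectionalPRankLE 2 4 G := by
  obtain ⟨T, A, i, d, r', c, o1, o2, h⟩ := exists_frame std hOt hK hc hs hKna heven hd ht htK hr hrt
  exact UGT.FrameRank.rank_of_frame hna h

theorem l2_simple {X : Type*} [Group X] (h : IsL2odd X) : IsSimpleGroup X := by
  obtain ⟨F, _, _, hodd, h5, ⟨e⟩⟩ := h
  have hs := TwoFusion.SLTwoFacts.isSimpleGroup_psl (F := F) (by omega)
  exact Known.isSimple_congr e.symm hs

/-- `K ≅ L₂(q)`, `q ≥ 5` odd, `|Q| ≥ 4`: sectional 2-rank at most 4. -/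
theorem rank_of_l2 [Finite G] [IsSimpleGroup G] (hna : ¬ IsMulCommutative G) (std : IsStandardSubgroup K)
    (hOt : centralizerPPrimeCore 2 t = ⊥) (hK : CompOf t K) (hc : Cyc K) (he : IsL2odd ↥K)
    (ht : orderOf t = 2) (htK : t ∈ centralizer (K : Set G)) {r : G} (hr : r ∈ centralizer (K : Set G))
    (hrt : r * r = t) : SectionalPRankLE 2 4 G := by
  have hs := l2_simple he
  have hKna : ¬ IsMulCommutative ↥K := fun h => by
    have h1 := Soft.quo_na (Soft.CompOf.quasisimple hK)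
    exact h1 ⟨⟨fun a b => by
      obtain ⟨x, rfl⟩ := QuotientGroup.mk_surjective a
      obtain ⟨y, rfl⟩ := QuotientGroup.mk_surjective b
      rw [← QuotientGroup.mk_mul, ← QuotientGroup.mk_mul, h.is_comm.comm]⟩⟩
  have hd := GH.L2One.hasData_of_l2 he
  have heven : Even (Nat.card ↥K) := by
    obtain ⟨P⟩ : Nonempty (Sylow 2 ↥K) := inferInstance
    obtain ⟨A, _, d, r', c, p1, p2, h⟩ := hd P
    obtain ⟨m, hm⟩ : ∃ m, d - 1 = m + 1 := ⟨d - 2, by have := h.d_ge; omega⟩
    have h1 := orderOf_dvd_natCard r'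
    rw [h.or_eq, hm, pow_succ] at h1
    exact even_iff_two_dvd.mpr ((Dvd.intro_left _ rfl).trans h1)
  exact rank_of_data hna std hOt hK hc hs hKna heven hd ht htK hr hrt

/-- In the world of `Ctx` no involution of `C(K)` is a square in `C(K)`. -/
theorem not_square (C : Ctx G) (S : Std0 G K) (hc : Cyc K) (he : IsL2odd ↥K) (ht : orderOf t = 2)
    (htK : t ∈ centralizer (K : Set G)) : ∀ r ∈ centralizer (K : Set G), r * r ≠ t := by
  intro r hr hrt
  haveI := C.fin
  haveI := C.simple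
  exact C.sect5 (rank_of_l2 C.na S.std (C.bal t ht) (S.term t ht htK) hc he ht htK hr hrt)

/-- **`K = L₂(q)`: `C(t) ∩ C(K) = ⟨t⟩`.** -/
theorem inf_eq_of_l2 (C : Ctx G) (S : Std0 G K) (hc : Cyc K) (he : IsL2odd ↥K) (ht : orderOf t = 2)
    (htK : t ∈ centralizer (K : Set G)) :
    centralizer ({t} : Set G) ⊓ centralizer (K : Set G) = zpowers t := by
  haveI := C.fin
  exact RR_eq_of_not_square (C.bal t ht) (norm_of_std S.std ht htK) ht htK hc (not_square C S hc he ht htK)

/-- **`K = L₂(q)`: the Sylow 2-subgroups of `C(K)` have order 2.** -/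
theorem card_sylow_of_l2 (C : Ctx G) (S : Std0 G K) (hc : Cyc K) (he : IsL2odd ↥K) (ht : orderOf t = 2)
    (htK : t ∈ centralizer (K : Set G)) (P : Sylow 2 ↥(centralizer (K : Set G))) :
    Nat.card ↥(P : Subgroup ↥(centralizer (K : Set G))) = 2 := by
  haveI := C.fin
  exact card_sylow_of_RR ht htK hc (inf_eq_of_l2 C S hc he ht htK) P

end Cfsg.Agent.OddHalf.D6.QTwo

end

-- merged: Cfsg.Agent.OddHalf.D5.SixAut.Row
section

/-!
# ODD D5: the row `n = 6` from its two cases
-/

set_option autoImplicit false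

namespace Cfsg.Agent.OddHalf.D5.SixAut

open Subgroup Equiv Cfsg Cfsg.Agent.OddHalf.Iface

universe u

/-- everything known in the case `C(x)/⟨x⟩ = Aut(A_6)` -/
structure CtxAut {G : Type u} [Group G] (x : G) (ι : A6 →* G) (f r : G) : Prop extends AutGen x ι f r where
  ctx : Ctx G
  world : ∀ u : G, u * u = 1 → u ≠ 1 → D6.World u

/-- the case `C(x) = ⟨x⟩ × S_6` is impossible -/
def SSixRow : Prop :=
  ∀ (G : Type u) [Group G], Ctx G → ∀ (x : G) (φ : Perm (Fin 6) →* G), D6.Six.SSix x φ → False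

/-- the case `C(x)/⟨x⟩ = Aut(A_6)` is impossible -/
def AutRow : Prop :=
  ∀ (G : Type u) [Group G] (x : G) (ι : A6 →* G) (f r : G), CtxAut x ι f r → False

theorem exists_sixFr {G : Type u} [Group G] (C : Ctx G) {K : Subgroup G} (S : Std G K) (hcyc : Iface.Cyc K)
    (e : ↥K ≃* ↥(alternatingGroup (Fin 6))) : ∃ x : G, SixFr x K := by
  obtain ⟨x, F⟩ := exists_front C S.std S.comp hcyc (by norm_num) e
  have hx : orderOf x = 2 := orderOf_eq_prime (by rw [pow_two]; exact F.tt) F.t1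
  have hxK : x ∈ centralizer (K : Set G) := mem_centralizer_iff.2 fun k hk => (F.le k hk).symm
  have h1 := D6.QTwo.inf_eq_of_l2 C S.toStd0 hcyc (isL2odd_of e.symm) hx hxK
  refine ⟨x, F.tt, F.t1, F.tK, F.le, F.norm, ?_⟩
  intro g hg hgK
  have h2 : g ∈ centralizer ({x} : Set G) ⊓ centralizer (K : Set G) :=
    mem_inf.2 ⟨mem_centralizer_singleton_iff.2 hg, mem_centralizer_iff.2 fun k hk => (hgK k hk).symm⟩
  rw [h1] at h2
  obtain ⟨i, rfl⟩ := mem_zpowers_iff.1 h2
  rcases Int.even_or_odd' i with ⟨k, rfl | rfl⟩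
  · left
    rw [zpow_mul, zpow_two, F.tt, one_zpow]
  · right
    rw [zpow_add, zpow_mul, zpow_two, F.tt, one_zpow, one_mul, zpow_one]

/-- **the row `n = 6`** -/
theorem sixRow_of (hS : SSixRow.{u}) (hA : AutRow.{u}) : SixRow.{u} := by
  intro G _ C K S hcyc hK
  obtain ⟨e⟩ := hK
  have := C.fin
  obtain ⟨x, F⟩ := exists_sixFr C S hcyc e
  rcases F.split e.symm C.sect5 with ⟨φ, h⟩ | ⟨f, r, h⟩
  · exact hS G C x φ h
  · refine hA G x _ f r { h with ctx := C, world := ?_ }
    obtain ⟨F', i1, i2, h9, ⟨φ⟩⟩ := exists_psl e.symm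
    exact D6.LTwoMain.world C S ⟨F', i1, i2, by rw [h9]; decide, by rw [h9]; norm_num, ⟨φ⟩⟩

end Cfsg.Agent.OddHalf.D5.SixAut

end
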