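import Cfsg.Agent.OddHalf.D5.SixAut.Defs2
import Cfsg.Agent.OddHalf.D6.FieldInv
import Cfsg.Agent.OddHalf.D6.Six.Defs
import Cfsg.Agent.StdAlt.Six.Act
import Cfsg.Agent.Lib.NormalAbelian
import Cfsg.Agent.S0254

-- merged: Cfsg.Agent.OddHalf.D5.SixAut.Split
section

/-!
# ODD D5, `n = 6`: the split of `C(x)/⟨x⟩ ≤ Aut(A_6)`

`SixFr x K`: `K ⊴ C(x)`, `C(x) ∩ C(K) = {1, x}`. If `K ≅ A_6` and the sectional 2-rank of `G` is at least 5 then
`C(x) = ⟨x⟩ × S_6` (`SSix`) or `C(x)/⟨x⟩ = Aut(A_6)` (`AutGen`): `split`.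
-/

set_option autoImplicit false

namespace Cfsg.Agent.OddHalf.D5.SixAut

open Subgroup Equiv Cfsg
open Cfsg.Agent.StdAlt.Six (Act NS emb act_emb exists_act exists_emb emb_mem emb_inj act_one_iff act_one ns_iff ns_pc
  Z0 A0 ns_of_a0)
open Cfsg.Agent.StdAlt.Conj (mem_N_of)

/-- conjugation by a permutation, as an automorphism of `A_6` -/
abbrev pcA : Perm (Fin 6) →* MulAut A6 := Cfsg.Agent.StdAlt.Six.pc

/-- `K ⊴ C(x)`, `C(x) ∩ C(K) = {1, x}` -/
structure SixFr {G : Type*} [Group G] (x : G) (K : Subgroup G) : Prop where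
  xx : x * x = 1
  x1 : x ≠ 1
  xK : x ∉ K
  le : ∀ k ∈ K, x * k = k * x
  norm : ∀ g, g * x = x * g → ∀ k ∈ K, g * k * g⁻¹ ∈ K
  ker : ∀ g, g * x = x * g → (∀ k ∈ K, g * k = k * g) → g = 1 ∨ g = x

theorem sign_ne {σ : Perm (Fin 6)} (h : Perm.sign σ ≠ 1) : Perm.sign σ = -1 :=
  (Int.units_eq_one_or _).resolve_left h

theorem pcA_even {σ : Perm (Fin 6)} (h : Perm.sign σ = 1) : pcA σ = MulAut.conj (⟨σ, mem_A6.2 h⟩ : A6) :=
  Cfsg.Agent.StdAlt.Six.pc_val ⟨σ, mem_A6.2 h⟩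

theorem pcA_coe (a : A6) : pcA (a : Perm (Fin 6)) = MulAut.conj a := Cfsg.Agent.StdAlt.Six.pc_val a

/-- `θ` as an automorphism of `A_6` -/
def θM : MulAut A6 where
  toFun := θA
  invFun := θA
  left_inv a := Subtype.ext (θ_θ _)
  right_inv a := Subtype.ext (θ_θ _)
  map_mul' a b := Subtype.ext (map_mul θ _ _)

theorem θM_apply (a : A6) : θM a = θA a := rfl

theorem θM_sq : θM * θM = 1 := by
  ext a : 1
  exact Subtype.ext (θ_θ _)

theorem θM_ns : ¬ NS θM := by
  rintro ⟨σ, h⟩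
  have h1 : (θ pc).support.card = (σ * pc * σ⁻¹).support.card := by
    rw [← h ⟨pc, pc_mem⟩]; rfl
  rw [Perm.card_support_conj] at h1
  revert h1
  decide +kernel

theorem θM_pc (σ : Perm (Fin 6)) : θM * pcA σ * θM⁻¹ = pcA (θ σ) := by
  rw [mul_inv_eq_iff_eq_mul]
  ext a : 1
  apply Subtype.ext
  show θ ((pcA σ a : A6) : Perm (Fin 6)) = ((pcA (θ σ) (θM a) : A6) : Perm (Fin 6))
  rw [Cfsg.Agent.StdAlt.Six.pc_apply, Cfsg.Agent.StdAlt.Six.pc_apply, map_mul, map_mul, map_inv]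
  rfl

namespace SixFr

variable {G : Type*} [Group G] {x : G} {K : Subgroup G} (F : SixFr x K) (e : A6 ≃* K)
include F

theorem inv_comm {g : G} (hg : g * x = x * g) : g⁻¹ * x = x * g⁻¹ := by
  rw [inv_mul_eq_iff_eq_mul, ← mul_assoc, hg, mul_inv_cancel_right]

theorem mul_comm' {g h : G} (hg : g * x = x * g) (hh : h * x = x * h) : g * h * x = x * (g * h) := by
  rw [mul_assoc, hh, ← mul_assoc, hg, mul_assoc]

theorem emb_x (a : A6) : emb e a * x = x * emb e a := (F.le _ (emb_mem e a)).symm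

theorem emb_ne (a : A6) : emb e a ≠ x := fun h => F.xK (by rw [← h]; exact emb_mem e a)

theorem act_x : Act e x 1 := by
  intro a
  rw [F.le _ (emb_mem e a), mul_inv_cancel_right]; rfl

/-- elements acting trivially -/
theorem one_or {g : G} (hg : g * x = x * g) (h1 : Act e g 1) : g = 1 ∨ g = x := by
  refine F.ker g hg fun k hk => ?_
  obtain ⟨a, rfl⟩ := exists_emb e hk
  exact mul_inv_eq_iff_eq_mul.1 (h1 a)

/-- elements with the same action -/
theorem eq_or {g h : G} (hg : g * x = x * g) (hh : h * x = x * h) {α : MulAut A6} (h1 : Act e g α)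
    (h2 : Act e h α) : g = h ∨ g = x * h := by
  have h3 : Act e (g * h⁻¹) 1 := by
    have := h1.mul h2.inv
    rwa [mul_inv_cancel] at this
  rcases F.one_or e (F.mul_comm' hg (F.inv_comm hh)) h3 with h4 | h4
  · left; exact mul_inv_eq_one.1 h4
  · right; exact mul_inv_eq_iff_eq_mul.1 h4

variable [Finite G]

theorem act {g : G} (hg : g * x = x * g) : ∃ α, Act e g α :=
  exists_act e (mem_N_of (F.norm g hg))

/-- (I): if all the permutations induced by `C(x)` are even then the sectional 2-rank is at most 4 -/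
theorem exists_odd (h5 : ¬ SectionalPRankLE 2 4 G) :
    ∃ g σ, g * x = x * g ∧ Act e g (pcA σ) ∧ Perm.sign σ = -1 := by
  by_contra hno
  push Not at hno
  apply h5
  have hZ1 : (Z0 : A6) ≠ 1 := Cfsg.Agent.StdAlt.Six.Z0_ne
  have hA1 : (A0 : A6) ≠ 1 := Cfsg.Agent.StdAlt.Six.A0_ne
  have hfour : Cfsg.Agent.GH.L2Aut.Four (emb e A0) (emb e Z0) := by
    refine ⟨?_, ?_, ?_, ?_, ?_, ?_⟩
    · rw [← map_mul, Cfsg.Agent.StdAlt.Six.A0_sq, map_one]
    · rw [← map_mul, Cfsg.Agent.StdAlt.Six.Z0_sq, map_one]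
    · intro h; exact hA1 (emb_inj (e := e) (h.trans (map_one _).symm))
    · intro h; exact hZ1 (emb_inj (e := e) (h.trans (map_one _).symm))
    · intro h; exact Cfsg.Agent.StdAlt.Six.A0_ne_Z0 (emb_inj h)
    · rw [← map_mul, ← map_mul, Cfsg.Agent.StdAlt.Six.A0_Z0]
  have ca := (F.emb_x e A0).symm
  have cb := (F.emb_x e Z0).symm
  have hxV : x ∉ hfour.sub := by
    rintro (h | h | h | h)
    · exact F.x1 h
    · exact F.emb_ne e _ h.symm
    · exact F.emb_ne e _ h.symm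
    · rw [← map_mul] at h
      exact F.emb_ne e _ h.symm
  have hp : IsPGroup 2 (D6.eight hfour F.xx ca cb) :=
    IsPGroup.of_card (n := 3) (by rw [D6.eight_card hxV]; norm_num)
  obtain ⟨S, hS⟩ := hp.exists_le_sylow
  refine D6.Harada.rank_of_self S (D6.eight hfour F.xx ca cb) hS ?_ ?_ (D6.eight_card hxV) ?_
  · intro c hc d hd
    have hcs : ∀ y, y = emb e A0 ∨ y = emb e Z0 ∨ y = x → c * y = y * c := by
      rintro y (rfl | rfl | rfl)
      · exact (D6.eight_comm (d := emb e A0) rfl hfour.comm ca.symm hc).symm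
      · exact (D6.eight_comm (d := emb e Z0) hfour.comm.symm rfl cb.symm hc).symm
      · exact (D6.eight_comm ca cb rfl hc).symm
    exact D6.eight_comm (hcs _ (Or.inl rfl)) (hcs _ (Or.inr (Or.inl rfl)))
      (hcs _ (Or.inr (Or.inr rfl))) hd
  · intro g hg
    obtain ⟨v, hv, rfl | rfl⟩ := D6.eight_cases hg
    · exact D6.four_sq hfour hv
    · rw [mul_assoc, ← mul_assoc x, D6.four_comm hfour ca cb hv, mul_assoc v, F.xx, mul_one]
      exact D6.four_sq hfour hv
  · intro s _ hsE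
    have hsx := hsE x D6.eight_mem.2.2
    obtain ⟨α, hα⟩ := F.act e hsx
    have h1 := hα.fix (hsE _ D6.eight_mem.1)
    have h2 := hα.fix (hsE _ D6.eight_mem.2.1)
    obtain ⟨σ, rfl⟩ := ns_iff.1 (ns_of_a0 h2 (Or.inl h1))
    have hσ : Perm.sign σ = 1 := by
      by_contra h
      exact hno s σ hsx hα (sign_ne h)
    have h3 : σ * Cfsg.Agent.StdAlt.Six.a0 = Cfsg.Agent.StdAlt.Six.a0 * σ := by
      have := congrArg Subtype.val h1
      rw [Cfsg.Agent.StdAlt.Six.pc_apply] at this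
      exact mul_inv_eq_iff_eq_mul.1 this
    have h4 : σ * Cfsg.Agent.StdAlt.Six.z0 = Cfsg.Agent.StdAlt.Six.z0 * σ := by
      have := congrArg Subtype.val h2
      rw [Cfsg.Agent.StdAlt.Six.pc_apply] at this
      exact mul_inv_eq_iff_eq_mul.1 this
    have key : ∀ σ : Perm (Fin 6), σ * Cfsg.Agent.StdAlt.Six.a0 = Cfsg.Agent.StdAlt.Six.a0 * σ →
        σ * Cfsg.Agent.StdAlt.Six.z0 = Cfsg.Agent.StdAlt.Six.z0 * σ → Perm.sign σ = 1 →
        σ = 1 ∨ σ = Cfsg.Agent.StdAlt.Six.a0 ∨ σ = Cfsg.Agent.StdAlt.Six.z0 ∨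
          σ = Cfsg.Agent.StdAlt.Six.a0 * Cfsg.Agent.StdAlt.Six.z0 := by decide +kernel
    rw [pcA_even hσ] at hα
    have hu : emb e ⟨σ, mem_A6.2 hσ⟩ ∈ hfour.sub := by
      rcases key σ h3 h4 hσ with h | h | h | h
      · left
        have : (⟨σ, mem_A6.2 hσ⟩ : A6) = 1 := Subtype.ext h
        rw [this, map_one]
      · right; left
        have : (⟨σ, mem_A6.2 hσ⟩ : A6) = A0 := Subtype.ext h
        rw [this]
      · right; right; left
        have : (⟨σ, mem_A6.2 hσ⟩ : A6) = Z0 := Subtype.ext h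
        rw [this]
      · right; right; right
        have : (⟨σ, mem_A6.2 hσ⟩ : A6) = A0 * Z0 := Subtype.ext h
        rw [this, map_mul]
    rcases F.eq_or e hsx (F.emb_x e _) hα (act_emb e _) with h6 | h6
    · left; rw [h6]; exact hu
    · right
      rw [h6, F.le _ (emb_mem e _), mul_assoc, F.xx, mul_one]; exact hu

/-- an element acting as the transposition `(4 5)` -/
theorem exists_f (h5 : ¬ SectionalPRankLE 2 4 G) : ∃ f, f * x = x * f ∧ Act e f (pcA pf) := by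
  obtain ⟨g, σ, h1, h2, h3⟩ := F.exists_odd e h5
  have h4 : Perm.sign (pf * σ⁻¹) = 1 := by
    rw [Perm.sign_mul, Perm.sign_inv, sign_pf, h3]; decide
  refine ⟨emb e ⟨pf * σ⁻¹, mem_A6.2 h4⟩ * g, F.mul_comm' (F.emb_x e _) h1, ?_⟩
  have h6 := (act_emb e (⟨pf * σ⁻¹, mem_A6.2 h4⟩ : A6)).mul h2
  rw [← pcA_even h4, ← map_mul, inv_mul_cancel_right] at h6
  exact h6

end SixFr

end Cfsg.Agent.OddHalf.D5.SixAut

end

-- merged: Cfsg.Agent.OddHalf.D5.SixAut.TT
section

/-!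
# ODD D5, `n = 6`: `T = C(x) ∩ C(z)` is a Sylow 2-subgroup of `C(x)`
-/

set_option autoImplicit false

namespace Cfsg.Agent.OddHalf.D5.SixAut

open Subgroup Equiv Cfsg
open Cfsg.Agent.StdAlt.Six (Act NS emb act_emb exists_act exists_emb emb_mem emb_inj act_one_iff act_one ns_iff ns_pc
  Z0 A0 ns_of_a0)
open Cfsg.Agent.StdAlt.Conj (mem_N_of)

theorem comm_of_fix {σ : Perm (Fin 6)} {a : A6} (h : pcA σ a = a) : σ * (a : Perm (Fin 6)) = a * σ := by
  have := congrArg Subtype.val h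
  rw [Cfsg.Agent.StdAlt.Six.pc_apply] at this
  exact mul_inv_eq_iff_eq_mul.1 this

theorem pow_four_of : ∀ σ : Perm (Fin 6), σ * pz = pz * σ → σ ^ 4 = 1 := by decide +kernel

theorem cent_D : ∀ σ : Perm (Fin 6), σ * pv1 = pv1 * σ → σ * pv2 = pv2 * σ → Perm.sign σ = 1 → σ = 1 ∨ σ = pz := by
  decide +kernel

theorem pv1_z : pv1 * pz = pz * pv1 := by decide +kernel
theorem pv2_z : pv2 * pz = pz * pv2 := by decide +kernel
theorem pz_pz : pz * pz = 1 := by decide +kernel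
theorem pz_ne : pz ≠ 1 := by decide +kernel

/-- an automorphism fixing `z` has order dividing `8` -/
theorem pow_eight_of {α : MulAut A6} (h : α qz = qz) : α ^ 8 = 1 := by
  have key : ∀ β : MulAut A6, NS β → β qz = qz → β ^ 4 = 1 := by
    intro β hβ hβz
    obtain ⟨σ, rfl⟩ := ns_iff.1 hβ
    have h1 := pow_four_of σ (comm_of_fix hβz)
    rw [← map_pow, h1, map_one]
  have h2 : (α * α) qz = qz := by rw [MulAut.mul_apply, h, h]
  have h3 := key _ (Cfsg.Agent.StdAlt.Six.ns_sq α) h2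
  rw [← pow_two, ← pow_mul] at h3
  exact h3

/-- `T = C(x) ∩ C(z)` -/
def TT {G : Type*} [Group G] (x z : G) : Subgroup G := centralizer ({x} : Set G) ⊓ centralizer ({z} : Set G)

theorem mem_TT {G : Type*} [Group G] {x z g : G} : g ∈ TT x z ↔ g * x = x * g ∧ g * z = z * g := by
  unfold TT
  rw [mem_inf, mem_centralizer_singleton_iff, mem_centralizer_singleton_iff]

namespace SixFr

variable {G : Type*} [Group G] [Finite G] {x : G} {K : Subgroup G} (F : SixFr x K) (e : A6 ≃* K)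
include F

theorem pT : IsPGroup 2 (TT x (emb e qz)) := by
  rintro ⟨t, ht⟩
  obtain ⟨h1, h2⟩ := mem_TT.1 ht
  refine ⟨4, Subtype.ext ?_⟩
  show t ^ 2 ^ 4 = 1
  obtain ⟨α, hα⟩ := F.act e h1
  have h3 := pow_eight_of (hα.fix h2)
  have h4 : Act e (t ^ 8) (α ^ 8) := by
    have : ∀ n : ℕ, Act e (t ^ n) (α ^ n) := by
      intro n
      induction n with
      | zero => rw [pow_zero, pow_zero]; exact act_one e
      | succ n ih => rw [pow_succ, pow_succ]; exact ih.mul hα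
    exact this 8
  rw [h3] at h4
  have h5 : t ^ 8 * x = x * t ^ 8 := ((show Commute t x from h1).pow_left 8).eq
  have h6 : t ^ 2 ^ 4 = t ^ 8 * t ^ 8 := by rw [← pow_add]; norm_num
  rw [h6]
  rcases F.one_or e h5 h4 with h7 | h7
  · rw [h7, one_mul]
  · rw [h7, F.xx]

theorem qz_x : emb e qz * x = x * emb e qz := F.emb_x e qz

theorem v_mem {a : A6} (h : (a : Perm (Fin 6)) * pz = pz * a) : emb e a ∈ TT x (emb e qz) := by
  refine mem_TT.2 ⟨F.emb_x e a, ?_⟩
  rw [← map_mul, ← map_mul]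
  congr 1
  exact Subtype.ext h

/-- a 2-group in `C(x)` containing `T` is `T` -/
theorem max_TT {U : Subgroup G} (hU : IsPGroup 2 U) (hUx : ∀ u ∈ U, u * x = x * u) (hT : TT x (emb e qz) ≤ U) :
    U = TT x (emb e qz) := by
  apply le_antisymm _ hT
  have hn : ((K ⊓ U).subgroupOf U).Normal := by
    refine ⟨fun n hn g => ?_⟩
    rw [mem_subgroupOf, mem_inf] at hn ⊢
    exact ⟨F.norm g (hUx g g.2) n hn.1, (g * n * g⁻¹).2⟩
  have hzU : emb e qz ∈ U := hT (F.v_mem e rfl)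
  have hz1 : emb e qz ≠ 1 := by
    intro h
    have := emb_inj (e := e) (h.trans (map_one _).symm)
    exact pz_ne (congrArg Subtype.val this)
  have hne : (K ⊓ U).subgroupOf U ≠ ⊥ := by
    intro h
    have h1 : (⟨emb e qz, hzU⟩ : U) ∈ (K ⊓ U).subgroupOf U := mem_subgroupOf.2 ⟨emb_mem e qz, hzU⟩
    rw [h, mem_bot] at h1
    exact hz1 (congrArg Subtype.val h1)
  have hnil : Group.IsNilpotent U := hU.isNilpotent
  have h2 := Cfsg.Agent.Lib.NormalAbelian.normal_inf_center_ne_bot _ hne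
  obtain ⟨w, hw⟩ := Subgroup.ne_bot_iff_exists_ne_one.1 h2
  obtain ⟨hwK, hwc⟩ := mem_inf.1 w.2
  rw [mem_subgroupOf, mem_inf] at hwK
  obtain ⟨a, ha⟩ := exists_emb e hwK.1
  have hc : ∀ u ∈ U, u * emb e a = emb e a * u := by
    intro u hu
    rw [ha]
    exact congrArg Subtype.val (mem_center_iff.1 hwc ⟨u, hu⟩)
  have hcA : ∀ b : A6, (b : Perm (Fin 6)) * pz = pz * b → (a : Perm (Fin 6)) * b = b * a := by
    intro b hb
    have h3 := hc _ (hT (F.v_mem e hb))
    rw [← map_mul, ← map_mul] at h3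
    exact (congrArg Subtype.val (emb_inj h3)).symm
  have ha1 : a = qz := by
    rcases cent_D a (hcA qv1 pv1_z) (hcA qv2 pv2_z) (mem_A6.1 a.2) with h3 | h3
    · exfalso
      have h4 : a = 1 := Subtype.ext h3
      rw [h4, map_one] at ha
      exact hw (Subtype.ext (Subtype.ext ha.symm))
    · exact Subtype.ext h3
  intro u hu
  refine mem_TT.2 ⟨hUx u hu, ?_⟩
  have h3 := hc u hu
  rwa [ha1] at h3

/-- **the setup of D6** -/
theorem setup : D6.Setup x K (TT x (emb e qz)) where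
  xx := F.xx
  x1 := F.x1
  Kx k hk := (F.le k hk).symm
  Kn := F.norm
  CK := F.ker
  pT := F.pT e
  cx t ht := (mem_TT.1 ht).1
  syl := by
    intro P hP hPx
    have hle : TT x (emb e qz) ≤ centralizer ({x} : Set G) := inf_le_left
    have h1 : IsPGroup 2 ((TT x (emb e qz)).subgroupOf (centralizer ({x} : Set G))) :=
      (F.pT e).of_injective (subgroupOfEquivOfLe hle).toMonoidHom (MulEquiv.injective _)
    obtain ⟨S, hS⟩ := h1.exists_le_sylow
    have hP' : P ≤ centralizer ({x} : Set G) := fun y hy => mem_centralizer_singleton_iff.2 (hPx y hy)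
    have h2 : IsPGroup 2 (P.subgroupOf (centralizer ({x} : Set G))) :=
      hP.of_injective (subgroupOfEquivOfLe hP').toMonoidHom (MulEquiv.injective _)
    obtain ⟨R, hR⟩ := h2.exists_le_sylow
    have h3 : (S : Subgroup (centralizer ({x} : Set G))).map (centralizer ({x} : Set G)).subtype =
        TT x (emb e qz) := by
      apply F.max_TT e (S.isPGroup'.map _)
      · rintro _ ⟨y, -, rfl⟩
        exact mem_centralizer_singleton_iff.1 y.2
      · intro t ht
        exact ⟨⟨t, hle ht⟩, hS (mem_subgroupOf.2 ht), rfl⟩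
    obtain ⟨g, hg⟩ := MulAction.exists_smul_eq (centralizer ({x} : Set G)) R S
    refine ⟨g, mem_centralizer_singleton_iff.1 g.2, fun y hy => ?_⟩
    rw [← h3]
    have h4 : (⟨y, hP' hy⟩ : centralizer ({x} : Set G)) ∈ (R : Subgroup (centralizer ({x} : Set G))) :=
      hR (mem_subgroupOf.2 hy)
    refine ⟨g * ⟨y, hP' hy⟩ * g⁻¹, ?_, rfl⟩
    rw [← hg, Sylow.coe_subgroup_smul]
    exact ⟨_, h4, rfl⟩

end SixFr

end Cfsg.Agent.OddHalf.D5.SixAut

end

-- merged: Cfsg.Agent.OddHalf.D5.SixAut.Split2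
section

/-!
# ODD D5, `n = 6`: the split, second part

`split`: if the sectional 2-rank is at least 5 then `C(x) = ⟨x⟩ × S_6` (`D6.Six.SSix`) or `C(x)/⟨x⟩ = Aut(A_6)`
(`AutGen`).
-/

set_option autoImplicit false

namespace Cfsg.Agent.OddHalf.D5.SixAut

open Subgroup Equiv Cfsg
open Cfsg.Agent.StdAlt.Six (Act NS emb act_emb exists_act exists_emb emb_mem emb_inj act_one_iff act_one ns_iff ns_pc
  Z0 A0 ns_of_a0)
open Cfsg.Agent.StdAlt.Conj (mem_N_of)

theorem exists_field : ∃ (F : Type) (_ : Field F) (_ : Fintype F), Fintype.card F = 9 := by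
  have : Fact (Nat.Prime 3) := ⟨Nat.prime_three⟩
  have hfin : Finite (GaloisField 3 2) := inferInstance
  have hft : Fintype (GaloisField 3 2) := Fintype.ofFinite _
  refine ⟨GaloisField 3 2, inferInstance, hft, ?_⟩
  rw [← Nat.card_eq_fintype_card, GaloisField.card 3 2 (by norm_num)]
  norm_num

/-- `A_6 ≅ PSL(2, 9)` -/
theorem exists_psl {L : Type*} [Group L] (e : A6 ≃* L) : ∃ (F : Type) (_ : Field F) (_ : Fintype F),
    Fintype.card F = 9 ∧ Nonempty (L ≃* Matrix.ProjectiveSpecialLinearGroup (Fin 2) F) := by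
  obtain ⟨F, i1, i2, hF⟩ := exists_field
  obtain ⟨φ⟩ := Cfsg.Agent.S0254.result hF
  exact ⟨F, i1, i2, hF, ⟨e.symm.trans φ.symm⟩⟩

theorem two_ne {F : Type} [Field F] [Fintype F] (hF : Fintype.card F = 9) : (2 : F) ≠ 0 := by
  intro h
  have h1 : (9 : F) = 0 := by
    have := Nat.cast_card_eq_zero F
    rw [hF] at this
    exact_mod_cast this
  have h2 : (1 : F) = 9 - 2 * 4 := by norm_num
  rw [h1, h, zero_mul, sub_zero] at h2
  exact one_ne_zero h2

theorem exists_rep {L : Type*} [Group L] (e : A6 ≃* L) : ∃ (F : Type) (_ : Field F) (_ : Finite F),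
    Nonempty (Cfsg.Agent.GH.L2Aut.Rep F L) := by
  obtain ⟨F, i1, i2, hF, ⟨φ⟩⟩ := exists_psl e
  exact ⟨F, i1, inferInstance, ⟨Cfsg.Agent.GH.L2Aut.Rep.ofEquiv (two_ne hF) φ⟩⟩

theorem isL2odd_of {L : Type*} [Group L] (e : A6 ≃* L) : Cfsg.Agent.GH.Defs.IsL2odd L := by
  obtain ⟨F, i1, i2, hF, h⟩ := exists_psl e
  exact ⟨F, i1, i2, by rw [hF]; decide, by rw [hF]; norm_num, h⟩

theorem z_f : ∀ σ : Perm (Fin 6), σ * pz = pz * σ → σ * pf = pf * σ := by decide +kernel

theorem cent_D' : ∀ σ : Perm (Fin 6), σ * pv1 = pv1 * σ → σ * pv2 = pv2 * σ →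
    σ = 1 ∨ σ = pz ∨ σ = pf ∨ σ = pf * pz := by decide +kernel

theorem pf_z : pf * pz = pz * pf := by decide +kernel

theorem cA_pf {a : A6} (h : (a : Perm (Fin 6)) * pf = pf * a) : cA pf a = a :=
  Subtype.ext (by rw [coe_cA, ← h, mul_inv_cancel_right])

theorem pcA_cA (σ : Perm (Fin 6)) (a : A6) : pcA σ a = cA σ a :=
  Subtype.ext (Cfsg.Agent.StdAlt.Six.pc_apply σ a)

namespace SixFr

variable {G : Type*} [Group G] {x : G} {K : Subgroup G} (F : SixFr x K) (e : A6 ≃* K)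
include F

theorem grow [Finite G] (h5 : ¬ SectionalPRankLE 2 4 G) :
    ∃ s, (∀ t ∈ TT x (emb e qz), s * t * s⁻¹ ∈ TT x (emb e qz)) ∧ s * s ∈ TT x (emb e qz) ∧
      s ∉ TT x (emb e qz) ∧ s * x ≠ x * s ∧ ∃ n, s ^ 2 ^ n = 1 := by
  obtain ⟨F', i1, i2, ⟨R⟩⟩ := exists_rep e
  exact (F.setup e).exists_grow R h5

theorem cf {f : G} (hf : Act e f (pcA pf)) (a : A6) : f * emb e a * f⁻¹ = emb e (cA pf a) := by
  rw [hf, pcA_cA]

/-- `σ` even: the element is in `{1, x} K` -/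
theorem of_even {g : G} (hg : g * x = x * g) {σ : Perm (Fin 6)} (h : Act e g (pcA σ)) (hs : Perm.sign σ = 1) :
    g = emb e ⟨σ, mem_A6.2 hs⟩ ∨ g = x * emb e ⟨σ, mem_A6.2 hs⟩ := by
  rw [pcA_even hs] at h
  exact F.eq_or e hg (F.emb_x e _) h (act_emb e _)

theorem of_odd {f : G} (hfx : f * x = x * f) (hf : Act e f (pcA pf)) {g : G} (hg : g * x = x * g)
    {σ : Perm (Fin 6)} (h : Act e g (pcA σ)) (hs : Perm.sign σ = -1) :
    g = emb e ⟨σ * pf, odd_mem (not_even hs)⟩ * f ∨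
      g = x * (emb e ⟨σ * pf, odd_mem (not_even hs)⟩ * f) := by
  refine F.eq_or e hg (F.mul_comm' (F.emb_x e _) hfx) h ?_
  have h1 := (act_emb e (⟨σ * pf, odd_mem (not_even hs)⟩ : A6)).mul hf
  rw [← pcA_coe, ← map_mul, mul_assoc, pf_pf, mul_one] at h1
  exact h1

/-- `f² ∈ {1, x}` -/
theorem f_sq {f : G} (hfx : f * x = x * f) (hf : Act e f (pcA pf)) : f * f = 1 ∨ f * f = x := by
  apply F.one_or e (F.mul_comm' hfx hfx)
  have h1 := hf.mul hf
  rwa [← map_mul, pf_pf, map_one] at h1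

theorem f_mem {f : G} (hfx : f * x = x * f) (hf : Act e f (pcA pf)) : f ∈ TT x (emb e qz) := by
  refine mem_TT.2 ⟨hfx, ?_⟩
  have h1 := F.cf e hf qz
  rw [cA_pf (show ((qz : A6) : Perm (Fin 6)) * pf = pf * qz from pf_z.symm)] at h1
  exact mul_inv_eq_iff_eq_mul.1 h1

/-- the isoclinic extension of `S_6` is impossible -/
theorem iso_false [Finite G] (h5 : ¬ SectionalPRankLE 2 4 G)
    (hNS : ∀ g, g * x = x * g → ∀ α, Act e g α → NS α) {f : G} (hfx : f * x = x * f)
    (hf : Act e f (pcA pf)) (hff : f * f = x) : False := by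
  obtain ⟨s, hsT, -, -, hsx, -⟩ := F.grow e h5
  have hsn : s ∈ normalizer ((TT x (emb e qz) : Subgroup G) : Set G) := mem_normalizer_fintype hsT
  have hfT := F.f_mem e hfx hf
  -- `f` centralizes `T`
  have hemb : ∀ a : A6, (a : Perm (Fin 6)) * pf = pf * a → f * emb e a = emb e a * f := by
    intro a ha
    have h1 := F.cf e hf a
    rw [cA_pf ha] at h1
    exact mul_inv_eq_iff_eq_mul.1 h1
  have hfc : ∀ t ∈ TT x (emb e qz), f * t = t * f := by
    intro t ht
    obtain ⟨h1, h2⟩ := mem_TT.1 ht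
    obtain ⟨α, hα⟩ := F.act e h1
    obtain ⟨σ, rfl⟩ := ns_iff.1 (hNS t h1 α hα)
    have hσz : σ * pz = pz * σ := comm_of_fix (a := qz) (hα.fix h2)
    have hσf := z_f σ hσz
    rcases Int.units_eq_one_or (Perm.sign σ) with hs | hs
    · have h3 := hemb ⟨σ, mem_A6.2 hs⟩ hσf
      rcases F.of_even e h1 hα hs with h | h
      · rw [h]; exact h3
      · rw [h, ← mul_assoc, hfx, mul_assoc, h3, mul_assoc]
    · have h3 := hemb ⟨σ * pf, odd_mem (not_even hs)⟩ (by
        show σ * pf * pf = pf * (σ * pf)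
        rw [hσf, mul_assoc, hσf])
      rcases F.of_odd e hfx hf h1 hα hs with h | h
      · rw [h, ← mul_assoc, h3]
      · rw [h, ← mul_assoc, hfx, mul_assoc, ← mul_assoc f, h3, mul_assoc, mul_assoc, mul_assoc]
  have hfT' : s * f * s⁻¹ ∈ TT x (emb e qz) := hsT f hfT
  have hfc' : ∀ t ∈ TT x (emb e qz), (s * f * s⁻¹) * t = t * (s * f * s⁻¹) := by
    intro t ht
    have h1 : s⁻¹ * t * s ∈ TT x (emb e qz) := (mem_normalizer_iff''.1 hsn t).1 ht
    have h2 := hfc _ h1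
    calc (s * f * s⁻¹) * t = s * (f * (s⁻¹ * t * s)) * s⁻¹ := by group
      _ = t * (s * f * s⁻¹) := by rw [h2]; group
  have hsq : (s * f * s⁻¹) * (s * f * s⁻¹) = s * x * s⁻¹ := by rw [← hff]; group
  obtain ⟨h1, -⟩ := mem_TT.1 hfT'
  obtain ⟨α, hα⟩ := F.act e h1
  obtain ⟨σ, rfl⟩ := ns_iff.1 (hNS _ h1 α hα)
  have hv1 : σ * pv1 = pv1 * σ := comm_of_fix (a := qv1) (hα.fix (hfc' _ (F.v_mem e pv1_z)))
  have hv2 : σ * pv2 = pv2 * σ := comm_of_fix (a := qv2) (hα.fix (hfc' _ (F.v_mem e pv2_z)))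
  apply hsx
  rw [← mul_inv_eq_iff_eq_mul, ← hsq]
  -- an element of `{1, x} ⟨z⟩` has square one
  have hne : s * x * s⁻¹ ≠ 1 := by
    intro h
    rw [mul_inv_eq_one] at h
    exact F.x1 (mul_eq_left.1 h)
  have heven : ∀ a : A6, a * a = 1 → s * f * s⁻¹ = emb e a ∨ s * f * s⁻¹ = x * emb e a → False := by
    intro a ha h
    apply hne
    rw [← hsq]
    rcases h with h | h
    · rw [h, ← map_mul, ha, map_one]
    · rw [h]
      calc x * emb e a * (x * emb e a) = x * (emb e a * x) * emb e a := by group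
        _ = (x * x) * (emb e a * emb e a) := by rw [F.emb_x]; group
        _ = 1 := by rw [F.xx, ← map_mul, ha, map_one, one_mul]
  rcases cent_D' σ hv1 hv2 with h | h | h | h
  · exfalso
    subst h
    refine heven _ ?_ (F.of_even e h1 hα (map_one _))
    exact Subtype.ext (one_mul 1)
  · exfalso
    subst h
    refine heven _ ?_ (F.of_even e h1 hα (mem_A6.1 pz_mem))
    exact Subtype.ext pz_pz
  · subst h
    rcases F.eq_or e h1 hfx hα hf with h | h
    · rw [h, hff]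
    · rw [h]
      calc x * f * (x * f) = x * (f * x) * f := by group
        _ = (x * x) * (f * f) := by rw [hfx]; group
        _ = x := by rw [F.xx, hff, one_mul]
  · subst h
    have h4 : Act e (f * emb e qz) (pcA (pf * pz)) := by
      have := hf.mul (act_emb e qz)
      rw [← pcA_coe, ← map_mul] at this
      exact this
    have h5 := hemb qz (show pz * pf = pf * pz from pf_z.symm)
    have h6 : f * emb e qz * (f * emb e qz) = x := by
      calc f * emb e qz * (f * emb e qz) = f * (emb e qz * f) * emb e qz := by group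
        _ = (f * f) * (emb e qz * emb e qz) := by rw [← h5]; group
        _ = x * emb e (qz * qz) := by rw [hff, map_mul]
        _ = x := by
          have : (qz * qz : A6) = 1 := Subtype.ext pz_pz
          rw [this, map_one, mul_one]
    rcases F.eq_or e h1 (F.mul_comm' hfx (F.emb_x e qz)) hα h4 with h | h
    · rw [h, h6]
    · rw [h]
      have h7 := F.mul_comm' hfx (F.emb_x e qz)
      calc x * (f * emb e qz) * (x * (f * emb e qz)) = x * ((f * emb e qz) * x) * (f * emb e qz) := by group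
        _ = (x * x) * ((f * emb e qz) * (f * emb e qz)) := by rw [h7]; group
        _ = x := by rw [F.xx, h6, one_mul]

/-- the case `C(x) = ⟨x⟩ × S_6` -/
theorem ssix [Finite G] (hNS : ∀ g, g * x = x * g → ∀ α, Act e g α → NS α) {f : G} (hfx : f * x = x * f)
    (hf : Act e f (pcA pf)) (hff : f * f = 1) :
    D6.Six.SSix x (extH (emb e) f (F.cf e hf) hff) := by
  have hev : ∀ {σ : Perm (Fin 6)} (hs : Perm.sign σ = 1),
      extH (emb e) f (F.cf e hf) hff σ = emb e ⟨σ, mem_A6.2 hs⟩ := fun hs => extf_even _ _ hs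
  have hod : ∀ {σ : Perm (Fin 6)} (hs : Perm.sign σ = -1),
      extH (emb e) f (F.cf e hf) hff σ = emb e ⟨σ * pf, odd_mem (not_even hs)⟩ * f :=
    fun hs => extf_odd _ _ hs
  have hact : ∀ σ, Act e (extH (emb e) f (F.cf e hf) hff σ) (pcA σ) := by
    intro σ
    rcases Int.units_eq_one_or (Perm.sign σ) with hs | hs
    · rw [hev hs, pcA_even hs]; exact act_emb e _
    · rw [hod hs]
      have h1 := (act_emb e (⟨σ * pf, odd_mem (not_even hs)⟩ : A6)).mul hf
      rw [← pcA_coe, ← map_mul, mul_assoc, pf_pf, mul_one] at h1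
      exact h1
  have hcx : ∀ σ, extH (emb e) f (F.cf e hf) hff σ * x = x * extH (emb e) f (F.cf e hf) hff σ := by
    intro σ
    rcases Int.units_eq_one_or (Perm.sign σ) with hs | hs
    · rw [hev hs]; exact F.emb_x e _
    · rw [hod hs]; exact F.mul_comm' (F.emb_x e _) hfx
  refine ⟨F.xx, ?_, fun σ => (hcx σ).symm, ?_, ?_⟩
  · intro σ τ h
    have h1 := (hact σ)
    rw [h] at h1
    exact Cfsg.Agent.StdAlt.Six.pc_inj (h1.unique (hact τ))
  · intro σ h
    have h1 := hact σ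
    rw [h] at h1
    have h2 : pcA σ = pcA 1 := by rw [map_one]; exact h1.unique (F.act_x e)
    have h3 := Cfsg.Agent.StdAlt.Six.pc_inj h2
    rw [h3, map_one] at h
    exact F.x1 h.symm
  · intro g hg
    obtain ⟨α, hα⟩ := F.act e hg
    obtain ⟨σ, rfl⟩ := ns_iff.1 (hNS g hg α hα)
    exact ⟨σ, F.eq_or e hg (hcx σ) hα (hact σ)⟩

/-- the case `C(x)/⟨x⟩ = Aut(A_6)` -/
theorem autGen [Finite G] {f g : G} (hfx : f * x = x * f) (hf : Act e f (pcA pf)) (hg : g * x = x * g)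
    {α : MulAut A6} (hα : Act e g α) (hns : ¬ NS α) : ∃ r, AutGen x (emb e) f r ∧ Act e r θM := by
  -- an element acting as `θ`
  obtain ⟨r, hrx, hr⟩ : ∃ r, r * x = x * r ∧ Act e r θM := by
    have h1 : NS (θM * α⁻¹) := Cfsg.Agent.StdAlt.Six.NS.mul_of_not θM_ns (fun h => hns (by
      have := h.inv
      rwa [inv_inv] at this))
    obtain ⟨σ, hσ⟩ := ns_iff.1 h1
    have h2 : θM = pcA σ * α := by rw [← hσ, inv_mul_cancel_right]
    rcases Int.units_eq_one_or (Perm.sign σ) with hs | hs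
    · refine ⟨emb e ⟨σ, mem_A6.2 hs⟩ * g, F.mul_comm' (F.emb_x e _) hg, ?_⟩
      rw [h2, pcA_even hs]
      exact (act_emb e _).mul hα
    · refine ⟨emb e ⟨σ * pf, odd_mem (not_even hs)⟩ * f * g,
        F.mul_comm' (F.mul_comm' (F.emb_x e _) hfx) hg, ?_⟩
      have h3 := ((act_emb e (⟨σ * pf, odd_mem (not_even hs)⟩ : A6)).mul hf).mul hα
      rw [← pcA_coe, ← map_mul, mul_assoc σ, pf_pf, mul_one] at h3
      rw [h2]; exact h3
  refine ⟨r, ?_, hr⟩
  have hlift : ∀ σ, ∃ (a : A6) (u : G), (u = 1 ∨ u = f) ∧ (emb e a * u) * x = x * (emb e a * u) ∧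
      Act e (emb e a * u) (pcA σ) := by
    intro σ
    rcases Int.units_eq_one_or (Perm.sign σ) with hs | hs
    · refine ⟨⟨σ, mem_A6.2 hs⟩, 1, Or.inl rfl, ?_, ?_⟩
      · rw [mul_one]; exact F.emb_x e _
      · rw [mul_one, pcA_even hs]; exact act_emb e _
    · refine ⟨⟨σ * pf, odd_mem (not_even hs)⟩, f, Or.inr rfl, F.mul_comm' (F.emb_x e _) hfx, ?_⟩
      have h3 := (act_emb e (⟨σ * pf, odd_mem (not_even hs)⟩ : A6)).mul hf
      rw [← pcA_coe, ← map_mul, mul_assoc σ, pf_pf, mul_one] at h3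
      exact h3
  refine ⟨F.xx, F.x1, fun a b h => emb_inj h, fun a => (F.emb_x e a).symm, F.emb_ne e, hfx, hrx, F.f_sq e hfx hf,
    ?_, F.cf e hf, ?_, ?_, ?_⟩
  · apply F.one_or e (F.mul_comm' hrx hrx)
    have := hr.mul hr
    rwa [θM_sq] at this
  · intro a
    rw [hr, θM_apply]
  · have h1 : Act e (r * f * r⁻¹) (pcA (pf * pz)) := by
      have := (hr.mul hf).mul hr.inv
      rwa [θM_pc, θ_f] at this
    have h2 : Act e (f * emb e qz) (pcA (pf * pz)) := by
      have := hf.mul (act_emb e qz)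
      rw [← pcA_coe, ← map_mul] at this
      exact this
    exact F.eq_or e (F.mul_comm' (F.mul_comm' hrx hfx) (F.inv_comm hrx))
      (F.mul_comm' hfx (F.emb_x e qz)) h1 h2
  · intro h hh
    obtain ⟨β, hβ⟩ := F.act e hh
    by_cases hn : NS β
    · obtain ⟨σ, rfl⟩ := ns_iff.1 hn
      obtain ⟨a, u, hu, hux, hact⟩ := hlift σ
      refine ⟨a, u, 1, hu, Or.inl rfl, ?_⟩
      rw [mul_one]
      exact F.eq_or e hh hux hβ hact
    · have h1 : NS (β * θM⁻¹) := Cfsg.Agent.StdAlt.Six.NS.mul_of_not hn (fun h => θM_ns (by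
        have := h.inv
        rwa [inv_inv] at this))
      obtain ⟨σ, hσ⟩ := ns_iff.1 h1
      obtain ⟨a, u, hu, hux, hact⟩ := hlift σ
      refine ⟨a, u, r, hu, Or.inr rfl, ?_⟩
      refine F.eq_or e hh (F.mul_comm' hux hrx) hβ ?_
      have h2 := hact.mul hr
      have h3 : pcA σ * θM = β := by rw [← hσ, inv_mul_cancel_right]
      rwa [h3] at h2

/-- **the split** -/
theorem split [Finite G] (h5 : ¬ SectionalPRankLE 2 4 G) :
    (∃ φ : Perm (Fin 6) →* G, D6.Six.SSix x φ) ∨ ∃ f r, AutGen x (emb e) f r := by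
  obtain ⟨f, hfx, hf⟩ := F.exists_f e h5
  by_cases hNS : ∀ g, g * x = x * g → ∀ α, Act e g α → NS α
  · left
    rcases F.f_sq e hfx hf with hff | hff
    · exact ⟨_, F.ssix e hNS hfx hf hff⟩
    · exact (F.iso_false e h5 hNS hfx hf hff).elim
  · right
    push Not at hNS
    obtain ⟨g, hg, α, hα, hns⟩ := hNS
    obtain ⟨r, h, -⟩ := F.autGen e hfx hf hg hα hns
    exact ⟨f, r, h⟩

end SixFr

end Cfsg.Agent.OddHalf.D5.SixAut

end
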