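import Cfsg.Agent.OddHalf.D5.SixAut.Defs2
import Cfsg.Agent.OddHalf.D5.SixAut.SymGrp

/-!
# ODD D5, `n = 6`, `C_G(x)/⟨x⟩ = Aut(A_6)`: `|C(x) ∩ C(z)| = 64` and the witness of `SymT`
-/

set_option autoImplicit false

namespace Cfsg.Agent.OddHalf.D5.SixAut

open Equiv Subgroup

variable {G : Type*} [Group G]

namespace AutGen

variable {x f r : G} {ι : A6 →* G}

/-- `g` acts on `ι(A_6)` as `c_σ θ^k` -/
def SymLab (ι : A6 →* G) (g : G) (σ : Perm (Fin 6)) (k : Bool) : Prop :=
  ∀ b : A6, g * ι b * g⁻¹ = ι (cA σ (if k then θA b else b))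

theorem sym_cent_A6 {σ : Perm (Fin 6)} (h3 : ∀ b : A6, σ * (b : Perm (Fin 6)) = b * σ) : σ = 1 := by
  have h4 : ∀ σ : Perm (Fin 6), σ * pc = pc * σ → σ * pc' = pc' * σ → σ * pz = pz * σ → σ * pv1 = pv1 * σ → σ = 1 := by
    decide +kernel
  exact h4 σ (h3 ⟨pc, pc_mem⟩) (h3 ⟨pc', pc'_mem⟩) (h3 qz) (h3 qv1)

theorem sym_θA_θA (b : A6) : θA (θA b) = b := Subtype.ext (θ_θ _)

theorem sym_eq_of_conj {σ τ : Perm (Fin 6)} (h : ∀ b : A6, cA σ b = cA τ b) : σ = τ := by
  have h1 : τ⁻¹ * σ = 1 := by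
    apply sym_cent_A6
    intro b
    have h2 : σ * (b : Perm (Fin 6)) * σ⁻¹ = τ * b * τ⁻¹ := congrArg Subtype.val (h b)
    calc τ⁻¹ * σ * (b : Perm (Fin 6)) = τ⁻¹ * (σ * b * σ⁻¹) * σ := by group
      _ = τ⁻¹ * (τ * b * τ⁻¹) * σ := by rw [h2]
      _ = b * (τ⁻¹ * σ) := by group
  exact (inv_mul_eq_one.1 h1).symm

theorem sym_θA_ne (σ τ : Perm (Fin 6)) (h : ∀ b : A6, cA σ b = cA τ (θA b)) : False := by
  have h2 : σ * pc * σ⁻¹ = τ * θ pc * τ⁻¹ := congrArg Subtype.val (h ⟨pc, pc_mem⟩)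
  have h3 : (σ * pc * σ⁻¹).support.card = (τ * θ pc * τ⁻¹).support.card := by rw [h2]
  rw [Perm.card_support_conj, Perm.card_support_conj] at h3
  revert h3
  decide +kernel

theorem SymLab.unique (h : AutGen x ι f r) {g : G} {σ τ : Perm (Fin 6)} {k l : Bool} (h1 : SymLab ι g σ k)
    (h2 : SymLab ι g τ l) : σ = τ ∧ k = l := by
  have h3 : ∀ b : A6, cA σ (if k then θA b else b) = cA τ (if l then θA b else b) := fun b =>
    h.inj ((h1 b).symm.trans (h2 b))
  cases k <;> cases l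
  · exact ⟨sym_eq_of_conj (by simpa using h3), rfl⟩
  · exact (sym_θA_ne σ τ (by simpa using h3)).elim
  · exact (sym_θA_ne τ σ (fun b => by have := h3 b; simp at this; exact this.symm)).elim
  · refine ⟨sym_eq_of_conj fun b => ?_, rfl⟩
    have := h3 (θA b)
    simpa [sym_θA_θA] using this

/-- the elements of `C(x)` -/
def symW (x f r : G) (ι : A6 →* G) (p : A6 × Bool × Bool × Bool) : G :=
  (if p.2.2.2 then x else 1) * (ι p.1 * (if p.2.1 then f else 1) * (if p.2.2.1 then r else 1))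

theorem sym_lab_mul {ι : A6 →* G} {g h : G} {σ τ : Perm (Fin 6)} {k : Bool} (h1 : SymLab ι g σ false)
    (h2 : SymLab ι h τ k) : SymLab ι (g * h) (σ * τ) k := by
  intro b
  have e : g * h * ι b * (g * h)⁻¹ = g * (h * ι b * h⁻¹) * g⁻¹ := by group
  rw [e, h2, h1]
  congr 1

theorem sym_lab_ι (ι : A6 →* G) (a : A6) : SymLab ι (ι a) (a : Perm (Fin 6)) false := by
  intro b
  rw [← map_inv, ← map_mul, ← map_mul]
  rfl

theorem sym_lab_f (h : AutGen x ι f r) : SymLab ι f pf false := fun b => h.cf b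

theorem sym_lab_one (ι : A6 →* G) : SymLab ι 1 1 false := by
  intro b
  have : cA 1 b = b := Subtype.ext (by show (1 : Perm (Fin 6)) * b * 1⁻¹ = b; group)
  show 1 * ι b * 1⁻¹ = ι (cA 1 b)
  rw [this]; group

theorem sym_lab_x (h : AutGen x ι f r) : SymLab ι x 1 false := by
  intro b
  have : cA 1 b = b := Subtype.ext (by show (1 : Perm (Fin 6)) * b * 1⁻¹ = b; group)
  show x * ι b * x⁻¹ = ι (cA 1 b)
  rw [this, h.comm]; group

theorem sym_lab_r (h : AutGen x ι f r) : SymLab ι r 1 true := by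
  intro b
  have : ∀ b, cA 1 b = b := fun b => Subtype.ext (by show (1 : Perm (Fin 6)) * b * 1⁻¹ = b; group)
  show r * ι b * r⁻¹ = ι (cA 1 (θA b))
  rw [this, h.cr]

theorem sym_lab_W (h : AutGen x ι f r) (p : A6 × Bool × Bool × Bool) :
    SymLab ι (symW x f r ι p) (p.1 * (if p.2.1 then pf else 1)) p.2.2.1 := by
  obtain ⟨a, j, k, i⟩ := p
  have h1 : SymLab ι (if i then x else 1) 1 false := by
    cases i
    · exact sym_lab_one ι
    · exact h.sym_lab_x
  have h2 : SymLab ι (if j then f else 1) (if j then pf else 1) false := by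
    cases j
    · exact sym_lab_one ι
    · exact h.sym_lab_f
  have h3 : SymLab ι (if k then r else 1) 1 k := by
    cases k
    · exact sym_lab_one ι
    · exact h.sym_lab_r
  have h4 := sym_lab_mul h1 (sym_lab_mul (sym_lab_mul (sym_lab_ι ι a) h2) h3)
  rw [one_mul, mul_one] at h4
  exact h4

theorem symW_inj (h : AutGen x ι f r) : Function.Injective (symW x f r ι) := by
  intro p q e
  have h1 := h.sym_lab_W p
  rw [e] at h1
  obtain ⟨h2, h3⟩ := SymLab.unique h h1 (h.sym_lab_W q)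
  obtain ⟨a, j, k, i⟩ := p
  obtain ⟨b, j', k', i'⟩ := q
  simp only at h2 h3
  subst h3
  have hsa := mem_A6.1 a.2
  have hsb := mem_A6.1 b.2
  have h4 : j = j' := by
    have h5 := congrArg Perm.sign h2
    rw [Perm.sign_mul, Perm.sign_mul, hsa, hsb] at h5
    cases j <;> cases j'
    · rfl
    · exfalso; revert h5; simp [sign_pf]
    · exfalso; revert h5; simp [sign_pf]
    · rfl
  subst h4
  have h5 : a = b := Subtype.ext (mul_right_cancel h2)
  subst h5
  have h6 : (if i then x else 1) = (if i' then x else (1 : G)) := mul_right_cancel e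
  have h7 : i = i' := by
    cases i <;> cases i'
    · rfl
    · exact (h.x1 h6.symm).elim
    · exact (h.x1 h6).elim
    · rfl
  rw [h7]

theorem symW_mem (h : AutGen x ι f r) (p : A6 × Bool × Bool × Bool) : symW x f r ι p * x = x * symW x f r ι p := by
  obtain ⟨a, j, k, i⟩ := p
  have c1 : Commute (if i then x else 1) x := by
    cases i
    · exact Commute.one_left x
    · exact Commute.refl x
  have c2 : Commute (if j then f else 1) x := by
    cases j
    · exact Commute.one_left x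
    · exact h.fx
  have c3 : Commute (if k then r else 1) x := by
    cases k
    · exact Commute.one_left x
    · exact h.rx
  have c4 : Commute (ι a) x := h.comm' a
  exact c1.mul_left ((c4.mul_left c2).mul_left c3)

theorem symW_mem_iff (h : AutGen x ι f r) (p : A6 × Bool × Bool × Bool) :
    symW x f r ι p * ι qz = ι qz * symW x f r ι p ↔ (p.1 : Perm (Fin 6)) * pz = pz * p.1 := by
  have h1 := h.sym_lab_W p qz
  have hqz : (if p.2.2.1 then θA qz else qz) = qz := by
    split_ifs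
    · exact Subtype.ext θ_z
    · rfl
  rw [hqz] at h1
  have h2 : symW x f r ι p * ι qz = ι qz * symW x f r ι p ↔ symW x f r ι p * ι qz * (symW x f r ι p)⁻¹ = ι qz :=
    mul_inv_eq_iff_eq_mul.symm
  rw [h2, h1, h.inj.eq_iff, Subtype.ext_iff]
  show ((p.1 : Perm (Fin 6)) * (if p.2.1 then pf else 1)) * pz * ((p.1 : Perm (Fin 6)) * (if p.2.1 then pf else 1))⁻¹ = pz ↔ _
  have hf : (if p.2.1 then pf else 1) * pz * (if p.2.1 then pf else 1)⁻¹ = pz := by
    split_ifs
    · decide +kernel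
    · group
  have e : ((p.1 : Perm (Fin 6)) * (if p.2.1 then pf else 1)) * pz * ((p.1 : Perm (Fin 6)) * (if p.2.1 then pf else 1))⁻¹
      = (p.1 : Perm (Fin 6)) * pz * (p.1 : Perm (Fin 6))⁻¹ := by
    calc _ = (p.1 : Perm (Fin 6)) * ((if p.2.1 then pf else 1) * pz * (if p.2.1 then pf else 1)⁻¹) * (p.1 : Perm (Fin 6))⁻¹ := by
          group
      _ = _ := by rw [hf]
  rw [e, mul_inv_eq_iff_eq_mul]

theorem symW_surj (h : AutGen x ι f r) {g : G} (hg : g * x = x * g) : ∃ p, symW x f r ι p = g := by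
  obtain ⟨a, u, v, hu, hv, e⟩ := h.cent g hg
  rcases hu with rfl | rfl <;> rcases hv with rfl | rfl <;> rcases e with e | e
  · exact ⟨(a, false, false, false), by rw [e]; simp [symW]⟩
  · exact ⟨(a, false, false, true), by rw [e]; simp [symW]⟩
  · exact ⟨(a, false, true, false), by rw [e]; simp [symW]⟩
  · exact ⟨(a, false, true, true), by rw [e]; simp [symW]⟩
  · exact ⟨(a, true, false, false), by rw [e]; simp [symW]⟩
  · exact ⟨(a, true, false, true), by rw [e]; simp [symW]⟩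
  · exact ⟨(a, true, true, false), by rw [e]; simp [symW]⟩
  · exact ⟨(a, true, true, true), by rw [e]; simp [symW]⟩

private theorem sym_card_cent0 : Fintype.card {p : Perm (Fin 6) // Perm.sign p = 1 ∧ p * pz = pz * p} = 8 := by
  decide +kernel

theorem sym_card_cent : Fintype.card {p : Perm (Fin 6) × Bool × Bool × Bool // Perm.sign p.1 = 1 ∧ p.1 * pz = pz * p.1} = 64 := by
  have e : {p : Perm (Fin 6) × Bool × Bool × Bool // Perm.sign p.1 = 1 ∧ p.1 * pz = pz * p.1} ≃
      {p : Perm (Fin 6) // Perm.sign p = 1 ∧ p * pz = pz * p} × Bool × Bool × Bool :=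
    ⟨fun p => (⟨p.1.1, p.2⟩, p.1.2), fun q => ⟨(q.1.1, q.2), q.1.2⟩, fun _ => rfl, fun _ => rfl⟩
  rw [Fintype.card_congr e, Fintype.card_prod, sym_card_cent0, Fintype.card_prod, Fintype.card_prod, Fintype.card_bool]

/-- `|C(x) ∩ C(z)| = 64` -/
theorem sym_card (h : AutGen x ι f r) : Nat.card ↥(STT x (ι qz)) = 64 := by
  classical
  let φ : {p : Perm (Fin 6) × Bool × Bool × Bool // Perm.sign p.1 = 1 ∧ p.1 * pz = pz * p.1} → ↥(STT x (ι qz)) :=
    fun p => ⟨symW x f r ι (⟨p.1.1, mem_A6.2 p.2.1⟩, p.1.2), by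
      rw [mem_STT]
      exact ⟨h.symW_mem _, (h.symW_mem_iff _).2 p.2.2⟩⟩
  have hφ : Function.Bijective φ := by
    constructor
    · intro p q e
      have e1 := h.symW_inj (congrArg Subtype.val e)
      apply Subtype.ext
      apply Prod.ext
      · exact congrArg (fun t : A6 × Bool × Bool × Bool => (t.1 : Perm (Fin 6))) e1
      · exact congrArg (fun t : A6 × Bool × Bool × Bool => t.2) e1
    · rintro ⟨g, hg⟩
      rw [mem_STT] at hg
      obtain ⟨p, rfl⟩ := h.symW_surj hg.1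
      refine ⟨⟨(p.1, p.2), mem_A6.1 p.1.2, (h.symW_mem_iff p).1 hg.2⟩, rfl⟩
  rw [← Nat.card_congr (Equiv.ofBijective φ hφ), Nat.card_eq_fintype_card, sym_card_cent]

/-- **`SymT`** -/
theorem symT (h : AutGen x ι f r) : SymT x (ι qz) where
  xx := h.xx
  x1 := h.x1
  zz := by
    rw [← map_mul]
    have : qz * qz = 1 := by decide +kernel
    rw [this, map_one]
  z1 := by
    intro e
    have h1 : qz = 1 := h.inj (e.trans (map_one ι).symm)
    revert h1
    decide +kernel
  xz := h.comm qz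
  nxz := fun e => h.ne qz e.symm
  card := h.sym_card
  wit := by
    -- `v = v₁`, `f`, `r`: `r v r⁻¹ v⁻¹ = v₂ v₁⁻¹ = d⁻¹`
    have hd : r * ι qv1 * r⁻¹ * (ι qv1)⁻¹ = ι (qv2 * qv1⁻¹) := by
      have hv : θA qv1 = qv2 := Subtype.ext θ_v1
      rw [h.cr, hv, map_mul, map_inv]
    have hf : ∀ a : A6, f * ι a = ι (cA pf a) * f := fun a => by rw [← h.cf, inv_mul_cancel_right]
    have hr : ∀ a : A6, r * ι a = ι (θA a) * r := fun a => by rw [← h.cr, inv_mul_cancel_right]
    have hfv : f * ι qv1 = ι qv1 * f := by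
      rw [hf]; congr 2; decide +kernel
    have hfd : f * ι (qv2 * qv1⁻¹) = ι (qv2 * qv1⁻¹) * f := by
      rw [hf]; congr 2; decide +kernel
    have hvd : ι qv1 * ι (qv2 * qv1⁻¹) ≠ ι (qv2 * qv1⁻¹) * ι qv1 := by
      rw [← map_mul, ← map_mul, ne_eq, h.inj.eq_iff]
      decide +kernel
    have hrf : r * f ≠ f * r := by
      intro e
      have e1 : r * f * r⁻¹ = f := by rw [e]; group
      rcases h.rf with e2 | e2
      · rw [e1] at e2
        have h1 : ι qz = 1 := left_eq_mul.1 e2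
        have h2 : qz = 1 := h.inj (h1.trans (map_one ι).symm)
        revert h2
        decide +kernel
      · rw [e1] at e2
        have h1 : f * (x * ι qz) = f := by
          calc f * (x * ι qz) = x * (f * ι qz) := by rw [← mul_assoc, h.fx, mul_assoc]
            _ = f := e2.symm
        have h2 : x * ι qz = 1 := mul_eq_left.1 h1
        have h3 : ι qz = x := by
          calc ι qz = (x * x) * ι qz := by rw [h.xx, one_mul]
            _ = x * (x * ι qz) := by group
            _ = x := by rw [h2, mul_one]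
        exact h.ne _ h3
    refine ⟨ι qv1, f, r, ?_, ?_, ?_, ?_, ?_, ?_, hrf, ?_⟩
    · rw [mem_STT]
      refine ⟨h.comm' _, ?_⟩
      rw [← map_mul, ← map_mul]; congr 1; decide +kernel
    · rw [mem_STT]
      refine ⟨h.fx, ?_⟩
      rw [hf]; congr 2; decide +kernel
    · rw [mem_STT]
      refine ⟨h.rx, ?_⟩
      rw [hr]; congr 2; exact Subtype.ext θ_z
    · rw [hd, ← map_mul]
      intro e
      have h2 := h.inj (e.trans (map_one ι).symm)
      revert h2
      decide +kernel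
    · rw [hd]; exact hvd
    · rw [hd]
      intro e
      apply hvd
      apply mul_left_cancel (a := f)
      calc f * (ι qv1 * ι (qv2 * qv1⁻¹)) = f * ι qv1 * ι (qv2 * qv1⁻¹) := by group
        _ = (ι (qv2 * qv1⁻¹) * f) * ι qv1 := by rw [e]; group
        _ = f * (ι (qv2 * qv1⁻¹) * ι qv1) := by rw [← hfd]; group
    · intro e
      apply hrf
      apply mul_right_cancel (b := ι qv1)
      calc r * f * ι qv1 = r * (f * ι qv1) := by group
        _ = (r * ι qv1) * f := by rw [hfv]; group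
        _ = f * r * ι qv1 := by rw [e]; group

end AutGen

namespace AutSpl

variable {x r : G} {ι : Perm (Fin 6) →* G}

/-- forget the splitting -/
theorem toGen (h : AutSpl x ι r) : AutGen x (ι.comp A6.subtype) (ι pf) r where
  xx := h.xx
  x1 := h.x1
  inj := h.inj.comp A6.subtype_injective
  comm := fun a => h.comm _
  ne := fun a => h.ne _
  fx := h.comm' _
  rx := h.rx
  ff := by
    left
    rw [← map_mul]
    have : pf * pf = 1 := by decide +kernel
    rw [this, map_one]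
  rr := h.rr
  cf := by
    intro a
    rw [← map_inv]
    show ι pf * ι a * ι pf⁻¹ = ι (pf * a * pf⁻¹)
    rw [map_mul, map_mul]
  cr := fun a => h.conj a
  rf := by
    left
    rw [h.conj, θ_f, map_mul]
    rfl
  cent := by
    intro g hg
    obtain ⟨σ, e⟩ := h.cent g hg
    have pp : pf * pf = 1 := by decide +kernel
    by_cases hs : Perm.sign σ = 1
    · refine ⟨⟨σ, mem_A6.2 hs⟩, 1, ?_⟩
      show ∃ v, (1 = 1 ∨ 1 = ι pf) ∧ (v = 1 ∨ v = r) ∧ (g = ι σ * 1 * v ∨ g = x * (ι σ * 1 * v))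
      rcases e with e | e | e | e
      · exact ⟨1, Or.inl rfl, Or.inl rfl, Or.inl (by rw [e]; group)⟩
      · exact ⟨1, Or.inl rfl, Or.inl rfl, Or.inr (by rw [e]; group)⟩
      · exact ⟨r, Or.inl rfl, Or.inr rfl, Or.inl (by rw [e]; group)⟩
      · exact ⟨r, Or.inl rfl, Or.inr rfl, Or.inr (by rw [e]; group)⟩
    · have h1 : Perm.sign (σ * pf) = 1 := by
        rcases Int.units_eq_one_or (Perm.sign σ) with h1 | h1
        · exact absurd h1 hs
        · rw [Perm.sign_mul, h1, sign_pf]; decide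
      have h2 : ι σ = ι (σ * pf) * ι pf := by rw [← map_mul, mul_assoc, pp, mul_one]
      refine ⟨⟨σ * pf, mem_A6.2 h1⟩, ι pf, ?_⟩
      show ∃ v, (ι pf = 1 ∨ ι pf = ι pf) ∧ (v = 1 ∨ v = r) ∧ (g = ι (σ * pf) * ι pf * v ∨ g = x * (ι (σ * pf) * ι pf * v))
      rw [← h2]
      rcases e with e | e | e | e
      · exact ⟨1, Or.inr rfl, Or.inl rfl, Or.inl (by rw [e]; group)⟩
      · exact ⟨1, Or.inr rfl, Or.inl rfl, Or.inr (by rw [e]; group)⟩
      · exact ⟨r, Or.inr rfl, Or.inr rfl, Or.inl (by rw [e])⟩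
      · exact ⟨r, Or.inr rfl, Or.inr rfl, Or.inr (by rw [e])⟩

/-- **`SymT`** -/
theorem symT (h : AutSpl x ι r) : SymT x (ι pz) := h.toGen.symT

/-- `|C(x) ∩ C(z)| = 64` -/
theorem sym_card (h : AutSpl x ι r) : Nat.card ↥(STT x (ι pz)) = 64 := h.symT.card

end AutSpl

end Cfsg.Agent.OddHalf.D5.SixAut
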