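import Cfsg.Agent.OddHalf.D5.SixAut.FusHS
import Cfsg.Agent.OddHalf.D5.SixAut.ModFour
import Cfsg.Agent.OddHalf.D5.SixAut.HsxEnd
import Cfsg.Agent.OddHalf.D5.SixAut.HsxFrame
import Cfsg.Agent.OddHalf.D5.SixAut.PTwoDefs
import Cfsg.Agent.OddHalf.D5.SixAut.Split2
import Cfsg.Agent.OddHalf.D5.SixAut.DblEnd
import Cfsg.Agent.OddHalf.D5.SixAut.ZeroEnd
import Cfsg.Agent.OddHalf.D5.SixAut.HsxD
import Cfsg.Agent.OddHalf.D5.SixAut.FitZ
import Cfsg.Agent.OddHalf.D5.SixAut.IsoKill
import Cfsg.Agent.OddHalf.D5.SixAut.TwFus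
import Cfsg.Agent.OddHalf.D5.SixAut.Row
import Cfsg.Agent.OddHalf.D5.SixAut.SymWit
import Cfsg.Agent.OddHalf.D5.SixAut.SymSpl

-- merged: Cfsg.Agent.OddHalf.D5.SixAut.PTwo
section

/-!
# ODD D5, `n = 6`, (C3b), **P2** (helper310)

`p2`: if `x` is conjugate to `x z` but not to `z`, then after a sign twist of `ι` (`f ↦ x f`) `x^G ∩ E₁ = x U₁`, and
(DBL) or (HSx) holds.
-/

set_option autoImplicit false

namespace Cfsg.Agent.OddHalf.D5.SixAut.PTwo

open Subgroup Equiv
open EPerm EOne FusE FusN FusEight PTwoDefs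

variable {G : Type*} [Group G] {x r : G} {ι : Perm (Fin 6) →* G}

theorem eight [Finite G] (h : AutSpl x ι r) (hs : D x (x * ι pz)) (nxz : ∀ g, A g x ≠ ι pz) (hf : ¬ D x (ι pf))
    (hxf : D x (x * ι pf)) : Eight x ι where
  yes := by
    intro a ha
    by_cases hs' : Perm.sign a = 1
    · exact D_even h hs ha hs'
    · exact (D_odd' h ha hs').2 hxf
  no := by
    intro a ha
    by_cases hs' : Perm.sign a = 1
    · exact not_D_even h nxz ha hs'
    · rw [D_odd h ha hs']; exact hf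

theorem fus_of (H : Eight x ι) : Fus x ι := fun a ha => ⟨H.yes a ha, H.no a ha⟩

/-- **P2** -/
theorem p2 [Finite G] (h : AutSpl x ι r) (hG : ∀ (m : G →* ℤˣ) (g : G), m g = 1)
    (hs : ∃ s, s * x * s⁻¹ = x * ι pz) (nxz : ∀ g, g * x * g⁻¹ ≠ ι pz)
    (hZ : ∀ S : Sylow 2 G, Nat.card (center S) ≤ 2) :
    ∃ ι' : Perm (Fin 6) →* G, AutSpl x ι' r ∧ (∀ a, Perm.sign a = 1 → ι' a = ι a) ∧ Fus x ι' ∧
      (DBL x ι' ∨ HSx x ι') := by
  by_cases hf : D x (ι pf)
  · by_cases hxf : D x (x * ι pf)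
    · exact (twelve h hs nxz hf hxf).elim
    · have e1 : AutSpl.twist x h.xx ι h.comm pf = x * ι pf := AutSpl.twist_odd _ _ _ _ (by decide +kernel)
      have e2 : AutSpl.twist x h.xx ι h.comm pz = ι pz := AutSpl.twist_even _ _ _ _ (by decide +kernel)
      have H : Eight x (AutSpl.twist x h.xx ι h.comm) := by
        apply eight (AutSpl.spl_twist h)
        · rw [e2]; exact hs
        · rw [e2]; exact nxz
        · rw [e1]; exact hxf
        · rw [e1, ← mul_assoc, h.xx, one_mul]; exact hf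
      exact ⟨_, AutSpl.spl_twist h, fun a ha => AutSpl.twist_even _ _ _ _ ha, fus_of H,
        FusHS.dbl_or_hsx (AutSpl.spl_twist h) H⟩
  · by_cases hxf : D x (x * ι pf)
    · have H := eight h hs nxz hf hxf
      exact ⟨ι, h, fun _ _ => rfl, fus_of H, FusHS.dbl_or_hsx h H⟩
    · exact (ModFour.false_of h ⟨hs, nxz, hf, hxf⟩ hG hZ).elim

end Cfsg.Agent.OddHalf.D5.SixAut.PTwo

end

-- merged: Cfsg.Agent.OddHalf.D5.SixAut.HsxSym
section

/-!
# ODD D5, `n = 6`, `C_G(x)/⟨x⟩ = Aut(A_6)`, the case (HSx): the conclusion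

`sym` : in the situation `HSx x ι` of `PTwoDefs`, the elementary abelian normal subgroups of `C(z)`, `z = ι pz`, are
`≤ ⟨z⟩`.
-/

set_option autoImplicit false

namespace Cfsg.Agent.OddHalf.D5.SixAut.HsxSym

open HsxW HsxB HsxEnd Subgroup Cfsg Equiv EPerm EOne FusE PTwoDefs

variable {G : Type*} [Group G]

theorem comm_pf : ∀ a : Perm (Fin 6), a * pz = pz * a → a * pv1 = pv1 * a → a * pf = pf * a := by decide +kernel

/-- an element moving `x` inside `x U₁` and centralising `U₁` lies in `N(E₁)` -/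
theorem mem_NE_of [Finite G] {x r : G} {ι : Perm (Fin 6) →* G} (h : AutSpl x ι r) {g : G}
    (hz : g * ι pz = ι pz * g) (hv : g * ι pv1 = ι pv1 * g)
    (hx : ∃ l, InL (ι pz) (ι pf) l ∧ (g * x * g⁻¹ = x * l ∨ g * x * g⁻¹ = x * (ι pv1 * l))) : g ∈ NE x ι := by
  have hL : ∀ l, InL (ι pz) (ι pf) l → l ∈ E1 x ι := by
    rintro l (rfl | rfl | rfl | rfl)
    · exact (E1 x ι).one_mem
    · exact zE h
    · exact fE h
    · exact (E1 x ι).mul_mem (fE h) (zE h)
  apply gen_NE h
  · obtain ⟨l, hl, e | e⟩ := hx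
    · show g * x * g⁻¹ ∈ E1 x ι
      rw [e]
      exact (E1 x ι).mul_mem (AutSpl'.x_mem h) (hL l hl)
    · show g * x * g⁻¹ ∈ E1 x ι
      rw [e]
      exact (E1 x ι).mul_mem (AutSpl'.x_mem h) ((E1 x ι).mul_mem (vE h) (hL l hl))
  · rw [A_eq_iff.2 hz]; exact zE h
  · rw [A_eq_iff.2 hv]; exact vE h

/-- **P4** -/
theorem sym [Finite G] {x r : G} {ι : Perm (Fin 6) →* G} (h : AutSpl x ι r) (hx : HSx x ι)
    (hO : centralizerPPrimeCore 2 (ι pf) = ⊥)
    (hm : ∀ (m : centralizer ({ι pz} : Set G) →* ℤˣ) (hx : x ∈ centralizer ({ι pz} : Set G)), m ⟨x, hx⟩ = 1)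
    (A : Subgroup (centralizer ({ι pz} : Set G))) (hA : A.Normal) (hel : ∀ a ∈ A, a * a = 1) :
    ∀ a ∈ A, (a : G) = 1 ∨ (a : G) = ι pz := by
  obtain ⟨b, bf, bz, bv, bx⟩ := hx.b
  obtain ⟨m, mf, -, mz, -⟩ := hx.m
  have zf : ι pz * ι pf = ι pf * ι pz := by
    rw [← map_mul, ← map_mul]; congr 1; decide +kernel
  obtain ⟨b', c, d, m', H⟩ := HsxFrame.exists_HX h ⟨b, bf, bz, bv, bx⟩ ⟨m, mf, by rw [mz, zf]⟩ (fun g gf gz gv gx =>
    hx.tr g (mem_NE_of h gz gv gx) gf gz gv)
  -- `E₁`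
  have hE : HsxEnd.E1 H = EOne.E1 x ι := by
    apply le_antisymm
    · intro g hg
      have key : ∀ u, InU (ι pz) (ι pf) (ι pv1) u → u ∈ EOne.E1 x ι := by
        have hL : ∀ l, InL (ι pz) (ι pf) l → l ∈ EOne.E1 x ι := by
          rintro l (rfl | rfl | rfl | rfl)
          · exact (EOne.E1 x ι).one_mem
          · exact zE h
          · exact fE h
          · exact (EOne.E1 x ι).mul_mem (fE h) (zE h)
        rintro u ⟨l, hl, rfl | rfl⟩
        · exact hL _ hl
        · exact (EOne.E1 x ι).mul_mem (vE h) (hL _ hl)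
      rcases (mem_E1 H).1 hg with hu | ⟨u, hu, rfl⟩
      · exact key _ hu
      · exact (EOne.E1 x ι).mul_mem (AutSpl'.x_mem h) (key _ hu)
    · intro g hg
      have hg' := hg
      obtain ⟨gx, gz, gv⟩ := hg'
      have gf : g * ι pf = ι pf * g := AutSpl'.comm h hg (fE h)
      exact (mem_E1 H).2 (centU H gx gf gz gv)
  -- `|C(z)|`
  have hcC : 768 ≤ Nat.card (centralizer ({ι pf} : Set G)) := by
    rw [← hx.card]
    exact Subgroup.card_le_of_le (fun g hg => mem_centralizer_singleton_iff.2 (hx.nF g hg))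
  have hcz : 512 < Nat.card (centralizer ({ι pz} : Set G)) := by
    have e : Nat.card (centralizer ({ι pf} : Set G)) ≤ Nat.card (centralizer ({ι pz} : Set G)) := by
      have hρ := rho_z H
      refine Nat.card_le_card_of_injective
        (fun g : centralizer ({ι pf} : Set G) => (⟨(r * m')⁻¹ * g * (r * m'), ?_⟩ : centralizer ({ι pz} : Set G))) ?_
      · have hg := mem_centralizer_singleton_iff.1 g.2
        rw [mem_centralizer_singleton_iff]
        calc (r * m')⁻¹ * g * (r * m') * ι pz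
            = (r * m')⁻¹ * (g * ((r * m') * ι pz * (r * m')⁻¹)) * (r * m') := by group
          _ = (r * m')⁻¹ * (((r * m') * ι pz * (r * m')⁻¹) * g) * (r * m') := by rw [hρ, hg]
          _ = ι pz * ((r * m')⁻¹ * g * (r * m')) := by group
      · intro a b hab
        have := congrArg Subtype.val hab
        exact Subtype.ext (mul_left_cancel (mul_right_cancel this))
    omega
  have hd : ∀ W : Subgroup G, (∀ a ∈ W, a * a = 1) → (∀ w ∈ W, w * ι pz = ι pz * w) →
      (∀ g, g * ι pz = ι pz * g → ∀ w ∈ W, g * w * g⁻¹ ∈ W) → (∃ w ∈ W, w ≠ 1 ∧ w ≠ ι pz) →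
      WN x (ι pz) (ι pf) W := by
    intro W el hWz nz hW
    obtain ⟨h1, h2, h3⟩ := exists_WN h ⟨b, bf, bz, bx⟩ hcz hm W el hWz nz hW
    exact ⟨el, nz, h1, h2, h3⟩
  intro a ha
  by_contra hc
  push Not at hc
  have hWN : WN x (ι pz) (ι pf) (A.map (centralizer ({ι pz} : Set G)).subtype) := by
    apply hd
    · rintro _ ⟨w, hw, rfl⟩
      exact congrArg Subtype.val (hel w hw)
    · rintro _ ⟨w, hw, rfl⟩
      exact mem_centralizer_singleton_iff.1 w.2
    · rintro g hg _ ⟨w, hw, rfl⟩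
      exact ⟨⟨g, mem_centralizer_singleton_iff.2 hg⟩ * w * ⟨g, mem_centralizer_singleton_iff.2 hg⟩⁻¹,
        hA.conj_mem w hw _, rfl⟩
    · exact ⟨a, ⟨a, ha, rfl⟩, hc.1, hc.2⟩
  refine no_W H hO (NE x ι) hx.nF ?_ hx.card.ge hd hWN
  intro g hg e he
  rw [hE] at he ⊢
  exact A_mem hg he

end Cfsg.Agent.OddHalf.D5.SixAut.HsxSym

end

-- merged: Cfsg.Agent.OddHalf.D5.SixAut.FinalSpl
section

/-!
# ODD D5, `n = 6`, `C_G(x)/⟨x⟩ = Aut(A_6)` split: the elementary abelian normal subgroups of `C(z)` (helper383)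

`spl`: in the case `AutSpl` every elementary abelian normal subgroup of `C(z)` is `≤ ⟨z⟩`: P2 (helper310), (DBL)
(helper314, helper668), (HSx) (helper419, helper383).
-/

set_option autoImplicit false

namespace Cfsg.Agent.OddHalf.D5.SixAut.C3b

open Subgroup Equiv Cfsg
open DblNorm PTwoDefs

variable {G : Type*} [Group G] {x r : G} {ι : Perm (Fin 6) →* G}

theorem pc_pc : pc * (pc * pz * pc⁻¹) * pc⁻¹ = pv1 := by decide +kernel

/-- in (DBL) some `w ∈ C(z)` maps `x` to `x v₁` -/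
theorem exists_v1 (h : AutSpl x ι r) (hz : ∃ g, Mv x ι g pz) :
    ∃ w, w * ι pz = ι pz * w ∧ w * x * w⁻¹ = x * ι pv1 := by
  obtain ⟨g, m⟩ := hz
  have m1 := mv_c h (mv_c h m)
  rw [pc_pc] at m1
  exact ⟨_, m1.z, m1.x⟩

/-- (DBL) -/
theorem dbl [Finite G] [IsSimpleGroup G] (hna : ¬ ∀ a b : G, a * b = b * a) (h : AutSpl x ι r) (hd : DBL x ι)
    (nxz : ∀ g, g * x * g⁻¹ ≠ ι pz) (pT : IsPGroup 2 (TT x (ι pz)))
    (syl : ∀ P : Subgroup G, IsPGroup 2 P → (∀ y ∈ P, y * x = x * y) →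
      ∃ g, g * x = x * g ∧ ∀ y ∈ P, g * y * g⁻¹ ∈ TT x (ι pz))
    (hm : ∀ (m : centralizer ({ι pz} : Set G) →* ℤˣ) (hx : x ∈ centralizer ({ι pz} : Set G)), m ⟨x, hx⟩ = 1)
    (A : Subgroup (centralizer ({ι pz} : Set G))) (hA : A.Normal) (hel : ∀ a ∈ A, a * a = 1) :
    ∀ a ∈ A, (a : G) = 1 ∨ (a : G) = ι pz := by
  intro a ha
  by_contra hc
  push Not at hc
  obtain ⟨g1, f1, z1, v1, x1⟩ := hd.hz
  obtain ⟨g2, f2, z2, v2, x2⟩ := hd.hf
  have hz : ∃ g, Mv x ι g pz := ⟨g1, f1, z1, v1, x1⟩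
  have hf : ∃ g, Mv x ι g pf := ⟨g2, f2, z2, v2, x2⟩
  have el : ∀ w ∈ A.map (centralizer ({ι pz} : Set G)).subtype, w * w = 1 := by
    rintro _ ⟨w, hw, rfl⟩
    exact congrArg Subtype.val (hel w hw)
  have nz : ∀ g, g * ι pz = ι pz * g → ∀ w ∈ A.map (centralizer ({ι pz} : Set G)).subtype,
      g * w * g⁻¹ ∈ A.map (centralizer ({ι pz} : Set G)).subtype := by
    rintro g hg _ ⟨w, hw, rfl⟩
    exact ⟨⟨g, mem_centralizer_singleton_iff.2 hg⟩ * w * ⟨g, mem_centralizer_singleton_iff.2 hg⟩⁻¹,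
      hA.conj_mem w hw _, rfl⟩
  have hWz : ∀ w ∈ A.map (centralizer ({ι pz} : Set G)).subtype, w * ι pz = ι pz * w := by
    rintro _ ⟨w, hw, rfl⟩
    exact mem_centralizer_singleton_iff.1 w.2
  obtain ⟨h1, h2, h3⟩ := exists_WN_dbl h ⟨g2, f2, z2, x2⟩ (exists_v1 h hz) hm _ el hWz nz
    ⟨a, ⟨a, ha, rfl⟩, hc.1, hc.2⟩
  refine dbl_false_WN h hz hf (TT x (ι pz)) (fun g => mem_TT) pT syl (fun s b w D => dblZero_false hna D) ?_ _
    ⟨el, nz, h1, h2, h3⟩
  intro g e
  apply nxz g⁻¹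
  rw [← e]; group

/-- **the split case** -/
theorem spl [Finite G] [IsSimpleGroup G] (hna : ¬ ∀ a b : G, a * b = b * a) (h : AutSpl x ι r)
    (hG : ∀ (m : G →* ℤˣ) (g : G), m g = 1) (hs : ∃ s, s * x * s⁻¹ = x * ι pz) (nxz : ∀ g, g * x * g⁻¹ ≠ ι pz)
    (hZ : ∀ S : Sylow 2 G, Nat.card (center S) ≤ 2)
    (bal : ∀ t : G, orderOf t = 2 → centralizerPPrimeCore 2 t = ⊥) (pT : IsPGroup 2 (TT x (ι pz)))
    (syl : ∀ P : Subgroup G, IsPGroup 2 P → (∀ y ∈ P, y * x = x * y) →
      ∃ g, g * x = x * g ∧ ∀ y ∈ P, g * y * g⁻¹ ∈ TT x (ι pz))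
    {z : G} (hz : z = ι pz)
    (hm : ∀ (m : centralizer ({z} : Set G) →* ℤˣ) (hx : x ∈ centralizer ({z} : Set G)), m ⟨x, hx⟩ = 1)
    (A : Subgroup (centralizer ({z} : Set G))) (hA : A.Normal) (hel : ∀ a ∈ A, a * a = 1) :
    ∀ a ∈ A, (a : G) = 1 ∨ (a : G) = z := by
  obtain ⟨ι', h', he, -, hd⟩ := PTwo.p2 h hG hs nxz hZ
  have e : ι' pz = ι pz := he pz (by decide +kernel)
  rw [← e] at hz nxz pT syl
  subst hz
  rcases hd with hd | hd
  · exact dbl hna h' hd nxz pT syl hm A hA hel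
  · refine HsxSym.sym h' hd (bal _ ?_) hm A hA hel
    refine orderOf_eq_prime ?_ ?_
    · rw [pow_two, ← map_mul, show pf * pf = 1 by decide +kernel, map_one]
    · exact fun e => absurd (h'.one_iff.1 e) (by decide +kernel)

end Cfsg.Agent.OddHalf.D5.SixAut.C3b

end

-- merged: Cfsg.Agent.OddHalf.D5.SixAut.FinalKey
section

/-!
# ODD D5, `n = 6`, `C_G(x)/⟨x⟩ = Aut(A_6)`: the elementary abelian normal subgroups of `C(z)`, all cases (helper383)
-/

set_option autoImplicit false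

namespace Cfsg.Agent.OddHalf.D5.SixAut.C3b

open Subgroup Equiv Cfsg
open scoped commutatorElement

variable {G : Type*} [Group G] {x f r : G} {ι : A6 →* G}

/-- a simple non-abelian group is perfect -/
theorem comm_top [IsSimpleGroup G] (hna : ¬ ∀ a b : G, a * b = b * a) : commutator G = ⊤ := by
  rcases (inferInstance : (commutator G).Normal).eq_bot_or_eq_top with e | e
  · exfalso
    apply hna
    intro a b
    have h1 : ⁅a, b⁆ ∈ commutator G := Subgroup.commutator_mem_commutator (mem_top a) (mem_top b)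
    rw [e, mem_bot, commutatorElement_def] at h1
    have h2 : a * b * (b * a)⁻¹ = 1 := by rw [← h1]; group
    exact mul_inv_eq_one.1 h2
  · exact e

theorem hom_one (hc : commutator G = ⊤) {A : Type*} [CommGroup A] (m : G →* A) (g : G) : m g = 1 := by
  have h1 : commutator G ≤ m.ker := by
    rw [commutator_def, commutator_le]
    intro a _ b _
    rw [MonoidHom.mem_ker, commutatorElement_def, map_mul, map_mul, map_mul, map_inv, map_inv,
      mul_comm (m a), mul_inv_cancel_right, mul_inv_cancel]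
  rw [hc] at h1
  exact MonoidHom.mem_ker.1 (h1 (mem_top g))

/-- **all cases**: every elementary abelian normal subgroup of `C(z)` is `≤ ⟨z⟩` -/
theorem key [Finite G] [IsSimpleGroup G] (hna : ¬ ∀ a b : G, a * b = b * a) (h : AutGen x ι f r)
    (h5 : ¬ SectionalPRankLE 2 4 G) (bal : ∀ t : G, orderOf t = 2 → centralizerPPrimeCore 2 t = ⊥)
    (htw : AutTw x ι f r → False) (A : Subgroup (centralizer ({ι qz} : Set G))) (hA : A.Normal)
    (hel : ∀ a ∈ A, a * a = 1) : ∀ a ∈ A, (a : G) = 1 ∨ (a : G) = ι qz := by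
  have hc := comm_top hna
  have hG : ∀ (m : G →* ℤˣ) (g : G), m g = 1 := fun m g => hom_one hc m g
  have hs := h.exists_s h5
  have nxz := h.nxz h5
  have hZ := h.card_center_le h5
  have hm : ∀ (m : centralizer ({ι qz} : Set G) →* ℤˣ) (hx : x ∈ centralizer ({ι qz} : Set G)), m ⟨x, hx⟩ = 1 :=
    fun m _ => h.foc h5 hc m
  have pT := h.pT
  have syl := h.setup.syl
  rcases h.cases with ⟨ι', h', -, he⟩ | hI | hT
  · have e : ι qz = ι' pz := (he qz).symm
    refine spl hna h' hG ?_ ?_ hZ bal ?_ ?_ e hm A hA hel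
    · rw [← e]; exact hs
    · rw [← e]; exact nxz
    · rw [← e]; exact pT
    · rw [← e]; exact syl
  · obtain ⟨S, hTS⟩ := pT.exists_le_sylow
    exact IsoKill.sym hI ⟨S, fun y hy => mem_centralizer_singleton_iff.2 (h.S_le h5 S hTS hy)⟩ h5 hm A hA hel
  · exact (htw hT).elim

end Cfsg.Agent.OddHalf.D5.SixAut.C3b

end

-- merged: Cfsg.Agent.OddHalf.D5.SixAut.TwFour
section

/-!
# ODD D5, `n = 6`, (C3b), the non-abelian variant: `x^G ∩ E₁ = x V₁` is impossible (helper310)
-/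

set_option autoImplicit false
set_option linter.unusedSectionVars false

namespace Cfsg.Agent.OddHalf.D5.SixAut.TwFour

open Subgroup Equiv
open EPerm EPerm2 EOne TwE TwOne TwFus
open FusE (A A_def A_mul A_inv A_inv' A_inj A_inv_eq A_eq_inv A_eq_iff A_conj A_ι A_ι_inv NE A_mem mem_NE)
open FusN (D D_A D_of_A D_self even_conj odd_conj VInv)
open ModFour (Four card_ev card_cfz)

variable {G : Type*} [Group G] {x r : G} {ι : Perm (Fin 6) →* G}

section

variable (h : AutE x ι r)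
include h

theorem zz : ι pz * ι pz = 1 := AutE'.sq h (zE h)
theorem ff : ι pf * ι pf = 1 := AutE'.sq h (fE h)
theorem zf : ι pz * ι pf = ι pf * ι pz := AutE'.comm h (zE h) (fE h)

theorem no (H : Four x ι) {a : Perm (Fin 6)} (ha : InV a) : ¬ D x (ι a) := by
  by_cases hs : Perm.sign a = 1
  · exact not_D_even h H.nz ha hs
  · rcases D_odd h ha hs with ⟨e, -⟩ | ⟨e, -⟩
    · rw [e]; exact H.nf
    · rw [e]; exact H.nxf

theorem yes [Finite G] (H : Four x ι) {a : Perm (Fin 6)} (ha : InV a) : D x (x * ι a) ↔ Perm.sign a = 1 := by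
  constructor
  · intro hD
    by_contra hs
    rcases D_odd h ha hs with ⟨-, e⟩ | ⟨-, e⟩
    · rw [e] at hD; exact H.nxf hD
    · rw [e] at hD; exact H.nf hD
  · exact D_even h H.even ha

theorem vinv [Finite G] (H : Four x ι) : VInv x ι := by
  have key : ∀ n ∈ NE x ι, ∀ b, InV b → Perm.sign b = 1 →
      ∃ b', InV b' ∧ Perm.sign b' = 1 ∧ A n (x * ι b) = x * ι b' := by
    intro n hn b hb hs
    have hD : D x (A n (x * ι b)) := by rw [D_A]; exact D_even h H.even hb hs
    obtain ⟨b', hb', e | e⟩ := AutE'.form h (A_mem hn (AutE'.mem' h hb))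
    · exfalso
      rw [e] at hD
      exact no h H hb' hD
    · refine ⟨b', hb', ?_, e⟩
      rw [e, yes h H hb'] at hD
      exact hD
  intro n hn w hw hws
  obtain ⟨b, hb, sb, e⟩ := key n hn 1 V_one (map_one _)
  obtain ⟨b', hb', sb', e'⟩ := key n hn w hw hws
  rw [map_one, mul_one] at e
  refine ⟨b * b', V_mul hb hb', by rw [Perm.sign_mul, sb, sb', one_mul], ?_⟩
  have h1 : ι w = x * (x * ι w) := by rw [← mul_assoc, h.xx, one_mul]
  rw [h1, map_mul, e, e', map_mul]
  have h2 := h.comm' b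
  calc x * ι b * (x * ι b') = x * (ι b * x) * ι b' := by group
    _ = (x * x) * (ι b * ι b') := by rw [h2]; group
    _ = _ := by rw [h.xx, one_mul]

theorem exF [Finite G] (H : Four x ι) : ∃ F, (F = ι pf ∨ F = x * ι pf) ∧
    ∀ w, InV w → Perm.sign w = 1 → ∃ k ∈ NE x ι, A k (ι pz) = ι pz ∧ A k F = F ∧ A k x = x * ι w := by
  obtain ⟨n, hn, hnx⟩ := fus' h (AutE'.mem' h V_z) H.even
  obtain ⟨c, hc, hcx, hcz, hcv⟩ := adjust h (vinv h H) hn
  rw [hnx] at hcx
  have hF : ∃ F, (F = ι pf ∨ F = x * ι pf) ∧ A c F = F := by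
    rcases lemC h hcx hcz hcv with e | e
    · exact ⟨_, Or.inl rfl, e⟩
    · refine ⟨_, Or.inr rfl, ?_⟩
      rw [map_mul, hcx, e, map_mul]
      calc x * ι pz * (ι pf * ι pz) = x * (ι pz * ι pf) * ι pz := by group
        _ = x * ι pf * (ι pz * ι pz) := by rw [zf h]; group
        _ = x * ι pf := by rw [zz h, mul_one]
  obtain ⟨F, hF, hcF⟩ := hF
  have hd : A (ι pc) F = F := by
    rcases hF with rfl | rfl
    · exact d_f h
    · rw [map_mul, A_ι_x h, d_f h]
  have hd' : A (ι pc)⁻¹ F = F := A_inv_eq hd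
  have hdN : ι pc ∈ NE x ι := ι_NE h c_f
  have hzv : A c (ι (pz * pv1)) = ι (pz * pv1) := by rw [map_mul ι, map_mul, hcz, hcv]
  have A1 : ∀ e, A (1 : G) e = e := fun e => by rw [A_def, one_mul, inv_one, mul_one]
  refine ⟨F, hF, ?_⟩
  intro w hw hs
  rcases V_even w hw hs with rfl | rfl | rfl | rfl
  · exact ⟨1, one_mem _, A1 _, A1 _, by rw [A1, map_one, mul_one]⟩
  · exact ⟨c, hc, hcz, hcF, hcx⟩
  · refine ⟨(ι pc)⁻¹ * c * ι pc, mul_mem (mul_mem (inv_mem hdN) hc) hdN, ?_, ?_, ?_⟩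
    · rw [A_mul, A_mul, d_z h, hzv]; exact A_inv_eq (d_z h)
    · rw [A_mul, A_mul, hd, hcF, hd']
    · rw [A_mul, A_mul, A_ι_x h, hcx, map_mul, A_ι_x_inv h, d_z' h]
  · refine ⟨ι pc * c * (ι pc)⁻¹, mul_mem (mul_mem hdN hc) (inv_mem hdN), ?_, ?_, ?_⟩
    · rw [A_conj, d_z' h, hcv, d_v h]
    · rw [A_conj, hd', hcF, hd]
    · rw [A_conj, A_ι_x_inv h, hcx, map_mul, A_ι_x h, d_z h]

/-- the order of a subgroup `{1, x} ι(P)` -/
theorem card_pair [Finite G] (P : Perm (Fin 6) → Prop) [DecidablePred P] (K : Subgroup G)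
    (hK : ∀ g, g ∈ K ↔ ∃ a, P a ∧ (g = ι a ∨ g = x * ι a)) :
    Nat.card K = 2 * (Finset.univ.filter P).card := by
  have e : Bool × {a : Perm (Fin 6) // P a} ≃ K := Equiv.ofBijective
    (fun p => ⟨(if p.1 then x else 1) * ι p.2.1, by
      rw [hK]
      refine ⟨p.2.1, p.2.2, ?_⟩
      split_ifs
      · exact Or.inr rfl
      · exact Or.inl (one_mul _)⟩) (by
    constructor
    · rintro ⟨b, p, hp⟩ ⟨c, q, hq⟩ e
      have h1 : (if b then x else 1) * ι p = (if c then x else 1) * ι q := congrArg Subtype.val e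
      cases b <;> cases c
      · simp only [Bool.false_eq_true, if_false, one_mul] at h1
        have := h.inj h1
        subst this; rfl
      · simp only [Bool.false_eq_true, if_false, one_mul, if_true] at h1
        exact absurd h1 (h.ne_x p q)
      · simp only [Bool.false_eq_true, if_false, one_mul, if_true] at h1
        exact absurd h1.symm (h.ne_x q p)
      · simp only [if_true] at h1
        have := h.xι_inj h1
        subst this; rfl
    · rintro ⟨g, hg⟩
      obtain ⟨a, ha, hp | hp⟩ := (hK g).1 hg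
      · exact ⟨(false, ⟨a, ha⟩), Subtype.ext (by simp [hp])⟩
      · exact ⟨(true, ⟨a, ha⟩), Subtype.ext (by simp [hp])⟩)
  rw [← Nat.card_congr e, Nat.card_prod, Nat.card_eq_fintype_card (α := {a // P a}), Fintype.card_subtype]
  simp

/-- `C_{N(E₁)}(⟨z, F⟩)` -/
theorem card_H [Finite G] (H : Four x ι) {F : G} (hF : F = ι pf ∨ F = x * ι pf)
    (hc : ∀ w, InV w → Perm.sign w = 1 → ∃ k ∈ NE x ι, A k (ι pz) = ι pz ∧ A k F = F ∧ A k x = x * ι w) :
    Nat.card ((NE x ι ⊓ centralizer {ι pz} ⊓ centralizer {F} : Subgroup G)) = 128 := by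
  have h1 := Cfsg.Agent.OddHalf.D6.Six.Parity.card_orbit x (NE x ι ⊓ centralizer {ι pz} ⊓ centralizer {F})
  have hmem : ∀ k, k ∈ (NE x ι ⊓ centralizer {ι pz} ⊓ centralizer {F} : Subgroup G) ↔
      k ∈ NE x ι ∧ A k (ι pz) = ι pz ∧ A k F = F := by
    intro k
    rw [mem_inf, mem_inf, mem_centralizer_singleton_iff, mem_centralizer_singleton_iff, A_eq_iff, A_eq_iff, and_assoc]
  have h2 : {d : G | ∃ k ∈ (NE x ι ⊓ centralizer {ι pz} ⊓ centralizer {F} : Subgroup G), k * x * k⁻¹ = d} =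
      {d : G | ∃ a, (InV a ∧ Perm.sign a = 1) ∧ x * ι a = d} := by
    ext d
    constructor
    · rintro ⟨k, hk, rfl⟩
      obtain ⟨hk, -, -⟩ := (hmem k).1 hk
      obtain ⟨a, ha, e | e⟩ := AutE'.form h (A_mem hk (AutE'.x_mem h))
      · exact absurd ⟨k, e⟩ (no h H ha)
      · exact ⟨a, ⟨ha, (yes h H ha).1 ⟨k, e⟩⟩, e.symm⟩
    · rintro ⟨a, ⟨ha, hs⟩, rfl⟩
      obtain ⟨k, hk, k1, k2, k3⟩ := hc a ha hs
      exact ⟨k, (hmem k).2 ⟨hk, k1, k2⟩, k3⟩
  have h3 : {d : G | ∃ a, (InV a ∧ Perm.sign a = 1) ∧ x * ι a = d}.ncard = 4 := by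
    have : {d : G | ∃ a, (InV a ∧ Perm.sign a = 1) ∧ x * ι a = d} =
        (fun a => x * ι a) '' ((Finset.univ.filter fun a => InV a ∧ Perm.sign a = 1 : Finset (Perm (Fin 6))) : Set _) := by
      ext d
      simp [Set.mem_image]
    rw [this, Set.ncard_image_of_injective _ (fun a b e => h.xι_inj e), Set.ncard_coe_finset, card_ev]
  have h4 : Nat.card (((NE x ι ⊓ centralizer {ι pz} ⊓ centralizer {F}) ⊓ centralizer {x} : Subgroup G)) = 32 := by
    rw [card_pair h (fun a => a * pf = pf * a ∧ a * pz = pz * a), card_cfz]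
    intro g
    rw [mem_inf, hmem, mem_centralizer_singleton_iff, ← A_eq_iff]
    constructor
    · rintro ⟨⟨g1, g2, -⟩, g3⟩
      obtain ⟨a, ha, e⟩ := stab h g1 g3
      refine ⟨a, ⟨ha, ?_⟩, e⟩
      rcases e with rfl | rfl
      · exact h.comm_ι.1 (A_eq_iff.1 g2)
      · rw [A_mul, A_ι] at g2
        have := A_inv_eq g2
        rw [show A x⁻¹ (ι pz) = ι pz from A_inv_eq (A_x_ι h pz)] at this
        exact mul_inv_eq_iff_eq_mul.1 (h.inj this).symm
    · rintro ⟨a, ⟨ha, hz⟩, e⟩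
      have k1 : A (ι a) x = x := A_ι_x h a
      have k2 : A (ι a) (ι pz) = ι pz := by rw [A_ι, hz, mul_inv_cancel_right]
      have k3 : A (ι a) (ι pf) = ι pf := by rw [A_ι, ha, mul_inv_cancel_right]
      have k4 : A (ι a) F = F := by
        rcases hF with rfl | rfl
        · exact k3
        · rw [map_mul, k1, k3]
      rcases e with rfl | rfl
      · exact ⟨⟨ι_NE h ha, k2, k4⟩, k1⟩
      · have x1 : A x x = x := A_eq_iff.2 rfl
        have x4 : A x F = F := by
          rcases hF with rfl | rfl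
          · exact A_x_ι h _
          · rw [map_mul, x1, A_x_ι h]
        exact ⟨⟨mul_mem (x_NE h) (ι_NE h ha), by rw [A_mul, k2, A_x_ι h], by rw [A_mul, k4, x4]⟩, by
          rw [A_mul, k1, x1]⟩
  rw [h2, h3, h4] at h1
  exact h1

/-! ### `|x^G ∩ C(x)|` -/

theorem card_C [Finite G] : Nat.card (centralizer ({x} : Set G)) = 2880 := by
  have n1 : ∀ a b, ι a * r ≠ x * ι b := by
    intro a b e
    apply h.ne_xr b a
    rw [e, ← mul_assoc, h.xx, one_mul]
  have n2 : ∀ a b, ι a * r ≠ x * (ι b * r) := by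
    intro a b e
    rw [← mul_assoc] at e
    exact h.ne_x a b (mul_right_cancel e)
  have n3 : ∀ a b, x * ι a ≠ x * (ι b * r) := fun a b e => h.ne_r a b (mul_left_cancel e)
  have e : (Bool × Bool) × Perm (Fin 6) ≃ centralizer ({x} : Set G) := Equiv.ofBijective
    (fun p => ⟨(if p.1.1 then x else 1) * (ι p.2 * if p.1.2 then r else 1), by
      rw [mem_centralizer_singleton_iff]
      apply h.mem_cent
      refine ⟨p.2, ?_⟩
      split_ifs
      · exact Or.inr (Or.inr (Or.inr rfl))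
      · rw [mul_one]; exact Or.inr (Or.inl rfl)
      · rw [one_mul]; exact Or.inr (Or.inr (Or.inl rfl))
      · rw [mul_one, one_mul]; exact Or.inl rfl⟩) (by
    constructor
    · rintro ⟨⟨b, b'⟩, p⟩ ⟨⟨c, c'⟩, q⟩ e
      have h1 : (if b then x else 1) * (ι p * if b' then r else 1) = (if c then x else 1) * (ι q * if c' then r else 1) :=
        congrArg Subtype.val e
      have hfin : b = c → b' = c' → p = q → (((b, b'), p) : (Bool × Bool) × Perm (Fin 6)) = ((c, c'), q) := by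
        rintro rfl rfl rfl; rfl
      cases b <;> cases c <;> cases b' <;> cases c' <;>
        simp only [Bool.false_eq_true, if_false, one_mul, mul_one, if_true] at h1
      · exact hfin rfl rfl (h.inj h1)
      · exact absurd h1 (h.ne_r _ _)
      · exact absurd h1.symm (h.ne_r _ _)
      · exact hfin rfl rfl (h.inj (mul_right_cancel h1))
      · exact absurd h1 (h.ne_x _ _)
      · exact absurd h1 (h.ne_xr _ _)
      · exact absurd h1 (n1 _ _)
      · exact absurd h1 (n2 _ _)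
      · exact absurd h1.symm (h.ne_x _ _)
      · exact absurd h1.symm (n1 _ _)
      · exact absurd h1.symm (h.ne_xr _ _)
      · exact absurd h1.symm (n2 _ _)
      · exact hfin rfl rfl (h.xι_inj h1)
      · exact absurd h1 (n3 _ _)
      · exact absurd h1.symm (n3 _ _)
      · exact hfin rfl rfl (h.inj (mul_right_cancel (mul_left_cancel h1)))
    · rintro ⟨g, hg⟩
      obtain ⟨a, hp | hp | hp | hp⟩ := h.cent g (mem_centralizer_singleton_iff.1 hg)
      · exact ⟨((false, false), a), Subtype.ext (by simp [hp])⟩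
      · exact ⟨((true, false), a), Subtype.ext (by simp [hp])⟩
      · exact ⟨((false, true), a), Subtype.ext (by simp [hp])⟩
      · exact ⟨((true, true), a), Subtype.ext (by simp [hp])⟩)
  rw [← Nat.card_congr e, Nat.card_prod, Nat.card_prod, Nat.card_eq_fintype_card (α := Perm (Fin 6)),
    Fintype.card_perm, Fintype.card_fin]
  simp
  rfl

theorem D_sq {d : G} (hD : D x d) : d * d = 1 := by
  obtain ⟨g, rfl⟩ := hD
  rw [← map_mul, h.xx, map_one]

theorem no_all [Finite G] (H : Four x ι) (a : Perm (Fin 6)) : ¬ D x (ι a) := by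
  intro hD
  have h1 : a * a = 1 := h.one_iff.1 (by rw [map_mul]; exact D_sq h hD)
  have key : ∀ b, b * b = 1 → InV b → Cfsg.Agent.OddHalf.D6.Six.sup a = Cfsg.Agent.OddHalf.D6.Six.sup b → False := by
    intro b hb hV hs
    obtain ⟨s, hs⟩ := isConj_iff.1 (Cfsg.Agent.OddHalf.D6.Six.conj_of_sup h1 hb hs)
    apply no h H hV
    rw [← hs, ← A_ι, D_A]
    exact hD
  rcases Cfsg.Agent.OddHalf.D6.Six.sup_cases h1 with e | e | e | e
  · exact key 1 (one_mul 1) V_one (e.trans rfl)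
  · exact key pf (by decide +kernel) V_pf (e.trans Cfsg.Agent.OddHalf.D6.Six.sup_c1.symm)
  · exact key pz (by decide +kernel) V_z (e.trans Cfsg.Agent.OddHalf.D6.Six.sup_c2.symm)
  · exact key (pz * pf) (by decide +kernel) (V_mul V_z V_pf) (e.trans Cfsg.Agent.OddHalf.D6.Six.sup_c3.symm)

theorem inn_count [Finite G] (H : Four x ι) : {a | D x (x * ι a)}.ncard = 46 := by
  rw [Cfsg.Agent.OddHalf.D6.Six.ncard_class (fun a => D x (x * ι a)), if_pos, if_neg, if_pos, if_neg]
  · show ¬ D x (x * ι (pz * pf))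
    rw [yes h H (V_mul V_z V_pf)]
    decide +kernel
  · exact H.even
  · exact H.nxf
  · rw [map_one, mul_one]; exact D_self x
  · intro p hD
    apply h.one_iff.1
    have h1 := D_sq h hD
    rw [map_mul]
    calc ι p * ι p = (x * x) * (ι p * ι p) := by rw [h.xx, one_mul]
      _ = x * (x * ι p) * ι p := by group
      _ = x * (ι p * x) * ι p := by rw [h.comm]
      _ = x * ι p * (x * ι p) := by group
      _ = 1 := h1
  · intro p q hpq hD
    obtain ⟨s, rfl⟩ := isConj_iff.1 hpq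
    have : A (ι s) (x * ι p) = x * ι (s * p * s⁻¹) := by rw [map_mul, A_ι_x h, A_ι]
    rw [← this, D_A]
    exact hD

theorem out_mem {a : Perm (Fin 6)} (hD : D x (ι a * r)) : a * θ a = 1 := h.sq_one (D_sq h hD)

theorem out_iff {a : Perm (Fin 6)} (ha : a * θ a = 1) : D x (ι a * r) ↔ D x r := by
  obtain ⟨s, hs, rfl⟩ := outer_conj_even a ha
  have : A (ι s) r = ι (s * (θ s)⁻¹) * r := by
    rw [A_def, map_mul, mul_assoc, mul_assoc]
    congr 1
    have h1 := h.cv s⁻¹ (by rw [Perm.sign_inv]; exact hs)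
    rw [mul_inv_eq_iff_eq_mul] at h1
    rw [← map_inv ι s, h1, map_inv]
  rw [← this, D_A]

theorem out_count [Finite G] : {a | D x (ι a * r)}.ncard = 0 ∨ {a | D x (ι a * r)}.ncard = 36 := by
  by_cases hr : D x r
  · right
    have : {a | D x (ι a * r)} = ((Finset.univ.filter fun a : Perm (Fin 6) => a * θ a = 1 : Finset _) : Set _) := by
      ext a
      simp only [Set.mem_ofPred_eq, Finset.coe_filter, Finset.mem_univ, true_and]
      exact ⟨out_mem h, fun e => (out_iff h e).2 hr⟩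
    rw [this, Set.ncard_coe_finset, outer_card]
  · left
    have : {a | D x (ι a * r)} = ∅ := by
      ext a
      simp only [Set.mem_ofPred_eq, Set.mem_empty_iff_false, iff_false]
      intro hD
      exact hr ((out_iff h (out_mem h hD)).1 hD)
    rw [this, Set.ncard_empty]

theorem out_count' [Finite G] :
    {a | D x (x * (ι a * r))}.ncard = 0 ∨ {a | D x (x * (ι a * r))}.ncard = 36 := by
  have : ∀ a, x * (ι a * r) = ι a * (x * r) := by
    intro a
    rw [← mul_assoc, h.comm, mul_assoc]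
  simp only [this]
  exact out_count h.xr

theorem count [Finite G] (H : Four x ι) : ∃ e, {d : G | IsConj x d ∧ d * x = x * d}.ncard = 46 + 36 * e := by
  have h1 : {d : G | IsConj x d ∧ d * x = x * d} = ((fun a => x * ι a) '' {a | D x (x * ι a)} ∪
      (fun a => ι a * r) '' {a | D x (ι a * r)}) ∪ (fun a => x * (ι a * r)) '' {a | D x (x * (ι a * r))} := by
    ext d
    simp only [Set.mem_ofPred_eq, Set.mem_union, Set.mem_image]
    have hDd : IsConj x d ↔ D x d := isConj_iff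
    rw [hDd]
    constructor
    · rintro ⟨hD, hd⟩
      obtain ⟨a, rfl | rfl | rfl | rfl⟩ := h.cent d hd
      · exact absurd hD (no_all h H a)
      · exact Or.inl (Or.inl ⟨a, hD, rfl⟩)
      · exact Or.inl (Or.inr ⟨a, hD, rfl⟩)
      · exact Or.inr ⟨a, hD, rfl⟩
    · rintro ((⟨a, hD, rfl⟩ | ⟨a, hD, rfl⟩) | ⟨a, hD, rfl⟩)
      · exact ⟨hD, h.mem_cent _ ⟨a, Or.inr (Or.inl rfl)⟩⟩
      · exact ⟨hD, h.mem_cent _ ⟨a, Or.inr (Or.inr (Or.inl rfl))⟩⟩
      · exact ⟨hD, h.mem_cent _ ⟨a, Or.inr (Or.inr (Or.inr rfl))⟩⟩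
  rw [h1, Set.ncard_union_eq, Set.ncard_union_eq, Set.ncard_image_of_injective, Set.ncard_image_of_injective,
    Set.ncard_image_of_injective, inn_count h H]
  · rcases out_count h with e | e <;> rcases out_count' h with e' | e' <;> rw [e, e']
    · exact ⟨0, rfl⟩
    · exact ⟨1, rfl⟩
    · exact ⟨1, rfl⟩
    · exact ⟨2, rfl⟩
  · exact fun a b e => h.inj (mul_right_cancel (mul_left_cancel e))
  · exact fun a b e => h.inj (mul_right_cancel e)
  · exact fun a b e => h.xι_inj e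
  · rw [Set.disjoint_left]
    rintro _ ⟨a, -, rfl⟩ ⟨b, -, e⟩
    apply h.ne_xr a b
    have e : ι b * r = x * ι a := e
    rw [e, ← mul_assoc, h.xx, one_mul]
  · rw [Set.disjoint_left]
    rintro _ (⟨a, -, rfl⟩ | ⟨a, -, rfl⟩) ⟨b, -, e⟩
    · exact h.ne_r a b (mul_left_cancel e).symm
    · have e : x * (ι b * r) = ι a * r := e
      rw [← mul_assoc] at e
      exact h.ne_x a b (mul_right_cancel e).symm

/-- **`x^G ∩ E₁ = x V₁` is impossible** -/
theorem false_of [Finite G] (H : Four x ι) (hG : ∀ (m : G →* ℤˣ) (g : G), m g = 1)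
    (hZ : ∀ S : Sylow 2 G, Nat.card (center S) ≤ 2) : False := by
  obtain ⟨F, hF, hc⟩ := exF h H
  have hcard := card_H h H hF hc
  obtain ⟨k, hk⟩ := Cfsg.Agent.OddHalf.D6.Six.Parity.four_dvd hG h.xx
  obtain ⟨e, he⟩ := count h H
  have hcG := Cfsg.Agent.OddHalf.D6.Six.Parity.card_conj x
  rw [hk, he, card_C h] at hcG
  have hzz : (NE x ι ⊓ centralizer {ι pz} ⊓ centralizer {F} : Subgroup G) ≤ centralizer {ι pz} :=
    inf_le_left.trans inf_le_right
  have hFF : (NE x ι ⊓ centralizer {ι pz} ⊓ centralizer {F} : Subgroup G) ≤ centralizer {F} := inf_le_right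
  have hzF : ι pz * F = F * ι pz := by
    rcases hF with rfl | rfl
    · exact zf h
    · rw [← mul_assoc, h.comm', mul_assoc, zf h, mul_assoc]
  have hzH : ι pz ∈ (NE x ι ⊓ centralizer {ι pz} ⊓ centralizer {F} : Subgroup G) := by
    refine ⟨⟨ι_NE h (V_f _ V_z), mem_centralizer_singleton_iff.2 rfl⟩, mem_centralizer_singleton_iff.2 hzF⟩
  have hFH : F ∈ (NE x ι ⊓ centralizer {ι pz} ⊓ centralizer {F} : Subgroup G) := by
    refine ⟨⟨?_, mem_centralizer_singleton_iff.2 hzF.symm⟩, mem_centralizer_singleton_iff.2 rfl⟩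
    rcases hF with rfl | rfl
    · exact ι_NE h rfl
    · exact mul_mem (x_NE h) (ι_NE h rfl)
  generalize (NE x ι ⊓ centralizer {ι pz} ⊓ centralizer {F} : Subgroup G) = K at *
  obtain ⟨Q, hQ⟩ := (IsPGroup.of_card (p := 2) (n := 7) hcard).exists_le_sylow
  have hQK : K = Q := by
    apply Subgroup.eq_of_le_of_card_ge hQ
    obtain ⟨n, hn⟩ := IsPGroup.iff_card.1 Q.isPGroup'
    have h1 : 2 ^ n ∣ Nat.card G := by rw [← hn]; exact Subgroup.card_subgroup_dvd_card _
    have h2 : Nat.card G = 128 * (45 * (23 + 18 * e + 2 * k)) := by rw [hcG]; ring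
    rw [h2] at h1
    have h3 : Nat.Coprime (2 ^ n) (45 * (23 + 18 * e + 2 * k)) := by
      apply Nat.Coprime.pow_left
      rw [Nat.coprime_two_left, Nat.odd_iff]
      omega
    have h4 := Nat.le_of_dvd (by norm_num) (h3.dvd_of_dvd_mul_right h1)
    rw [hcard]
    show Nat.card (Q : Subgroup G) ≤ 128
    rw [hn]; exact h4
  have h1 := hZ Q
  have hzQ : ι pz ∈ (Q : Subgroup G) := by rw [← hQK]; exact hzH
  have hFQ : F ∈ (Q : Subgroup G) := by rw [← hQK]; exact hFH
  have c1 : (⟨ι pz, hzQ⟩ : (Q : Subgroup G)) ∈ center (Q : Subgroup G) := by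
    rw [mem_center_iff]
    rintro ⟨g, hg⟩
    rw [← hQK] at hg
    exact Subtype.ext (mem_centralizer_singleton_iff.1 (hzz hg))
  have c2 : (⟨F, hFQ⟩ : (Q : Subgroup G)) ∈ center (Q : Subgroup G) := by
    rw [mem_center_iff]
    rintro ⟨g, hg⟩
    rw [← hQK] at hg
    exact Subtype.ext (mem_centralizer_singleton_iff.1 (hFF hg))
  have n1 : ι pz ≠ 1 := by
    rw [Ne, h.one_iff]; decide +kernel
  have n2 : F ≠ 1 := by
    rcases hF with rfl | rfl
    · rw [Ne, h.one_iff]; decide +kernel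
    · intro e
      exact ne_mul h pf 1 (e.trans (map_one _).symm)
  have n3 : ι pz ≠ F := by
    rcases hF with rfl | rfl
    · intro e
      have := h.inj e
      revert this; decide +kernel
    · exact h.ne_x _ _
  classical
  have : Fintype (center (Q : Subgroup G)) := Fintype.ofFinite _
  let s : Finset (center (Q : Subgroup G)) := {1, ⟨_, c1⟩, ⟨_, c2⟩}
  have hs : s.card = 3 := by
    rw [Finset.card_eq_three]
    refine ⟨1, ⟨_, c1⟩, ⟨_, c2⟩, ?_, ?_, ?_, rfl⟩
    · intro e; exact n1 (congrArg (fun t : center (Q : Subgroup G) => ((t : (Q : Subgroup G)) : G)) e).symm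
    · intro e; exact n2 (congrArg (fun t : center (Q : Subgroup G) => ((t : (Q : Subgroup G)) : G)) e).symm
    · intro e; exact n3 (congrArg (fun t : center (Q : Subgroup G) => ((t : (Q : Subgroup G)) : G)) e)
  have h5 := Finset.card_le_univ s
  rw [hs, ← Nat.card_eq_fintype_card] at h5
  have h6 : Nat.card (center (Q : Subgroup G)) ≤ 2 := h1
  omega

end

end Cfsg.Agent.OddHalf.D5.SixAut.TwFour

end

-- merged: Cfsg.Agent.OddHalf.D5.SixAut.TwKill
section

/-!
# ODD D5, `n = 6`, (C3b): **the non-abelian variant is impossible** (helper310)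

`AutTw x ι f r`: `f² = 1`, `r f r⁻¹ = x f z`. Exactly one of `f`, `x f` in `x^G`: the product of the eight elements of
`x^G ∩ E₁` is `x`, fixed by `N(E₁)`.
-/

set_option autoImplicit false
set_option linter.unusedSectionVars false

namespace Cfsg.Agent.OddHalf.D5.SixAut.TwKill

open Subgroup Equiv
open EPerm EPerm2 EOne TwE TwOne TwFus
open FusE (A A_def A_mul A_inv A_inv' A_inj A_inv_eq A_eq_inv A_eq_iff A_conj A_ι A_ι_inv NE A_mem mem_NE)
open FusN (D D_A D_of_A D_self even_conj odd_conj VInv)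

variable {G : Type*} [Group G] {x r : G} {ι : Perm (Fin 6) →* G}

theorem prod_list (h : AutE x ι r) (e : Perm (Fin 6) → ℕ) (l : List (Perm (Fin 6))) :
    (l.map fun a => x ^ e a * ι a).prod = x ^ (l.map e).sum * ι l.prod := by
  induction l with
  | nil => simp
  | cons a l ih =>
    have hc : ι a * x ^ (l.map e).sum = x ^ (l.map e).sum * ι a :=
      ((show Commute (ι a) x from h.comm' a).pow_right _).eq
    rw [List.map_cons, List.prod_cons, ih, List.map_cons, List.sum_cons, List.prod_cons, pow_add, map_mul]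
    calc x ^ e a * ι a * (x ^ (l.map e).sum * ι l.prod) = x ^ e a * (ι a * x ^ (l.map e).sum) * ι l.prod := by group
      _ = x ^ e a * x ^ (l.map e).sum * (ι a * ι l.prod) := by rw [hc]; group

theorem prod_vL : vL.prod = 1 := by decide +kernel

/-- the product argument -/
theorem prod_kill [Finite G] (h : AutE x ι r) (hs : D x (x * ι pz)) (e : Perm (Fin 6) → ℕ)
    (he : ∀ a, InV a → (e a = 0 ∨ e a = 1))
    (hy : ∀ a, InV a → ∀ g, (g = ι a ∨ g = x * ι a) → (D x g ↔ g = x ^ e a * ι a))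
    (hodd : x ^ (vL.map e).sum = x) : False := by
  have val : ∀ a, InV a → (x ^ e a * ι a = ι a ∨ x ^ e a * ι a = x * ι a) := by
    intro a ha
    rcases he a ha with e' | e' <;> rw [e']
    · left; rw [pow_zero, one_mul]
    · right; rw [pow_one]
  have memL : ∀ g, g ∈ (vL.map fun a => x ^ e a * ι a) ↔ g ∈ E1 x ι ∧ D x g := by
    intro g
    rw [List.mem_map]
    constructor
    · rintro ⟨a, ha, rfl⟩
      have ha := mem_vL.1 ha
      refine ⟨?_, (hy a ha _ (val a ha)).2 rfl⟩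
      rcases val a ha with e' | e' <;> rw [e']
      · exact AutE'.mem h ha
      · exact AutE'.mem' h ha
    · rintro ⟨hg, hD⟩
      obtain ⟨a, ha, e'⟩ := AutE'.form h hg
      exact ⟨a, mem_vL.2 ha, ((hy a ha g e').1 hD).symm⟩
  have nod : (vL.map fun a => x ^ e a * ι a).Nodup := by
    apply List.Nodup.map_on _ vL_nodup
    intro a ha b hb hab
    rcases val a (mem_vL.1 ha) with e1 | e1 <;> rcases val b (mem_vL.1 hb) with e2 | e2 <;> rw [e1, e2] at hab
    · exact h.inj hab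
    · exact absurd hab (h.ne_x _ _)
    · exact absurd hab.symm (h.ne_x _ _)
    · exact h.xι_inj hab
  obtain ⟨n, hn, hnx⟩ := fus' h (AutE'.mem' h V_z) hs
  have perm : ((vL.map fun a => x ^ e a * ι a).map (A n)).Perm (vL.map fun a => x ^ e a * ι a) := by
    rw [List.perm_ext_iff_of_nodup (nod.map (fun a b => A_inj n)) nod]
    intro g
    rw [memL, List.mem_map]
    constructor
    · rintro ⟨k, hk, rfl⟩
      obtain ⟨h1, h2⟩ := (memL k).1 hk
      exact ⟨A_mem hn h1, (D_A n).2 h2⟩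
    · rintro ⟨h1, h2⟩
      refine ⟨A n⁻¹ g, (memL _).2 ⟨A_mem (inv_mem hn) h1, (D_A n⁻¹).2 h2⟩, A_inv' n g⟩
  have hc : ((vL.map fun a => x ^ e a * ι a).map (A n)).Pairwise Commute := by
    rw [List.pairwise_map]
    apply List.Pairwise.imp_of_mem _ nod
    intro a b ha hb _
    exact AutE'.comm h (A_mem hn ((memL a).1 ha).1) (A_mem hn ((memL b).1 hb).1)
  have h1 := perm.prod_eq' hc
  rw [← map_list_prod, prod_list h, prod_vL, map_one, mul_one, hodd, hnx] at h1
  have h2 : ι pz = 1 := mul_eq_left.1 h1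
  rw [h.one_iff] at h2
  revert h2; decide +kernel

theorem sum1 : (vL.map fun a => if a = pf then 0 else 1).sum = 7 := by decide +kernel
theorem sum2 : (vL.map fun a => if Perm.sign a = 1 ∨ a = pf then 1 else 0).sum = 5 := by decide +kernel

/-- one of `f`, `x f` in `x^G`, with `r f r⁻¹ = x f z` -/
theorem one_of [Finite G] (h : AutE x ι r) (hr : r * ι pf * r⁻¹ = x * ι (pf * pz)) (hs : D x (x * ι pz))
    (nxz : ∀ g, A g x ≠ ι pz) (hne : ¬ (D x (ι pf) ↔ D x (x * ι pf))) : False := by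
  have hx : A r x = x := A_eq_iff.2 h.rx
  have hodd : ∀ a, InV a → Perm.sign a ≠ 1 → a ≠ pf →
      (D x (ι a) ↔ D x (x * ι pf)) ∧ (D x (x * ι a) ↔ D x (ι pf)) := by
    intro a ha hs h1
    obtain ⟨s, -, hs⟩ := odd_conj a ha hs h1
    have k1 : A (ι s * r) x = x := by rw [A_mul, hx, A_ι_x h]
    have k2 : A (ι s * r) (ι pf) = x * ι a := by rw [A_mul, A_def r, hr, map_mul, A_ι_x h, A_ι, hs]
    have k3 : A (ι s * r) (x * ι pf) = ι a := by rw [map_mul, k1, k2, ← mul_assoc, h.xx, one_mul]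
    exact ⟨D_of_A k3, D_of_A k2⟩
  have x2 : ∀ k : G, x * (x * k) = k := fun k => by rw [← mul_assoc, h.xx, one_mul]
  have sq2 : x ^ 2 = 1 := by rw [pow_two, h.xx]
  have p7 : x ^ 7 = x := by
    rw [show 7 = 2 * 3 + 1 from rfl, pow_succ, pow_mul, sq2, one_pow, one_mul]
  have p5 : x ^ 5 = x := by
    rw [show 5 = 2 * 2 + 1 from rfl, pow_succ, pow_mul, sq2, one_pow, one_mul]
  have ne1 : ∀ a b, ι a ≠ x * ι b := h.ne_x
  by_cases h1 : D x (ι pf)
  · have h2 : ¬ D x (x * ι pf) := fun h2 => hne ⟨fun _ => h2, fun _ => h1⟩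
    apply prod_kill h hs (fun a => if a = pf then 0 else 1) (fun a _ => by split_ifs <;> simp)
    · intro a ha g hg
      by_cases ha1 : a = pf
      · subst ha1
        rw [if_pos rfl, pow_zero, one_mul]
        rcases hg with rfl | rfl
        · exact ⟨fun _ => rfl, fun _ => h1⟩
        · exact ⟨fun hD => absurd hD h2, fun e => absurd e.symm (ne1 _ _)⟩
      · rw [if_neg ha1, pow_one]
        have k1 : ¬ D x (ι a) := by
          by_cases hsg : Perm.sign a = 1
          · exact not_D_even h nxz ha hsg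
          · rw [(hodd a ha hsg ha1).1]; exact h2
        have k2 : D x (x * ι a) := by
          by_cases hsg : Perm.sign a = 1
          · exact D_even h hs ha hsg
          · rw [(hodd a ha hsg ha1).2]; exact h1
        rcases hg with rfl | rfl
        · exact ⟨fun hD => absurd hD k1, fun e => absurd e (ne1 _ _)⟩
        · exact ⟨fun _ => rfl, fun _ => k2⟩
    · rw [sum1]; exact p7
  · have h2 : D x (x * ι pf) := by
      by_contra h2
      exact hne ⟨fun e => absurd e h1, fun e => absurd e h2⟩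
    apply prod_kill h hs (fun a => if Perm.sign a = 1 ∨ a = pf then 1 else 0)
      (fun a _ => by split_ifs <;> simp)
    · intro a ha g hg
      by_cases ha1 : Perm.sign a = 1 ∨ a = pf
      · rw [if_pos ha1, pow_one]
        have k1 : ¬ D x (ι a) := by
          rcases ha1 with hsg | rfl
          · exact not_D_even h nxz ha hsg
          · exact h1
        have k2 : D x (x * ι a) := by
          rcases ha1 with hsg | rfl
          · exact D_even h hs ha hsg
          · exact h2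
        rcases hg with rfl | rfl
        · exact ⟨fun hD => absurd hD k1, fun e => absurd e (ne1 _ _)⟩
        · exact ⟨fun _ => rfl, fun _ => k2⟩
      · rw [if_neg ha1, pow_zero, one_mul]
        push Not at ha1
        obtain ⟨k1, k2⟩ := hodd a ha ha1.1 ha1.2
        rcases hg with rfl | rfl
        · exact ⟨fun _ => rfl, fun _ => k1.2 h2⟩
        · exact ⟨fun hD => absurd (k2.1 hD) h1, fun e => absurd e.symm (ne1 _ _)⟩
    · rw [sum2]; exact p5

/-- **the non-abelian variant is impossible** -/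
theorem false_of [Finite G] {f : G} {ι : A6 →* G} (h : AutTw x ι f r) (hG : ∀ (m : G →* ℤˣ) (g : G), m g = 1)
    (hs : ∃ s, s * x * s⁻¹ = x * ι qz) (nxz : ∀ g, g * x * g⁻¹ ≠ ι qz)
    (hZ : ∀ S : Sylow 2 G, Nat.card (center S) ≤ 2) : False := by
  have E := of_tw h
  have hr := of_tw_f h
  rw [← map_mul] at hr
  have hz : h.ext h.ff1 pz = ι qz := h.ext_even h.ff1 qz
  have hs' : D x (x * h.ext h.ff1 pz) := by rw [hz]; exact hs
  have nxz' : ∀ g, A g x ≠ h.ext h.ff1 pz := by rw [hz]; exact nxz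
  by_cases hne : D x (h.ext h.ff1 pf) ↔ D x (x * h.ext h.ff1 pf)
  · by_cases h1 : D x (h.ext h.ff1 pf)
    · exact twelve E hs' nxz' h1 (hne.1 h1)
    · exact TwFour.false_of E ⟨hs', nxz', h1, fun e => h1 (hne.2 e)⟩ hG hZ
  · exact one_of E hr hs' nxz' hne

end Cfsg.Agent.OddHalf.D5.SixAut.TwKill

end

-- merged: Cfsg.Agent.OddHalf.D5.SixAut.FinalOf
section

/-!
# ODD D5, `n = 6`, `C_G(x)/⟨x⟩ = Aut(A_6)`: the hypotheses of the symplectic case (helper383)
-/

set_option autoImplicit false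

namespace Cfsg.Agent.OddHalf.D5.SixAut.C3b

open Subgroup Equiv Cfsg

universe u

variable {G : Type u} [Group G] {x f r : G} {ι : A6 →* G}

/-- `SymT` and `SymHyp` hold -/
theorem hyps (C : Iface.Ctx G) (h : AutGen x ι f r)
    (hfit : IsPGroup 2 ↥(generalizedFittingSubgroup ↥(centralizer ({ι qz} : Set G)))) :
    SymT x (ι qz) ∧ SymHyp (ι qz) := by
  have := C.fin
  have := C.simple
  have hna : ¬ ∀ a b : G, a * b = b * a := fun e => C.na ⟨⟨e⟩⟩
  have hc := comm_top hna
  have htw : AutTw x ι f r → False := fun hT => TwKill.false_of hT (fun m g => hom_one hc m g) (h.exists_s C.sect5)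
    (h.nxz C.sect5) (h.card_center_le C.sect5)
  exact ⟨h.symT, hfit, fun A hA hel => key hna h C.sect5 C.bal htw A hA hel⟩

/-- the row `AutRow` from the symplectic case -/
theorem autRow_of (hS : ∀ (G : Type u) [Group G], Iface.Ctx G → ∀ x z : G, SymT x z → SymHyp z → False) :
    AutRow.{u} := by
  intro G _ x ι f r h
  have := h.ctx.fin
  obtain ⟨h1, h2⟩ := hyps h.ctx h.toAutGen (h.toAutGen.fit h.ctx.sect5 h.world)
  exact hS G h.ctx x (ι qz) h1 h2

end Cfsg.Agent.OddHalf.D5.SixAut.C3b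

end
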