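import Cfsg.Agent.OddHalf.D5.SixAut.Defs2
import Cfsg.Agent.OddHalf.D5.SixAut.EPerm2
import Cfsg.Agent.OddHalf.D5.SixAut.EOne

-- merged: Cfsg.Agent.OddHalf.D5.SixAut.TwE
section

/-!
# ODD D5, `n = 6`, (C3b), the non-abelian variant: the weak structure `AutE` (helper310)

`AutE x ι r`: `C(x) = ⟨x⟩ × ι(S_6)` extended by `r`, `r ι(a) r⁻¹ = ι(θ a)` for even `a`, and up to a factor `x` for odd
`a`. Both `AutSpl` and `AutTw` give it.
-/

set_option autoImplicit false

namespace Cfsg.Agent.OddHalf.D5.SixAut.TwE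

open Equiv EPerm2

variable {G : Type*} [Group G]

structure AutE (x : G) (ι : Perm (Fin 6) →* G) (r : G) : Prop where
  xx : x * x = 1
  x1 : x ≠ 1
  inj : Function.Injective ι
  comm : ∀ a, x * ι a = ι a * x
  ne : ∀ a, ι a ≠ x
  rx : r * x = x * r
  rr : r * r = 1 ∨ r * r = x
  cv : ∀ a, Perm.sign a = 1 → r * ι a * r⁻¹ = ι (θ a)
  cw : ∀ a, r * ι a * r⁻¹ = ι (θ a) ∨ r * ι a * r⁻¹ = x * ι (θ a)
  cent : ∀ g, g * x = x * g → ∃ a, g = ι a ∨ g = x * ι a ∨ g = ι a * r ∨ g = x * (ι a * r)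

namespace AutE

variable {x r : G} {ι : Perm (Fin 6) →* G} (h : AutE x ι r)
include h

theorem comm' (a : Perm (Fin 6)) : ι a * x = x * ι a := (h.comm a).symm

theorem x_inv : x⁻¹ = x := inv_eq_of_mul_eq_one_left h.xx

theorem one_iff {a : Perm (Fin 6)} : ι a = 1 ↔ a = 1 :=
  ⟨fun e => h.inj (e.trans (map_one ι).symm), fun e => by rw [e, map_one]⟩

theorem ne_x (a b : Perm (Fin 6)) : ι a ≠ x * ι b := by
  intro e
  apply h.ne (a * b⁻¹)
  rw [map_mul, map_inv, e, mul_assoc, mul_inv_cancel, mul_one]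

theorem r_notin (a : Perm (Fin 6)) : r ≠ ι a := by
  intro e
  obtain ⟨b, hb⟩ := θ_ne_conj a
  have h1 : r * ι b * r⁻¹ = ι (a * b * a⁻¹) := by rw [e, map_mul, map_mul, map_inv]
  rcases h.cw b with e' | e'
  · exact hb (h.inj (e'.symm.trans h1))
  · exact h.ne_x _ _ (h1.symm.trans e')

theorem r_notin' (a : Perm (Fin 6)) : r ≠ x * ι a := by
  intro e
  obtain ⟨b, hb⟩ := θ_ne_conj a
  have h1 : r * ι b * r⁻¹ = ι (a * b * a⁻¹) := by
    rw [e, map_mul, map_mul, map_inv]
    have h1 := h.comm (a * b * a⁻¹)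
    rw [map_mul, map_mul, map_inv] at h1
    calc x * ι a * ι b * (x * ι a)⁻¹ = (x * (ι a * ι b * (ι a)⁻¹)) * x⁻¹ := by group
      _ = ι a * ι b * (ι a)⁻¹ := by rw [h1]; group
  rcases h.cw b with e' | e'
  · exact hb (h.inj (e'.symm.trans h1))
  · exact h.ne_x _ _ (h1.symm.trans e')

theorem ne_r (a b : Perm (Fin 6)) : ι a ≠ ι b * r := by
  intro e
  apply h.r_notin (b⁻¹ * a)
  rw [map_mul, map_inv, e, inv_mul_cancel_left]

theorem ne_xr (a b : Perm (Fin 6)) : ι a ≠ x * (ι b * r) := by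
  intro e
  apply h.r_notin' (b⁻¹ * a)
  rw [map_mul, map_inv, e]
  calc r = (x * x) * r := by rw [h.xx, one_mul]
    _ = x * (ι b)⁻¹ * (ι b * x) * r := by group
    _ = x * (ι b)⁻¹ * (x * ι b) * r := by rw [h.comm']
    _ = x * ((ι b)⁻¹ * (x * (ι b * r))) := by group

theorem xι_inj {a b : Perm (Fin 6)} (e : x * ι a = x * ι b) : a = b := h.inj (mul_left_cancel e)

theorem comm_ι {a b : Perm (Fin 6)} : ι a * ι b = ι b * ι a ↔ a * b = b * a := by
  rw [← map_mul, ← map_mul]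
  exact ⟨fun e => h.inj e, fun e => by rw [e]⟩

theorem comm_r {a b : Perm (Fin 6)} (e : (ι a * r) * ι b = ι b * (ι a * r)) : a * θ b = b * a := by
  have h1 : ι a * (r * ι b * r⁻¹) = ι (b * a) := by
    calc ι a * (r * ι b * r⁻¹) = (ι a * r) * ι b * r⁻¹ := by group
      _ = ι b * (ι a * r) * r⁻¹ := by rw [e]
      _ = ι (b * a) := by rw [map_mul]; group
  rcases h.cw b with e' | e'
  · rw [e', ← map_mul] at h1
    exact h.inj h1
  · exfalso
    rw [e', ← mul_assoc, h.comm', mul_assoc, ← map_mul] at h1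
    exact h.ne_x _ _ h1.symm

/-- involutions outside `⟨x⟩ × ι(S₆)` -/
theorem sq_one {a : Perm (Fin 6)} (e : (ι a * r) * (ι a * r) = 1) : a * θ a = 1 := by
  have h1 : ι a * (r * ι a * r⁻¹) * (r * r) = 1 := by
    rw [← e]; group
  have h2 : ι (a * θ a) = 1 ∨ ι (a * θ a) = x := by
    rcases h.cw a with e' | e' <;> rcases h.rr with e'' | e'' <;> rw [e', e''] at h1
    · left; rw [map_mul]; simpa using h1
    · right; rw [map_mul, eq_inv_of_mul_eq_one_left h1, h.x_inv]
    · right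
      rw [mul_one, ← mul_assoc, h.comm', mul_assoc, ← map_mul] at h1
      rw [eq_inv_of_mul_eq_one_right h1, h.x_inv]
    · left
      rw [← mul_assoc, h.comm', mul_assoc, mul_assoc, ← mul_assoc (ι a), ← map_mul, h.comm', ← mul_assoc, h.xx,
        one_mul] at h1
      exact h1
  rcases h2 with e' | e'
  · exact h.one_iff.1 e'
  · exact absurd e' (h.ne _)

/-- everything in `C(x)` -/
theorem mem_cent (g : G) (hg : ∃ a, g = ι a ∨ g = x * ι a ∨ g = ι a * r ∨ g = x * (ι a * r)) : g * x = x * g := by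
  obtain ⟨a, rfl | rfl | rfl | rfl⟩ := hg
  · exact h.comm' a
  · rw [mul_assoc, h.comm']
  · rw [mul_assoc, h.rx, ← mul_assoc, h.comm', mul_assoc]
  · calc x * (ι a * r) * x = x * (ι a * (r * x)) := by group
      _ = x * (ι a * x * r) := by rw [h.rx]; group
      _ = x * (x * (ι a * r)) := by rw [h.comm']; group

/-- replace `r` by `x r` -/
theorem xr : AutE x ι (x * r) := by
  have hc : ∀ g, x * r * g * (x * r)⁻¹ = x * (r * g * r⁻¹) * x⁻¹ := by intro g; group
  refine ⟨h.xx, h.x1, h.inj, h.comm, h.ne, by rw [mul_assoc, h.rx], ?_, ?_, ?_, ?_⟩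
  · have e : x * r * (x * r) = r * r := by
      calc x * r * (x * r) = x * (r * x) * r := by group
        _ = (x * x) * (r * r) := by rw [h.rx]; group
        _ = r * r := by rw [h.xx, one_mul]
    rw [e]; exact h.rr
  · intro a ha
    rw [hc, h.cv a ha, h.comm, mul_inv_cancel_right]
  · intro a
    rcases h.cw a with e | e
    · left; rw [hc, e, h.comm, mul_inv_cancel_right]
    · right; rw [hc, e, h.comm (θ a), ← mul_assoc, h.comm, mul_inv_cancel_right]
  · intro g hg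
    obtain ⟨a, e⟩ := h.cent g hg
    have h1 : ∀ k : G, x * (x * k) = k := fun k => by rw [← mul_assoc, h.xx, one_mul]
    have h2 : ι a * (x * r) = x * (ι a * r) := by rw [← mul_assoc, h.comm', mul_assoc]
    refine ⟨a, ?_⟩
    rw [h2, h1]
    tauto

end AutE

/-! ### from `AutTw` -/

open AutGen in
theorem of_tw {x f r : G} {ι : A6 →* G} (h : AutTw x ι f r) : AutE x (h.ext h.ff1) r := by
  have hff := h.ff1
  have sgn : ∀ {σ : Perm (Fin 6)}, ¬ Perm.sign σ = 1 → Perm.sign (σ * pf) = 1 := by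
    intro σ hs
    rcases Int.units_eq_one_or (Perm.sign σ) with h1 | h1
    · exact absurd h1 hs
    · rw [Perm.sign_mul, h1, sign_pf]; decide
  have hA : ∀ a : A6, r * h.ext hff a * r⁻¹ = h.ext hff (θ a) := by
    intro a
    rw [h.ext_even, h.cr, h.ext_even' hff (by rw [sign_θ]; exact mem_A6.1 a.2)]
    rfl
  have hF : r * h.ext hff pf * r⁻¹ = x * h.ext hff (θ pf) := by
    rw [θ_f, map_mul, h.ext_f, h.rfx, h.ext_even' hff (mem_A6.1 pz_mem)]
    rfl
  refine ⟨h.xx, h.x1, ?_, ?_, ?_, h.rx, h.rr, ?_, ?_, ?_⟩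
  · rw [injective_iff_map_eq_one]
    intro σ e
    by_cases hs : Perm.sign σ = 1
    · rw [h.ext_even' hff hs] at e
      have := h.inj (e.trans (map_one ι).symm)
      exact congrArg Subtype.val this
    · exfalso
      have h1 := sgn hs
      have h2 : h.ext hff (σ * pf) = f := by rw [map_mul, e, one_mul, h.ext_f]
      rw [h.ext_even' hff h1] at h2
      exact h.f_ne _ h2.symm
  · intro σ
    by_cases hs : Perm.sign σ = 1
    · rw [h.ext_even' hff hs, h.comm]
    · have h1 := sgn hs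
      have pp : pf * pf = 1 := by decide +kernel
      have h2 : h.ext hff σ = h.ext hff (σ * pf) * f := by
        rw [map_mul, h.ext_f, mul_assoc, hff, mul_one]
      rw [h2, h.ext_even' hff h1, ← mul_assoc, h.comm, mul_assoc, ← h.fx, mul_assoc]
  · intro σ e
    by_cases hs : Perm.sign σ = 1
    · rw [h.ext_even' hff hs] at e
      exact h.ne _ e
    · have h1 := sgn hs
      have h2 : h.ext hff (σ * pf) = x * f := by rw [map_mul, e, h.ext_f]
      rw [h.ext_even' hff h1] at h2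
      apply h.xf_ne ⟨σ * pf, mem_A6.2 h1⟩
      rw [h2, ← mul_assoc, h.xx, one_mul]
  · intro σ hs
    exact hA ⟨σ, mem_A6.2 hs⟩
  · intro σ
    by_cases hs : Perm.sign σ = 1
    · exact Or.inl (hA ⟨σ, mem_A6.2 hs⟩)
    · right
      have h1 := sgn hs
      have pp : pf * pf = 1 := by decide +kernel
      have h2 : σ = (σ * pf) * pf := by rw [mul_assoc, pp, mul_one]
      have h3 := hA ⟨σ * pf, mem_A6.2 h1⟩
      have h3' : r * h.ext hff (σ * pf) * r⁻¹ = h.ext hff (θ (σ * pf)) := h3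
      have hx : ∀ a : A6, x * h.ext hff a = h.ext hff a * x := by
        intro a; rw [h.ext_even, h.comm]
      have hx' : x * h.ext hff (θ (σ * pf)) = h.ext hff (θ (σ * pf)) * x :=
        hx ⟨θ (σ * pf), mem_A6.2 (by rw [sign_θ]; exact h1)⟩
      calc r * h.ext hff σ * r⁻¹ = r * h.ext hff ((σ * pf) * pf) * r⁻¹ := by rw [← h2]
        _ = (r * h.ext hff (σ * pf) * r⁻¹) * (r * h.ext hff pf * r⁻¹) := by rw [map_mul]; group
        _ = x * h.ext hff (θ ((σ * pf) * pf)) := by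
            rw [h3', hF, ← mul_assoc, ← hx', mul_assoc, ← map_mul, ← map_mul]
        _ = x * h.ext hff (θ σ) := by rw [← h2]
  · intro g hg
    obtain ⟨a, u, v, hu, hv, e⟩ := h.cent g hg
    rcases hu with rfl | rfl
    · refine ⟨a, ?_⟩
      rw [h.ext_even]
      rcases hv with rfl | rfl
      · simp only [mul_one] at e
        rcases e with e | e
        · exact Or.inl e
        · exact Or.inr (Or.inl e)
      · simp only [mul_one] at e
        rcases e with e | e
        · exact Or.inr (Or.inr (Or.inl e))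
        · exact Or.inr (Or.inr (Or.inr e))
    · refine ⟨a * pf, ?_⟩
      rw [h.ext_mul_f]
      rcases hv with rfl | rfl
      · simp only [mul_one] at e
        rcases e with e | e
        · exact Or.inl e
        · exact Or.inr (Or.inl e)
      · rcases e with e | e
        · exact Or.inr (Or.inr (Or.inl e))
        · exact Or.inr (Or.inr (Or.inr e))

/-- the value at `f` -/
theorem of_tw_f {x f r : G} {ι : A6 →* G} (h : AutTw x ι f r) :
    r * h.ext h.ff1 pf * r⁻¹ = x * (h.ext h.ff1 pf * h.ext h.ff1 pz) := by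
  rw [h.ext_f, h.rfx, h.ext_even' h.ff1 (mem_A6.1 pz_mem)]
  rfl

/-! ### the outer involutions, again -/

theorem exists_fix : ∃ t : Perm (Fin 6), θ t = t ∧ Perm.sign t ≠ 1 := by decide +kernel

theorem outer_conj_even (a : Perm (Fin 6)) (h : a * θ a = 1) : ∃ s, Perm.sign s = 1 ∧ a = s * (θ s)⁻¹ := by
  obtain ⟨s, hs⟩ := outer_conj a h
  by_cases h1 : Perm.sign s = 1
  · exact ⟨s, h1, hs⟩
  · obtain ⟨t, ht, h2⟩ := exists_fix
    refine ⟨s * t, ?_, ?_⟩
    · rw [Perm.sign_mul, (Int.units_eq_one_or _).resolve_left h1, (Int.units_eq_one_or _).resolve_left h2]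
      decide
    · rw [map_mul, ht, mul_inv_rev, mul_assoc, mul_inv_cancel_left]
      exact hs

end Cfsg.Agent.OddHalf.D5.SixAut.TwE

end

-- merged: Cfsg.Agent.OddHalf.D5.SixAut.TwOne
section

/-!
# ODD D5, `n = 6`, (C3b), the non-abelian variant: `E₁` (helper310)

The statements of `EOne`, `FusE`, for the weak structure `AutE`.
-/

set_option autoImplicit false
set_option linter.unusedSectionVars false

namespace Cfsg.Agent.OddHalf.D5.SixAut.TwOne

open Subgroup Equiv
open EPerm EPerm2 EOne TwE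

variable {G : Type*} [Group G] {x r : G} {ι : Perm (Fin 6) →* G}

namespace AutE'

variable (h : AutE x ι r)
include h

theorem cx {g k : G} (hk : k * x = x * k) : (x * g) * k = k * (x * g) ↔ g * k = k * g := by
  rw [← mul_assoc k, hk, mul_assoc, mul_assoc]
  exact ⟨fun e => mul_left_cancel e, fun e => by rw [e]⟩

theorem form {g : G} (hg : g ∈ E1 x ι) : ∃ a, InV a ∧ (g = ι a ∨ g = x * ι a) := by
  obtain ⟨hx, hz, hv⟩ := hg
  obtain ⟨a, e⟩ := h.cent g hx
  rcases e with rfl | rfl | rfl | rfl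
  · exact ⟨a, ⟨h.comm_ι.1 hz, h.comm_ι.1 hv⟩, Or.inl rfl⟩
  · exact ⟨a, ⟨h.comm_ι.1 ((cx h (h.comm' _)).1 hz), h.comm_ι.1 ((cx h (h.comm' _)).1 hv)⟩, Or.inr rfl⟩
  · exfalso
    have h1 := h.comm_r hz
    have h2 := h.comm_r hv
    rw [θ_z] at h1
    rw [θ_v1] at h2
    exact no_r a h1 h2
  · exfalso
    have h1 := h.comm_r ((cx h (h.comm' _)).1 hz)
    have h2 := h.comm_r ((cx h (h.comm' _)).1 hv)
    rw [θ_z] at h1
    rw [θ_v1] at h2
    exact no_r a h1 h2

theorem mem {a : Perm (Fin 6)} (ha : InV a) : ι a ∈ E1 x ι :=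
  ⟨h.comm' a, h.comm_ι.2 ha.1, h.comm_ι.2 ha.2⟩

theorem x_mem : x ∈ E1 x ι := ⟨rfl, h.comm _, h.comm _⟩

theorem mem' {a : Perm (Fin 6)} (ha : InV a) : x * ι a ∈ E1 x ι := (E1 x ι).mul_mem (x_mem h) (mem h ha)

theorem mem_iff {a : Perm (Fin 6)} : ι a ∈ E1 x ι ↔ InV a :=
  ⟨fun e => ⟨h.comm_ι.1 e.2.1, h.comm_ι.1 e.2.2⟩, mem h⟩

theorem mem_iff' {a : Perm (Fin 6)} : x * ι a ∈ E1 x ι ↔ InV a :=
  ⟨fun e => (mem_iff h).1 (by
    have := (E1 x ι).mul_mem (x_mem h) e
    rwa [← mul_assoc, h.xx, one_mul] at this), mem' h⟩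

theorem sq {g : G} (hg : g ∈ E1 x ι) : g * g = 1 := by
  obtain ⟨a, ha, rfl | rfl⟩ := form h hg
  · rw [← map_mul, V_sq a ha, map_one]
  · have h1 := h.comm' a
    calc x * ι a * (x * ι a) = x * (ι a * x) * ι a := by group
      _ = (x * x) * ι (a * a) := by rw [h1, map_mul]; group
      _ = 1 := by rw [h.xx, V_sq a ha, map_one, one_mul]

theorem inv {g : G} (hg : g ∈ E1 x ι) : g⁻¹ = g := inv_eq_of_mul_eq_one_left (sq h hg)

theorem comm {g k : G} (hg : g ∈ E1 x ι) (hk : k ∈ E1 x ι) : g * k = k * g := by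
  have h1 := sq h ((E1 x ι).mul_mem hg hk)
  have h2 := sq h hg
  have h3 := sq h hk
  calc g * k = g * 1 * k := by rw [mul_one]
    _ = g * (g * k * (g * k)) * k := by rw [h1]
    _ = (g * g) * k * g * (k * k) := by group
    _ = k * g := by rw [h2, h3, one_mul, mul_one]

theorem card : Nat.card (E1 x ι) = 16 := by
  have e : Bool × {a // InV a} ≃ E1 x ι := Equiv.ofBijective
    (fun p => ⟨(if p.1 then x else 1) * ι p.2.1, by
      split_ifs
      · exact mem' h p.2.2
      · rw [one_mul]; exact mem h p.2.2⟩) (by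
    constructor
    · rintro ⟨b, p, hp⟩ ⟨c, q, hq⟩ e
      have h1 : (if b then x else 1) * ι p = (if c then x else 1) * ι q := congrArg Subtype.val e
      cases b <;> cases c
      · simp only [Bool.false_eq_true, if_false, one_mul] at h1
        have := h.inj h1
        subst this; rfl
      · simp only [Bool.false_eq_true, if_false, one_mul, if_true] at h1
        exact absurd h1 (h.ne_x p q)
      · simp only [Bool.false_eq_true, if_false, one_mul, if_true] at h1
        exact absurd h1.symm (h.ne_x q p)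
      · simp only [if_true] at h1
        have := h.xι_inj h1
        subst this; rfl
    · rintro ⟨g, hg⟩
      obtain ⟨a, ha, hp | hp⟩ := form h hg
      · exact ⟨(false, ⟨a, ha⟩), Subtype.ext (by simp [hp])⟩
      · exact ⟨(true, ⟨a, ha⟩), Subtype.ext (by simp [hp])⟩)
  rw [← Nat.card_congr e, Nat.card_prod]
  have h2 : Nat.card {a // InV a} = 8 := by
    rw [Nat.card_eq_fintype_card, Fintype.card_subtype, V_card]
  rw [h2]
  simp

/-! ### the `E₁₆` containing `x` -/

theorem conj_E [Finite G] {F : Subgroup G} (hxF : x ∈ F) (hF : ∀ g ∈ F, g * g = 1) (hcard : Nat.card F = 16) :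
    ∃ c, c * x = x * c ∧ ∀ g ∈ F, c * g * c⁻¹ ∈ E1 x ι := by
  have hcomm : ∀ g ∈ F, ∀ k ∈ F, g * k = k * g := by
    intro g hg k hk
    have h1 := hF _ (F.mul_mem hg hk)
    have h2 := hF g hg
    have h3 := hF k hk
    calc g * k = g * 1 * k := by rw [mul_one]
      _ = g * (g * k * (g * k)) * k := by rw [h1]
      _ = (g * g) * k * g * (k * k) := by group
      _ = k * g := by rw [h2, h3, one_mul, mul_one]
  have hxι : ∀ {g : G}, x * g ∈ F → g ∈ F := by
    intro g hg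
    have := F.mul_mem hxF hg
    rwa [← mul_assoc, h.xx, one_mul] at this
  obtain ⟨K, hK⟩ : ∃ K : Subgroup (Perm (Fin 6)), K = F.comap ι := ⟨_, rfl⟩
  have hKm : ∀ a, a ∈ K ↔ ι a ∈ F := by intro a; rw [hK]; exact Iff.rfl
  have hK2 : ∀ a ∈ K, a * a = 1 := by
    intro a ha
    have := hF _ ((hKm a).1 ha)
    rw [← map_mul] at this
    exact h.one_iff.1 this
  have hKc : ∀ a ∈ K, ∀ b ∈ K, a * b = b * a := fun a ha b hb =>
    h.comm_ι.1 (hcomm _ ((hKm a).1 ha) _ ((hKm b).1 hb))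
  -- no element outside `⟨x⟩ × ι(S₆)`
  have hnr : ∀ a, ι a * r ∉ F := by
    intro a ha
    obtain ⟨s, hs⟩ := outer_conj a (h.sq_one (hF _ ha))
    have hfix : ∀ b ∈ K, θ (s⁻¹ * b * s) = s⁻¹ * b * s := by
      intro b hb
      have h2 := h.comm_r (hcomm _ ha _ ((hKm b).1 hb))
      rw [map_mul, map_mul, map_inv]
      rw [hs] at h2
      calc (θ s)⁻¹ * θ b * θ s = s⁻¹ * (s * (θ s)⁻¹ * θ b) * θ s := by group
        _ = s⁻¹ * (b * (s * (θ s)⁻¹)) * θ s := by rw [h2]
        _ = s⁻¹ * b * s := by group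
    have hK2' : Nat.card K ≤ 2 := by
      by_contra hc
      push Not at hc
      obtain ⟨b, hb, b', hb', n1, n2, hne⟩ := two_of_card K hc
      apply hne
      have e1 : ∀ b ∈ K, b ≠ 1 → s⁻¹ * b * s ≠ 1 := by
        intro b _ hn e
        apply hn
        calc b = s * (s⁻¹ * b * s) * s⁻¹ := by group
          _ = 1 := by rw [e]; group
      have e2 : ∀ b ∈ K, s⁻¹ * b * s * (s⁻¹ * b * s) = 1 := by
        intro b hb
        calc s⁻¹ * b * s * (s⁻¹ * b * s) = s⁻¹ * (b * b) * s := by group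
          _ = 1 := by rw [hK2 b hb]; group
      have e3 : s⁻¹ * b * s * (s⁻¹ * b' * s) = s⁻¹ * b' * s * (s⁻¹ * b * s) := by
        calc s⁻¹ * b * s * (s⁻¹ * b' * s) = s⁻¹ * (b * b') * s := by group
          _ = s⁻¹ * (b' * b) * s := by rw [hKc b hb b' hb']
          _ = _ := by group
      have e4 := theta_fix (e2 b hb) (hfix b hb) (e1 b hb n1) (e2 b' hb') (hfix b' hb') (e1 b' hb' n2) e3
      calc b = s * (s⁻¹ * b * s) * s⁻¹ := by group
        _ = s * (s⁻¹ * b' * s) * s⁻¹ := by rw [e4]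
        _ = b' := by group
    -- count
    have hsurj : Function.Surjective (fun p : Bool × Bool × K =>
        (⟨(if p.1 then x else 1) * (ι p.2.2 * (if p.2.1 then ι a * r else 1)), by
          refine F.mul_mem ?_ (F.mul_mem ((hKm _).1 p.2.2.2) ?_)
          · split_ifs
            · exact hxF
            · exact F.one_mem
          · split_ifs
            · exact ha
            · exact F.one_mem⟩ : F)) := by
      rintro ⟨g, hg⟩
      obtain ⟨b, e⟩ := h.cent g (hcomm g hg x hxF)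
      rcases e with rfl | rfl | rfl | rfl
      · refine ⟨(false, false, ⟨b, (hKm b).2 hg⟩), Subtype.ext ?_⟩
        simp
      · refine ⟨(true, false, ⟨b, (hKm b).2 (hxι hg)⟩), Subtype.ext ?_⟩
        simp
      · have h3 : ι (b * a⁻¹) ∈ F := by
          have := F.mul_mem hg (F.inv_mem ha)
          rw [map_mul, map_inv]
          convert this using 1
          group
        refine ⟨(false, true, ⟨b * a⁻¹, (hKm _).2 h3⟩), Subtype.ext ?_⟩
        simp [map_mul, map_inv]
      · have h3 : ι (b * a⁻¹) ∈ F := by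
          have := F.mul_mem (hxι hg) (F.inv_mem ha)
          rw [map_mul, map_inv]
          convert this using 1
          group
        refine ⟨(true, true, ⟨b * a⁻¹, (hKm _).2 h3⟩), Subtype.ext ?_⟩
        simp [map_mul, map_inv]
    have h4 := Nat.card_le_card_of_surjective _ hsurj
    rw [hcard, Nat.card_prod, Nat.card_prod] at h4
    simp at h4
    omega
  have hform : ∀ g ∈ F, ∃ a ∈ K, g = ι a ∨ g = x * ι a := by
    intro g hg
    obtain ⟨b, e⟩ := h.cent g (hcomm g hg x hxF)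
    rcases e with rfl | rfl | rfl | rfl
    · exact ⟨b, (hKm b).2 hg, Or.inl rfl⟩
    · exact ⟨b, (hKm b).2 (hxι hg), Or.inr rfl⟩
    · exact absurd hg (hnr b)
    · exact absurd (hxι hg) (hnr b)
  have hK8 : 8 ≤ Nat.card K := by
    have hsurj : Function.Surjective (fun p : Bool × K =>
        (⟨(if p.1 then x else 1) * ι p.2, by
          refine F.mul_mem ?_ ((hKm _).1 p.2.2)
          split_ifs
          · exact hxF
          · exact F.one_mem⟩ : F)) := by
      rintro ⟨g, hg⟩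
      obtain ⟨a, ha, rfl | rfl⟩ := hform g hg
      · exact ⟨(false, ⟨a, ha⟩), Subtype.ext (by simp)⟩
      · exact ⟨(true, ⟨a, ha⟩), Subtype.ext (by simp)⟩
    have h4 := Nat.card_le_card_of_surjective _ hsurj
    rw [hcard, Nat.card_prod] at h4
    simp at h4
    omega
  -- even elements
  obtain ⟨a, ha, b, hb, n1, n2, hne⟩ : ∃ a ∈ K ⊓ alternatingGroup (Fin 6), ∃ b ∈ K ⊓ alternatingGroup (Fin 6),
      a ≠ 1 ∧ b ≠ 1 ∧ a ≠ b := by
    apply two_of_card
    by_contra hc
    push Not at hc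
    have hsurj : ∃ o : K, Function.Surjective (fun p : Bool × (K ⊓ alternatingGroup (Fin 6) : Subgroup _) =>
        (⟨(if p.1 then (o : Perm (Fin 6)) else 1) * (p.2 : Perm (Fin 6)), by
          refine K.mul_mem ?_ p.2.2.1
          split_ifs
          · exact o.2
          · exact K.one_mem⟩ : K)) := by
      by_cases ho : ∃ o ∈ K, Perm.sign o = -1
      · obtain ⟨o, hoK, hos⟩ := ho
        refine ⟨⟨o, hoK⟩, ?_⟩
        rintro ⟨k, hk⟩
        rcases Int.units_eq_one_or (Perm.sign k) with hs | hs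
        · exact ⟨(false, ⟨k, hk, hs⟩), Subtype.ext (by simp)⟩
        · refine ⟨(true, ⟨o⁻¹ * k, K.mul_mem (K.inv_mem hoK) hk, ?_⟩), Subtype.ext (by simp)⟩
          show Perm.sign (o⁻¹ * k) = 1
          rw [Perm.sign_mul, Perm.sign_inv, hos, hs]; decide
      · push Not at ho
        refine ⟨1, ?_⟩
        rintro ⟨k, hk⟩
        have hs : Perm.sign k = 1 := (Int.units_eq_one_or _).resolve_right (ho k hk)
        exact ⟨(false, ⟨k, hk, hs⟩), Subtype.ext (by simp)⟩
    obtain ⟨o, hs⟩ := hsurj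
    have h4 := Nat.card_le_card_of_surjective _ hs
    rw [Nat.card_prod] at h4
    simp only [Nat.card_eq_fintype_card, Fintype.card_bool] at h4 hc hK8
    omega
  obtain ⟨s, hs⟩ := z_conj (hK2 a ha.1) ha.2 n1
  have hb1 : s * b * s⁻¹ * (s * b * s⁻¹) = 1 := by
    calc s * b * s⁻¹ * (s * b * s⁻¹) = s * (b * b) * s⁻¹ := by group
      _ = 1 := by rw [hK2 b hb.1]; group
  have hb2 : s * b * s⁻¹ * pz = pz * (s * b * s⁻¹) := by
    rw [← hs]
    calc s * b * s⁻¹ * (s * a * s⁻¹) = s * (b * a) * s⁻¹ := by group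
      _ = s * (a * b) * s⁻¹ := by rw [hKc b hb.1 a ha.1]
      _ = _ := by group
  have hb3 : Perm.sign (s * b * s⁻¹) = 1 := by
    have := hb.2
    rw [Perm.sign_mul, Perm.sign_mul, Perm.sign_inv, show Perm.sign b = 1 from hb.2, mul_one]
    exact Int.units_mul_self _
  have hb4 : s * b * s⁻¹ ≠ 1 := by
    intro e
    apply n2
    calc b = s⁻¹ * (s * b * s⁻¹) * s := by group
      _ = 1 := by rw [e]; group
  have hb5 : s * b * s⁻¹ ≠ pz := by
    intro e
    apply hne
    rw [← hs] at e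
    exact (mul_left_cancel (mul_right_cancel e)).symm
  -- conjugation by `c` with `c ι a c⁻¹ = z`, `c ι b c⁻¹ ∈ {v₁, z v₁}`
  have fin : ∀ c : G, c * x = x * c → c * ι a * c⁻¹ = ι pz →
      (c * ι b * c⁻¹ = ι pv1 ∨ c * ι b * c⁻¹ = ι (pz * pv1)) →
      ∃ c, c * x = x * c ∧ ∀ g ∈ F, c * g * c⁻¹ ∈ E1 x ι := by
    intro c hcx hcz hcv
    refine ⟨c, hcx, fun g hg => ?_⟩
    have hgx := hcomm g hg x hxF
    have hga := hcomm g hg _ ((hKm a).1 ha.1)
    have hgb := hcomm g hg _ ((hKm b).1 hb.1)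
    have k1 : c * g * c⁻¹ * ι pz = ι pz * (c * g * c⁻¹) := by
      rw [← hcz]
      calc c * g * c⁻¹ * (c * ι a * c⁻¹) = c * (g * ι a) * c⁻¹ := by group
        _ = c * (ι a * g) * c⁻¹ := by rw [hga]
        _ = _ := by group
    have k2 : c * g * c⁻¹ * (c * ι b * c⁻¹) = (c * ι b * c⁻¹) * (c * g * c⁻¹) := by
      calc c * g * c⁻¹ * (c * ι b * c⁻¹) = c * (g * ι b) * c⁻¹ := by group
        _ = c * (ι b * g) * c⁻¹ := by rw [hgb]
        _ = _ := by group
    refine ⟨?_, k1, ?_⟩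
    · have hcx' : c⁻¹ * x = x * c⁻¹ := by
        rw [inv_mul_eq_iff_eq_mul, ← mul_assoc, hcx, mul_inv_cancel_right]
      calc c * g * c⁻¹ * x = c * g * (c⁻¹ * x) := by group
        _ = c * (g * x) * c⁻¹ := by rw [hcx']; group
        _ = (c * x) * g * c⁻¹ := by rw [hgx]; group
        _ = x * (c * g * c⁻¹) := by rw [hcx]; group
    · rcases hcv with e | e
      · rwa [e] at k2
      · rw [e, map_mul] at k2
        calc c * g * c⁻¹ * ι pv1 = (ι pz)⁻¹ * (ι pz * (c * g * c⁻¹)) * ι pv1 := by group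
          _ = (ι pz)⁻¹ * (c * g * c⁻¹ * (ι pz * ι pv1)) := by rw [← k1]; group
          _ = (ι pz)⁻¹ * (ι pz * ι pv1 * (c * g * c⁻¹)) := by rw [k2]
          _ = _ := by group
  have hsx : ι s * x = x * ι s := h.comm' s
  have hsa : ι s * ι a * (ι s)⁻¹ = ι pz := by rw [← map_inv, ← map_mul, ← map_mul, hs]
  have hsb : ι s * ι b * (ι s)⁻¹ = ι (s * b * s⁻¹) := by rw [← map_inv, ← map_mul, ← map_mul]
  rcases cent_z _ hb2 hb3 hb1 hb4 hb5 with e | e | e | e
  · exact fin (ι s) hsx hsa (Or.inl (by rw [hsb, e]))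
  · exact fin (ι s) hsx hsa (Or.inr (by rw [hsb, e]))
  all_goals
    have hrx : r * ι s * x = x * (r * ι s) := by rw [mul_assoc, hsx, ← mul_assoc, h.rx, mul_assoc]
    have hra : r * ι s * ι a * (r * ι s)⁻¹ = ι pz := by
      calc r * ι s * ι a * (r * ι s)⁻¹ = r * (ι s * ι a * (ι s)⁻¹) * r⁻¹ := by group
        _ = ι pz := by rw [hsa, h.cv pz (by decide +kernel), θ_z]
    have hrb : r * ι s * ι b * (r * ι s)⁻¹ = ι (θ (s * b * s⁻¹)) := by
      calc r * ι s * ι b * (r * ι s)⁻¹ = r * (ι s * ι b * (ι s)⁻¹) * r⁻¹ := by group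
        _ = _ := by rw [hsb, h.cv _ hb3]
  · exact fin _ hrx hra (Or.inl (by rw [hrb, e, θ_v2]))
  · exact fin _ hrx hra (Or.inr (by rw [hrb, e, map_mul, θ_z, θ_v2]))

/-- **fusion in `E₁`** -/
theorem fus [Finite G] {g : G} (hg : g * x * g⁻¹ ∈ E1 x ι) :
    ∃ n, (∀ e ∈ E1 x ι, n * e * n⁻¹ ∈ E1 x ι) ∧ n * x * n⁻¹ = g * x * g⁻¹ := by
  obtain ⟨F, hF⟩ : ∃ F : Subgroup G, F = (E1 x ι).comap (MulAut.conj g).toMonoidHom := ⟨_, rfl⟩
  have hFm : ∀ k, k ∈ F ↔ g * k * g⁻¹ ∈ E1 x ι := by intro k; rw [hF]; exact Iff.rfl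
  have e : F ≃ E1 x ι :=
    { toFun := fun k => ⟨g * k * g⁻¹, (hFm k).1 k.2⟩
      invFun := fun k => ⟨g⁻¹ * k * g, (hFm _).2 (by
        have : g * (g⁻¹ * (k : G) * g) * g⁻¹ = k := by group
        rw [this]; exact k.2)⟩
      left_inv := fun k => Subtype.ext (by show g⁻¹ * (g * (k : G) * g⁻¹) * g = k; group)
      right_inv := fun k => Subtype.ext (by show g * (g⁻¹ * (k : G) * g) * g⁻¹ = k; group) }
  have hc : Nat.card F = 16 := (Nat.card_congr e).trans (card h)
  obtain ⟨c, hcx, hc⟩ := conj_E h ((hFm x).2 hg) (fun k hk => by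
    have h1 := sq h ((hFm k).1 hk)
    have h2 : g * (k * k) * g⁻¹ = 1 := by rw [← h1]; group
    calc k * k = g⁻¹ * (g * (k * k) * g⁻¹) * g := by group
      _ = 1 := by rw [h2]; group) hc
  -- `c g⁻¹` normalises `E₁`
  have h1 : ∀ e ∈ E1 x ι, (c * g⁻¹) * e * (c * g⁻¹)⁻¹ ∈ E1 x ι := by
    intro e he
    have h2 := hc (g⁻¹ * e * g) ((hFm _).2 (by
      have : g * (g⁻¹ * e * g) * g⁻¹ = e := by group
      rw [this]; exact he))
    have h3 : c * g⁻¹ * e * (c * g⁻¹)⁻¹ = c * (g⁻¹ * e * g) * c⁻¹ := by group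
    rw [h3]; exact h2
  refine ⟨(c * g⁻¹)⁻¹, ?_, ?_⟩
  · -- finite
    have hinj : Function.Injective (fun e : E1 x ι => (⟨_, h1 e e.2⟩ : E1 x ι)) := by
      intro a b hab
      have := congrArg Subtype.val hab
      exact Subtype.ext (mul_left_cancel (mul_right_cancel this))
    have hsur := Finite.surjective_of_injective hinj
    intro e he
    obtain ⟨⟨k, hk⟩, hk2⟩ := hsur ⟨e, he⟩
    have h3 : c * g⁻¹ * k * (c * g⁻¹)⁻¹ = e := congrArg Subtype.val hk2
    have h4 : (c * g⁻¹)⁻¹ * e * (c * g⁻¹)⁻¹⁻¹ = k := by rw [← h3]; group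
    rw [h4]; exact hk
  · have hcx' : c⁻¹ * x * c = x := by rw [mul_assoc, ← hcx, inv_mul_cancel_left]
    calc (c * g⁻¹)⁻¹ * x * (c * g⁻¹)⁻¹⁻¹ = g * (c⁻¹ * x * c) * g⁻¹ := by group
      _ = g * x * g⁻¹ := by rw [hcx']

end AutE'

end Cfsg.Agent.OddHalf.D5.SixAut.TwOne

end
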