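import Mathlib
import Cfsg.Agent.OddHalf.D5.SixAut.DblDefs
import Cfsg.Agent.OddHalf.TFormula

-- merged: Cfsg.Agent.OddHalf.D5.SixAut.Ext
section

/-!
# Extensions of degree two of a subgroup by an element
-/

set_option autoImplicit false

namespace Cfsg.Agent.OddHalf.D5.SixAut

open Subgroup

variable {G : Type*} [Group G]

/-- `Q ∪ gQ`, where `g` normalises `Q` and `g² ∈ Q`. -/
def ext (Q : Subgroup G) (g : G) (hg : g * g ∈ Q) (hn : ∀ q ∈ Q, g⁻¹ * q * g ∈ Q) : Subgroup G where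
  carrier := {p | p ∈ Q ∨ ∃ q ∈ Q, p = g * q}
  one_mem' := Or.inl Q.one_mem
  mul_mem' := by
    rintro a c (ha | ⟨q, hq, rfl⟩) (hc | ⟨q', hq', rfl⟩)
    · exact Or.inl (Q.mul_mem ha hc)
    · refine Or.inr ⟨g⁻¹ * a * g * q', Q.mul_mem (hn a ha) hq', by group⟩
    · exact Or.inr ⟨q * c, Q.mul_mem hq hc, by group⟩
    · refine Or.inl ?_
      have : g * q * (g * q') = g * g * (g⁻¹ * q * g) * q' := by group
      rw [this]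
      exact Q.mul_mem (Q.mul_mem hg (hn q hq)) hq'
  inv_mem' := by
    rintro a (ha | ⟨q, hq, rfl⟩)
    · exact Or.inl (Q.inv_mem ha)
    · refine Or.inr ⟨(g⁻¹ * q⁻¹ * g) * (g * g)⁻¹, Q.mul_mem (hn _ (Q.inv_mem hq)) (Q.inv_mem hg), by group⟩

variable {Q : Subgroup G} {g : G} {hg : g * g ∈ Q} {hn : ∀ q ∈ Q, g⁻¹ * q * g ∈ Q}

theorem mem_ext {p : G} : p ∈ ext Q g hg hn ↔ p ∈ Q ∨ ∃ q ∈ Q, p = g * q := Iff.rfl

theorem le_ext : Q ≤ ext Q g hg hn := fun _ h => Or.inl h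

theorem self_mem : g ∈ ext Q g hg hn := Or.inr ⟨1, Q.one_mem, by rw [mul_one]⟩

/-- conjugation -/
theorem conj_ext {k : G} (h1 : ∀ q ∈ Q, k⁻¹ * q * k ∈ ext Q g hg hn) (h2 : k⁻¹ * g * k ∈ ext Q g hg hn) :
    ∀ p ∈ ext Q g hg hn, k⁻¹ * p * k ∈ ext Q g hg hn := by
  rintro p (hp | ⟨q, hq, rfl⟩)
  · exact h1 p hp
  · have : k⁻¹ * (g * q) * k = (k⁻¹ * g * k) * (k⁻¹ * q * k) := by group
    rw [this]
    exact mul_mem h2 (h1 q hq)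

/-- commuting with all elements -/
theorem comm_ext {k : G} (h1 : ∀ q ∈ Q, k * q = q * k) (h2 : k * g = g * k) :
    ∀ p ∈ ext Q g hg hn, k * p = p * k := by
  rintro p (hp | ⟨q, hq, rfl⟩)
  · exact h1 p hp
  · rw [← mul_assoc, h2, mul_assoc, h1 q hq, mul_assoc]

/-- abelian mod `N` -/
theorem commutator_ext {N : Subgroup G} (hgN : ∀ n ∈ N, g * n * g⁻¹ ∈ N)
    (hQ : ∀ a ∈ Q, ∀ c ∈ Q, a * c * a⁻¹ * c⁻¹ ∈ N) (hgQ : ∀ q ∈ Q, g * q * g⁻¹ * q⁻¹ ∈ N) :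
    ∀ a ∈ ext Q g hg hn, ∀ c ∈ ext Q g hg hn, a * c * a⁻¹ * c⁻¹ ∈ N := by
  have key : ∀ q ∈ Q, ∀ q' ∈ Q, (g * q) * q' * (g * q)⁻¹ * q'⁻¹ ∈ N := by
    intro q hq q' hq'
    have : (g * q) * q' * (g * q)⁻¹ * q'⁻¹ = g * (q * q' * q⁻¹ * q'⁻¹) * g⁻¹ * (g * q' * g⁻¹ * q'⁻¹) := by group
    rw [this]
    exact N.mul_mem (hgN _ (hQ q hq q' hq')) (hgQ q' hq')
  rintro a (ha | ⟨q, hq, rfl⟩) c (hc | ⟨q', hq', rfl⟩)
  · exact hQ a ha c hc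
  · have : a * (g * q') * a⁻¹ * (g * q')⁻¹ = ((g * q') * a * (g * q')⁻¹ * a⁻¹)⁻¹ := by group
    rw [this]
    exact N.inv_mem (key q' hq' a ha)
  · exact key q hq c hc
  · have h1 : g * (g * q * g⁻¹ * q⁻¹)⁻¹ * g⁻¹ ∈ N := hgN _ (N.inv_mem (hgQ q hq))
    have h2 : g * ((g * q) * q' * (g * q)⁻¹ * q'⁻¹) * g⁻¹ ∈ N := hgN _ (key q hq q' hq')
    have : g * q * (g * q') * (g * q)⁻¹ * (g * q')⁻¹ =
        (g * (g * q * g⁻¹ * q⁻¹)⁻¹ * g⁻¹) * (g * ((g * q) * q' * (g * q)⁻¹ * q'⁻¹) * g⁻¹) := by group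
    rw [this]
    exact N.mul_mem h1 h2

/-- the extension is abelian mod `Q` -/
theorem commutator_ext_self : ∀ a ∈ ext Q g hg hn, ∀ c ∈ ext Q g hg hn, a * c * a⁻¹ * c⁻¹ ∈ Q := by
  have hn' : ∀ q ∈ Q, g * q * g⁻¹ ∈ Q := by
    intro q hq
    have : g * q * g⁻¹ = (g * g) * (g⁻¹ * q * g) * (g * g)⁻¹ := by group
    rw [this]
    exact Q.mul_mem (Q.mul_mem hg (hn q hq)) (Q.inv_mem hg)
  apply commutator_ext
  · exact hn'
  · exact fun a ha c hc => Q.mul_mem (Q.mul_mem (Q.mul_mem ha hc) (Q.inv_mem ha)) (Q.inv_mem hc)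
  · exact fun q hq => Q.mul_mem (hn' q hq) (Q.inv_mem hq)

/-- an extension of a 2-group is a 2-group -/
theorem isPGroup_ext (h : IsPGroup 2 Q) : IsPGroup 2 (ext Q g hg hn) := by
  rintro ⟨p, hp⟩
  have hpp : p * p ∈ Q := by
    rcases hp with hp | ⟨q, hq, rfl⟩
    · exact Q.mul_mem hp hp
    · have : g * q * (g * q) = g * g * (g⁻¹ * q * g) * q := by group
      rw [this]
      exact Q.mul_mem (Q.mul_mem hg (hn q hq)) hq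
  obtain ⟨k, hk⟩ := h ⟨p * p, hpp⟩
  refine ⟨k + 1, Subtype.ext ?_⟩
  have h1 := congrArg Subtype.val hk
  simp only [SubmonoidClass.coe_pow, OneMemClass.coe_one] at h1 ⊢
  rw [pow_succ', pow_mul, pow_two]
  exact h1

end Cfsg.Agent.OddHalf.D5.SixAut

end

-- merged: Cfsg.Agent.OddHalf.D5.SixAut.ZeroBase
section

/-!
# ODD half, `K = A₆`, C3b, (DBL), `e = 0`: the 2-group `P = U₁* U₂*` of order `2⁸`

`L = ⟨z, f, s, b⟩` is central in `P = ⟨L, v₁, v₂, w, w₂⟩`, `P / L` is elementary abelian of order 16. All the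
involutions of `xP` are conjugate to `x` under `P`.
-/

set_option autoImplicit false
set_option linter.unusedSimpArgs false
set_option linter.unusedVariables false

namespace Cfsg.Agent.OddHalf.D5.SixAut.Zero

open Subgroup

variable {G : Type*} [Group G]

theorem asc {a c d : G} (h : a * c = d) (k : G) : a * (c * k) = d * k := by rw [← mul_assoc, h]

/-- `n ∈ ⟨z, f⟩` -/
def InL (z f n : G) : Prop := n = 1 ∨ n = z ∨ n = f ∨ n = f * z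

/-- The relations, in collected form (order `x, w₂, w, v₂, v₁, b, s, f, z, n`). -/
structure Base (x z f v₁ v₂ s b w w₂ n : G) : Prop where
  z1 : z ≠ 1
  f1 : f ≠ 1
  fz1 : f ≠ z
  hn : InL z f n
  xx : x * x = 1
  zz : z * z = 1
  ff : f * f = 1
  v11 : v₁ * v₁ = 1
  v22 : v₂ * v₂ = 1
  ss : s * s = 1
  bb : b * b = 1
  ww : w * w = 1
  w22 : w₂ * w₂ = 1
  nn : n * n = 1
  w2x : w₂ * x = x * (w₂ * v₂)
  wx : w * x = x * (w * v₁)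
  v2x : v₂ * x = x * v₂
  v1x : v₁ * x = x * v₁
  bx : b * x = x * (b * f)
  sx : s * x = x * (s * z)
  fx : f * x = x * f
  zx : z * x = x * z
  nx : n * x = x * n
  v2w2 : v₂ * w₂ = w₂ * v₂
  v1w2 : v₁ * w₂ = w₂ * (v₁ * (s * n))
  bw2 : b * w₂ = w₂ * b
  sw2 : s * w₂ = w₂ * s
  fw2 : f * w₂ = w₂ * f
  zw2 : z * w₂ = w₂ * z
  nw2 : n * w₂ = w₂ * n
  v2w : v₂ * w = w * (v₂ * s)
  v1w : v₁ * w = w * v₁
  bw : b * w = w * b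
  sw : s * w = w * s
  fw : f * w = w * f
  zw : z * w = w * z
  nw : n * w = w * n
  v1v2 : v₁ * v₂ = v₂ * (v₁ * z)
  bv2 : b * v₂ = v₂ * b
  sv2 : s * v₂ = v₂ * s
  fv2 : f * v₂ = v₂ * f
  zv2 : z * v₂ = v₂ * z
  nv2 : n * v₂ = v₂ * n
  bv1 : b * v₁ = v₁ * b
  sv1 : s * v₁ = v₁ * s
  fv1 : f * v₁ = v₁ * f
  zv1 : z * v₁ = v₁ * z
  nv1 : n * v₁ = v₁ * n
  sb : s * b = b * s
  fb : f * b = b * f
  zb : z * b = b * z
  nb : n * b = b * n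
  fs : f * s = s * f
  zs : z * s = s * z
  ns : n * s = s * n
  zf : z * f = f * z
  nf : n * f = f * n
  nz : n * z = z * n
  /-- `C(x) ∩ C(⟨z, f⟩) = T₀` -/
  cent : ∀ g, g * x = x * g → g * z = z * g → g * f = f * g → g ∈ T0 x z f v₁ v₂

variable {x z f v₁ v₂ s b w w₂ n : G}

namespace Base

variable (h : Base x z f v₁ v₂ s b w w₂ n)

/-- an extension by a commuting involution -/
def extc (Q : Subgroup G) (g : G) (hg : g * g = 1) (hc : ∀ q ∈ Q, g * q = q * g) : Subgroup G :=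
  ext Q g (by rw [hg]; exact Q.one_mem) (fun q hq => by
    rw [mul_assoc, ← hc q hq, inv_mul_cancel_left]; exact hq)

theorem mem_extc {Q : Subgroup G} {g : G} {hg : g * g = 1} {hc : ∀ q ∈ Q, g * q = q * g} {p : G} :
    p ∈ extc Q g hg hc ↔ p ∈ Q ∨ ∃ q ∈ Q, p = g * q := Iff.rfl

theorem comm_extc {Q : Subgroup G} {g : G} {hg : g * g = 1} {hc : ∀ q ∈ Q, g * q = q * g} {k : G}
    (h1 : ∀ q ∈ Q, k * q = q * k) (h2 : k * g = g * k) : ∀ p ∈ extc Q g hg hc, k * p = p * k :=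
  comm_ext h1 h2

theorem conj_extc {Q : Subgroup G} {g : G} {hg : g * g = 1} {hc : ∀ q ∈ Q, g * q = q * g} {k : G}
    (h1 : ∀ q ∈ Q, k⁻¹ * q * k ∈ extc Q g hg hc) (h2 : k⁻¹ * g * k ∈ extc Q g hg hc) :
    ∀ p ∈ extc Q g hg hc, k⁻¹ * p * k ∈ extc Q g hg hc := conj_ext h1 h2

theorem comm_bot (k : G) : ∀ q ∈ (⊥ : Subgroup G), k * q = q * k := by
  intro q hq
  rw [mem_bot.1 hq, mul_one, one_mul]

/-- `{1, z}` -/
def Z : Subgroup G := extc ⊥ z h.zz (comm_bot z)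

theorem comm_Z {k : G} (hk : k * z = z * k) : ∀ q ∈ h.Z, k * q = q * k := comm_extc (comm_bot k) hk

/-- `l = ⟨z, f⟩` -/
def l : Subgroup G := extc h.Z f h.ff (h.comm_Z h.zf.symm)

theorem comm_l {k : G} (hk : k * z = z * k) (hf : k * f = f * k) : ∀ q ∈ h.l, k * q = q * k :=
  comm_extc (h.comm_Z hk) hf

theorem mem_l {m : G} : m ∈ h.l ↔ InL z f m := by
  constructor
  · rintro ((hm | ⟨q, hq, rfl⟩) | ⟨_, (hm | ⟨q, hq, rfl⟩), rfl⟩)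
    · exact Or.inl (mem_bot.1 hm)
    · rw [mem_bot.1 hq, mul_one]; exact Or.inr (Or.inl rfl)
    · rw [mem_bot.1 hm, mul_one]; exact Or.inr (Or.inr (Or.inl rfl))
    · rw [mem_bot.1 hq, mul_one]; exact Or.inr (Or.inr (Or.inr rfl))
  · rintro (rfl | rfl | rfl | rfl)
    · exact one_mem _
    · exact Or.inl (Or.inr ⟨1, one_mem _, (mul_one _).symm⟩)
    · exact Or.inr ⟨1, one_mem _, (mul_one _).symm⟩
    · exact Or.inr ⟨z, Or.inr ⟨1, one_mem _, (mul_one _).symm⟩, rfl⟩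

def Ls : Subgroup G := extc h.l s h.ss (h.comm_l h.zs.symm h.fs.symm)

theorem comm_Ls {k : G} (hk : k * z = z * k) (hf : k * f = f * k) (hs : k * s = s * k) :
    ∀ q ∈ h.Ls, k * q = q * k := comm_extc (h.comm_l hk hf) hs

/-- `L = ⟨z, f, s, b⟩` -/
def L : Subgroup G := extc h.Ls b h.bb (h.comm_Ls h.zb.symm h.fb.symm h.sb.symm)

theorem comm_L {k : G} (hk : k * z = z * k) (hf : k * f = f * k) (hs : k * s = s * k)
    (hb : k * b = b * k) : ∀ q ∈ h.L, k * q = q * k := comm_extc (h.comm_Ls hk hf hs) hb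

theorem mem_L {m : G} : m ∈ h.L ↔ ∃ k, InL z f k ∧ (m = k ∨ m = s * k ∨ m = b * k ∨ m = b * (s * k)) := by
  constructor
  · rintro ((hm | ⟨q, hq, rfl⟩) | ⟨_, (hm | ⟨q, hq, rfl⟩), rfl⟩)
    · exact ⟨m, h.mem_l.1 hm, Or.inl rfl⟩
    · exact ⟨q, h.mem_l.1 hq, Or.inr (Or.inl rfl)⟩
    · exact ⟨_, h.mem_l.1 hm, Or.inr (Or.inr (Or.inl rfl))⟩
    · exact ⟨q, h.mem_l.1 hq, Or.inr (Or.inr (Or.inr rfl))⟩
  · rintro ⟨k, hk, rfl | rfl | rfl | rfl⟩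
    · exact Or.inl (Or.inl (h.mem_l.2 hk))
    · exact Or.inl (Or.inr ⟨_, h.mem_l.2 hk, rfl⟩)
    · exact Or.inr ⟨_, Or.inl (h.mem_l.2 hk), rfl⟩
    · exact Or.inr ⟨_, Or.inr ⟨_, h.mem_l.2 hk, rfl⟩, rfl⟩

theorem l_le : h.l ≤ h.L := fun _ hm => Or.inl (Or.inl hm)
theorem zL : z ∈ h.L := h.l_le (h.mem_l.2 (Or.inr (Or.inl rfl)))
theorem fL : f ∈ h.L := h.l_le (h.mem_l.2 (Or.inr (Or.inr (Or.inl rfl))))
theorem nL : n ∈ h.L := h.l_le (h.mem_l.2 h.hn)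
theorem sL : s ∈ h.L := Or.inl (Or.inr ⟨1, one_mem _, (mul_one _).symm⟩)
theorem bL : b ∈ h.L := Or.inr ⟨1, one_mem _, (mul_one _).symm⟩

/-- the rules for `m ∈ L` -/
structure MR (z f v₁ v₂ s b w w₂ n m : G) : Prop where
  mw2 : m * w₂ = w₂ * m
  mw : m * w = w * m
  mv2 : m * v₂ = v₂ * m
  mv1 : m * v₁ = v₁ * m
  mb : m * b = b * m
  ms : m * s = s * m
  mf : m * f = f * m
  mz : m * z = z * m
  mn : m * n = n * m
  mm : m * m = 1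

theorem mr {m : G} (hm : m ∈ h.L) : MR z f v₁ v₂ s b w w₂ n m := by
  refine ⟨?_, ?_, ?_, ?_, ?_, ?_, ?_, ?_, ?_, ?_⟩
  · exact (h.comm_L h.zw2.symm h.fw2.symm h.sw2.symm h.bw2.symm m hm).symm
  · exact (h.comm_L h.zw.symm h.fw.symm h.sw.symm h.bw.symm m hm).symm
  · exact (h.comm_L h.zv2.symm h.fv2.symm h.sv2.symm h.bv2.symm m hm).symm
  · exact (h.comm_L h.zv1.symm h.fv1.symm h.sv1.symm h.bv1.symm m hm).symm
  · exact (h.comm_L h.zb.symm h.fb.symm h.sb.symm rfl m hm).symm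
  · exact (h.comm_L h.zs.symm h.fs.symm rfl h.sb m hm).symm
  · exact (h.comm_L h.zf.symm rfl h.fs h.fb m hm).symm
  · exact (h.comm_L rfl h.zf h.zs h.zb m hm).symm
  · exact (h.comm_L h.nz h.nf h.ns h.nb m hm).symm
  · obtain ⟨k, hk, hm⟩ := h.mem_L.1 hm
    rcases hk with hk | hk | hk | hk <;> rcases hm with hm | hm | hm | hm <;> rw [hm, hk] <;>
      simp only [mul_assoc, one_mul, mul_one, h.xx, asc h.xx, h.zz, asc h.zz, h.ff, asc h.ff, h.v11, asc h.v11,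
    h.v22, asc h.v22, h.ss, asc h.ss, h.bb, asc h.bb, h.ww, asc h.ww, h.w22, asc h.w22, h.nn, asc h.nn, h.w2x,
    asc h.w2x, h.wx, asc h.wx, h.v2x, asc h.v2x, h.v1x, asc h.v1x, h.bx, asc h.bx, h.sx, asc h.sx, h.fx,
    asc h.fx, h.zx, asc h.zx, h.nx, asc h.nx, h.v2w2, asc h.v2w2, h.v1w2, asc h.v1w2, h.bw2, asc h.bw2, h.sw2,
    asc h.sw2, h.fw2, asc h.fw2, h.zw2, asc h.zw2, h.nw2, asc h.nw2, h.v2w, asc h.v2w, h.v1w, asc h.v1w, h.bw,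
    asc h.bw, h.sw, asc h.sw, h.fw, asc h.fw, h.zw, asc h.zw, h.nw, asc h.nw, h.v1v2, asc h.v1v2, h.bv2,
    asc h.bv2, h.sv2, asc h.sv2, h.fv2, asc h.fv2, h.zv2, asc h.zv2, h.nv2, asc h.nv2, h.bv1, asc h.bv1, h.sv1,
    asc h.sv1, h.fv1, asc h.fv1, h.zv1, asc h.zv1, h.nv1, asc h.nv1, h.sb, asc h.sb, h.fb, asc h.fb, h.zb,
    asc h.zb, h.nb, asc h.nb, h.fs, asc h.fs, h.zs, asc h.zs, h.ns, asc h.ns, h.zf, asc h.zf, h.nf, asc h.nf,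
    h.nz, asc h.nz]

include h in
theorem s_ne : s ≠ n := by
  intro e
  have h1 := h.sx
  have h3 := h.nx
  rw [← e, h1] at h3
  have h2 : s * z = s := mul_left_cancel h3
  exact h.z1 (mul_eq_left.mp h2)

/-- `x m = m x` only for `m ∈ l` -/
theorem mem_l_of_comm {m : G} (hm : m ∈ h.L) (hx : m * x = x * m) : InL z f m := by
  obtain ⟨k, hk, hm⟩ := h.mem_L.1 hm
  have hkx : k * x = x * k := by
    rcases hk with hk | hk | hk | hk <;> rw [hk] <;> simp only [mul_assoc, one_mul, mul_one, h.xx, asc h.xx, h.zz, asc h.zz, h.ff, asc h.ff, h.v11, asc h.v11,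
    h.v22, asc h.v22, h.ss, asc h.ss, h.bb, asc h.bb, h.ww, asc h.ww, h.w22, asc h.w22, h.nn, asc h.nn, h.w2x,
    asc h.w2x, h.wx, asc h.wx, h.v2x, asc h.v2x, h.v1x, asc h.v1x, h.bx, asc h.bx, h.sx, asc h.sx, h.fx,
    asc h.fx, h.zx, asc h.zx, h.nx, asc h.nx, h.v2w2, asc h.v2w2, h.v1w2, asc h.v1w2, h.bw2, asc h.bw2, h.sw2,
    asc h.sw2, h.fw2, asc h.fw2, h.zw2, asc h.zw2, h.nw2, asc h.nw2, h.v2w, asc h.v2w, h.v1w, asc h.v1w, h.bw,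
    asc h.bw, h.sw, asc h.sw, h.fw, asc h.fw, h.zw, asc h.zw, h.nw, asc h.nw, h.v1v2, asc h.v1v2, h.bv2,
    asc h.bv2, h.sv2, asc h.sv2, h.fv2, asc h.fv2, h.zv2, asc h.zv2, h.nv2, asc h.nv2, h.bv1, asc h.bv1, h.sv1,
    asc h.sv1, h.fv1, asc h.fv1, h.zv1, asc h.zv1, h.nv1, asc h.nv1, h.sb, asc h.sb, h.fb, asc h.fb, h.zb,
    asc h.zb, h.nb, asc h.nb, h.fs, asc h.fs, h.zs, asc h.zs, h.ns, asc h.ns, h.zf, asc h.zf, h.nf, asc h.nf,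
    h.nz, asc h.nz]
  rcases hm with rfl | rfl | rfl | rfl
  · exact hk
  · exfalso
    rw [mul_assoc, hkx, ← mul_assoc, h.sx] at hx
    have h1 : s * z * k = s * k := by
      have h2 : x * (s * z * k) = x * (s * k) := by rw [← hx]; group
      exact mul_left_cancel h2
    have h3 : z * k = k := by rw [mul_assoc] at h1; exact mul_left_cancel h1
    exact h.z1 (mul_eq_right.mp h3)
  · exfalso
    rw [mul_assoc, hkx, ← mul_assoc, h.bx] at hx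
    have h1 : b * f * k = b * k := by
      have h2 : x * (b * f * k) = x * (b * k) := by rw [← hx]; group
      exact mul_left_cancel h2
    have h3 : f * k = k := by rw [mul_assoc] at h1; exact mul_left_cancel h1
    exact h.f1 (mul_eq_right.mp h3)
  · exfalso
    have e : b * (s * k) * x = x * (b * (s * (f * (z * k)))) := by
      rw [mul_assoc, mul_assoc, hkx, ← mul_assoc s, h.sx]
      simp only [mul_assoc, one_mul, mul_one, h.xx, asc h.xx, h.zz, asc h.zz, h.ff, asc h.ff, h.v11, asc h.v11,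
    h.v22, asc h.v22, h.ss, asc h.ss, h.bb, asc h.bb, h.ww, asc h.ww, h.w22, asc h.w22, h.nn, asc h.nn, h.w2x,
    asc h.w2x, h.wx, asc h.wx, h.v2x, asc h.v2x, h.v1x, asc h.v1x, h.bx, asc h.bx, h.sx, asc h.sx, h.fx,
    asc h.fx, h.zx, asc h.zx, h.nx, asc h.nx, h.v2w2, asc h.v2w2, h.v1w2, asc h.v1w2, h.bw2, asc h.bw2, h.sw2,
    asc h.sw2, h.fw2, asc h.fw2, h.zw2, asc h.zw2, h.nw2, asc h.nw2, h.v2w, asc h.v2w, h.v1w, asc h.v1w, h.bw,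
    asc h.bw, h.sw, asc h.sw, h.fw, asc h.fw, h.zw, asc h.zw, h.nw, asc h.nw, h.v1v2, asc h.v1v2, h.bv2,
    asc h.bv2, h.sv2, asc h.sv2, h.fv2, asc h.fv2, h.zv2, asc h.zv2, h.nv2, asc h.nv2, h.bv1, asc h.bv1, h.sv1,
    asc h.sv1, h.fv1, asc h.fv1, h.zv1, asc h.zv1, h.nv1, asc h.nv1, h.sb, asc h.sb, h.fb, asc h.fb, h.zb,
    asc h.zb, h.nb, asc h.nb, h.fs, asc h.fs, h.zs, asc h.zs, h.ns, asc h.ns, h.zf, asc h.zf, h.nf, asc h.nf,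
    h.nz, asc h.nz]
    rw [e] at hx
    have h1 : b * (s * (f * (z * k))) = b * (s * k) := mul_left_cancel hx
    have h3 : f * (z * k) = k := mul_left_cancel (mul_left_cancel h1)
    rw [← mul_assoc] at h3
    have h4 : f * z = 1 := mul_eq_right.mp h3
    exact h.fz1 (by rw [← mul_one f, ← h.zz, ← mul_assoc, h4, one_mul])

/-! ### `T₀` -/

def D1 : Subgroup G := extc h.l v₁ h.v11 (h.comm_l h.zv1.symm h.fv1.symm)

theorem hn2 : ∀ q ∈ h.D1, v₂⁻¹ * q * v₂ ∈ h.D1 := by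
  apply conj_extc
  · intro q hq
    have : v₂⁻¹ * q * v₂ = q := by
      rw [mul_assoc, ← h.comm_l h.zv2.symm h.fv2.symm q hq, inv_mul_cancel_left]
    rw [this]
    exact Or.inl hq
  · have : v₂⁻¹ * v₁ * v₂ = v₁ * z := by rw [mul_assoc, h.v1v2, inv_mul_cancel_left]
    rw [this]
    exact Or.inr ⟨z, h.mem_l.2 (Or.inr (Or.inl rfl)), rfl⟩

def D2 : Subgroup G := ext h.D1 v₂ (by rw [h.v22]; exact one_mem _) h.hn2

theorem comm_D2 {k : G} (hk : k * z = z * k) (hf : k * f = f * k) (h1 : k * v₁ = v₁ * k)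
    (h2 : k * v₂ = v₂ * k) : ∀ q ∈ h.D2, k * q = q * k :=
  comm_ext (comm_extc (h.comm_l hk hf) h1) h2

def E0 : Subgroup G := extc h.D2 x h.xx (h.comm_D2 h.zx.symm h.fx.symm h.v1x.symm h.v2x.symm)

theorem T0_le : T0 x z f v₁ v₂ ≤ h.E0 := by
  rw [T0, closure_le]
  rintro g (rfl | rfl | rfl | rfl | rfl)
  · exact Or.inr ⟨1, one_mem _, (mul_one _).symm⟩
  · exact Or.inl (Or.inl (Or.inl (h.mem_l.2 (Or.inr (Or.inl rfl)))))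
  · exact Or.inl (Or.inl (Or.inl (h.mem_l.2 (Or.inr (Or.inr (Or.inl rfl))))))
  · exact Or.inl (Or.inl (Or.inr ⟨1, one_mem _, (mul_one _).symm⟩))
  · exact Or.inl (Or.inr ⟨1, one_mem _, (mul_one _).symm⟩)

/-! ### `[w, w₂] ∈ L` -/

theorem c_mem : w * (w₂ * (w * w₂)) ∈ h.L := by
  set c := w * (w₂ * (w * w₂)) with hc
  have hcx : c * (x * (z * n)) = x * c := by
    rw [hc]
    simp only [mul_assoc, one_mul, mul_one, h.xx, asc h.xx, h.zz, asc h.zz, h.ff, asc h.ff, h.v11, asc h.v11,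
    h.v22, asc h.v22, h.ss, asc h.ss, h.bb, asc h.bb, h.ww, asc h.ww, h.w22, asc h.w22, h.nn, asc h.nn, h.w2x,
    asc h.w2x, h.wx, asc h.wx, h.v2x, asc h.v2x, h.v1x, asc h.v1x, h.bx, asc h.bx, h.sx, asc h.sx, h.fx,
    asc h.fx, h.zx, asc h.zx, h.nx, asc h.nx, h.v2w2, asc h.v2w2, h.v1w2, asc h.v1w2, h.bw2, asc h.bw2, h.sw2,
    asc h.sw2, h.fw2, asc h.fw2, h.zw2, asc h.zw2, h.nw2, asc h.nw2, h.v2w, asc h.v2w, h.v1w, asc h.v1w, h.bw,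
    asc h.bw, h.sw, asc h.sw, h.fw, asc h.fw, h.zw, asc h.zw, h.nw, asc h.nw, h.v1v2, asc h.v1v2, h.bv2,
    asc h.bv2, h.sv2, asc h.sv2, h.fv2, asc h.fv2, h.zv2, asc h.zv2, h.nv2, asc h.nv2, h.bv1, asc h.bv1, h.sv1,
    asc h.sv1, h.fv1, asc h.fv1, h.zv1, asc h.zv1, h.nv1, asc h.nv1, h.sb, asc h.sb, h.fb, asc h.fb, h.zb,
    asc h.zb, h.nb, asc h.nb, h.fs, asc h.fs, h.zs, asc h.zs, h.ns, asc h.ns, h.zf, asc h.zf, h.nf, asc h.nf,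
    h.nz, asc h.nz]
  have hs1 : s ≠ 1 := by
    rintro rfl
    have h1 := h.sx
    rw [one_mul, one_mul] at h1
    exact h.z1 (mul_eq_left.mp h1.symm)
  have hsz : s ≠ z := by
    rintro rfl
    have h1 := h.sx
    rw [h.zx, h.zz, mul_one] at h1
    exact h.z1 (mul_eq_left.mp h1)
  -- an element of `L` with the same action on `x`
  obtain ⟨k, hk, hkx⟩ : ∃ k ∈ h.L, k * x = x * (k * (z * n)) := by
    rcases h.hn with h0 | h0 | h0 | h0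
    · exact ⟨s, h.sL, by rw [h.sx, h0, mul_one]⟩
    · exact ⟨1, one_mem _, by rw [h0, h.zz]; simp⟩
    · refine ⟨b * s, mul_mem h.bL h.sL, ?_⟩
      rw [h0]
      simp only [mul_assoc, one_mul, mul_one, h.xx, asc h.xx, h.zz, asc h.zz, h.ff, asc h.ff, h.v11, asc h.v11,
    h.v22, asc h.v22, h.ss, asc h.ss, h.bb, asc h.bb, h.ww, asc h.ww, h.w22, asc h.w22, h.nn, asc h.nn, h.w2x,
    asc h.w2x, h.wx, asc h.wx, h.v2x, asc h.v2x, h.v1x, asc h.v1x, h.bx, asc h.bx, h.sx, asc h.sx, h.fx,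
    asc h.fx, h.zx, asc h.zx, h.nx, asc h.nx, h.v2w2, asc h.v2w2, h.v1w2, asc h.v1w2, h.bw2, asc h.bw2, h.sw2,
    asc h.sw2, h.fw2, asc h.fw2, h.zw2, asc h.zw2, h.nw2, asc h.nw2, h.v2w, asc h.v2w, h.v1w, asc h.v1w, h.bw,
    asc h.bw, h.sw, asc h.sw, h.fw, asc h.fw, h.zw, asc h.zw, h.nw, asc h.nw, h.v1v2, asc h.v1v2, h.bv2,
    asc h.bv2, h.sv2, asc h.sv2, h.fv2, asc h.fv2, h.zv2, asc h.zv2, h.nv2, asc h.nv2, h.bv1, asc h.bv1, h.sv1,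
    asc h.sv1, h.fv1, asc h.fv1, h.zv1, asc h.zv1, h.nv1, asc h.nv1, h.sb, asc h.sb, h.fb, asc h.fb, h.zb,
    asc h.zb, h.nb, asc h.nb, h.fs, asc h.fs, h.zs, asc h.zs, h.ns, asc h.ns, h.zf, asc h.zf, h.nf, asc h.nf,
    h.nz, asc h.nz]
    · refine ⟨b, h.bL, ?_⟩
      rw [h0]
      simp only [mul_assoc, one_mul, mul_one, h.xx, asc h.xx, h.zz, asc h.zz, h.ff, asc h.ff, h.v11, asc h.v11,
    h.v22, asc h.v22, h.ss, asc h.ss, h.bb, asc h.bb, h.ww, asc h.ww, h.w22, asc h.w22, h.nn, asc h.nn, h.w2x,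
    asc h.w2x, h.wx, asc h.wx, h.v2x, asc h.v2x, h.v1x, asc h.v1x, h.bx, asc h.bx, h.sx, asc h.sx, h.fx,
    asc h.fx, h.zx, asc h.zx, h.nx, asc h.nx, h.v2w2, asc h.v2w2, h.v1w2, asc h.v1w2, h.bw2, asc h.bw2, h.sw2,
    asc h.sw2, h.fw2, asc h.fw2, h.zw2, asc h.zw2, h.nw2, asc h.nw2, h.v2w, asc h.v2w, h.v1w, asc h.v1w, h.bw,
    asc h.bw, h.sw, asc h.sw, h.fw, asc h.fw, h.zw, asc h.zw, h.nw, asc h.nw, h.v1v2, asc h.v1v2, h.bv2,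
    asc h.bv2, h.sv2, asc h.sv2, h.fv2, asc h.fv2, h.zv2, asc h.zv2, h.nv2, asc h.nv2, h.bv1, asc h.bv1, h.sv1,
    asc h.sv1, h.fv1, asc h.fv1, h.zv1, asc h.zv1, h.nv1, asc h.nv1, h.sb, asc h.sb, h.fb, asc h.fb, h.zb,
    asc h.zb, h.nb, asc h.nb, h.fs, asc h.fs, h.zs, asc h.zs, h.ns, asc h.ns, h.zf, asc h.zf, h.nf, asc h.nf,
    h.nz, asc h.nz]
  have M := h.mr hk
  have hgx : c * k * x = x * (c * k) := by
    have h1 : k * (z * n) = z * n * k := by rw [← mul_assoc, M.mz, mul_assoc, M.mn, mul_assoc]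
    rw [mul_assoc, hkx, h1, ← mul_assoc x, ← mul_assoc, hcx, mul_assoc]
  have hgz : c * k * z = z * (c * k) := by
    rw [hc]
    simp only [mul_assoc, one_mul, mul_one, h.xx, asc h.xx, h.zz, asc h.zz, h.ff, asc h.ff, h.v11, asc h.v11,
    h.v22, asc h.v22, h.ss, asc h.ss, h.bb, asc h.bb, h.ww, asc h.ww, h.w22, asc h.w22, h.nn, asc h.nn, h.w2x,
    asc h.w2x, h.wx, asc h.wx, h.v2x, asc h.v2x, h.v1x, asc h.v1x, h.bx, asc h.bx, h.sx, asc h.sx, h.fx,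
    asc h.fx, h.zx, asc h.zx, h.nx, asc h.nx, h.v2w2, asc h.v2w2, h.v1w2, asc h.v1w2, h.bw2, asc h.bw2, h.sw2,
    asc h.sw2, h.fw2, asc h.fw2, h.zw2, asc h.zw2, h.nw2, asc h.nw2, h.v2w, asc h.v2w, h.v1w, asc h.v1w, h.bw,
    asc h.bw, h.sw, asc h.sw, h.fw, asc h.fw, h.zw, asc h.zw, h.nw, asc h.nw, h.v1v2, asc h.v1v2, h.bv2,
    asc h.bv2, h.sv2, asc h.sv2, h.fv2, asc h.fv2, h.zv2, asc h.zv2, h.nv2, asc h.nv2, h.bv1, asc h.bv1, h.sv1,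
    asc h.sv1, h.fv1, asc h.fv1, h.zv1, asc h.zv1, h.nv1, asc h.nv1, h.sb, asc h.sb, h.fb, asc h.fb, h.zb,
    asc h.zb, h.nb, asc h.nb, h.fs, asc h.fs, h.zs, asc h.zs, h.ns, asc h.ns, h.zf, asc h.zf, h.nf, asc h.nf,
    h.nz, asc h.nz, M.mw2, asc M.mw2, M.mw, asc M.mw, M.mv2, asc M.mv2, M.mv1, asc M.mv1, M.mb, asc M.mb, M.ms,
    asc M.ms, M.mf, asc M.mf, M.mz, asc M.mz, M.mn, asc M.mn, M.mm, asc M.mm]
  have hgf : c * k * f = f * (c * k) := by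
    rw [hc]
    simp only [mul_assoc, one_mul, mul_one, h.xx, asc h.xx, h.zz, asc h.zz, h.ff, asc h.ff, h.v11, asc h.v11,
    h.v22, asc h.v22, h.ss, asc h.ss, h.bb, asc h.bb, h.ww, asc h.ww, h.w22, asc h.w22, h.nn, asc h.nn, h.w2x,
    asc h.w2x, h.wx, asc h.wx, h.v2x, asc h.v2x, h.v1x, asc h.v1x, h.bx, asc h.bx, h.sx, asc h.sx, h.fx,
    asc h.fx, h.zx, asc h.zx, h.nx, asc h.nx, h.v2w2, asc h.v2w2, h.v1w2, asc h.v1w2, h.bw2, asc h.bw2, h.sw2,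
    asc h.sw2, h.fw2, asc h.fw2, h.zw2, asc h.zw2, h.nw2, asc h.nw2, h.v2w, asc h.v2w, h.v1w, asc h.v1w, h.bw,
    asc h.bw, h.sw, asc h.sw, h.fw, asc h.fw, h.zw, asc h.zw, h.nw, asc h.nw, h.v1v2, asc h.v1v2, h.bv2,
    asc h.bv2, h.sv2, asc h.sv2, h.fv2, asc h.fv2, h.zv2, asc h.zv2, h.nv2, asc h.nv2, h.bv1, asc h.bv1, h.sv1,
    asc h.sv1, h.fv1, asc h.fv1, h.zv1, asc h.zv1, h.nv1, asc h.nv1, h.sb, asc h.sb, h.fb, asc h.fb, h.zb,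
    asc h.zb, h.nb, asc h.nb, h.fs, asc h.fs, h.zs, asc h.zs, h.ns, asc h.ns, h.zf, asc h.zf, h.nf, asc h.nf,
    h.nz, asc h.nz, M.mw2, asc M.mw2, M.mw, asc M.mw, M.mv2, asc M.mv2, M.mv1, asc M.mv1, M.mb, asc M.mb, M.ms,
    asc M.ms, M.mf, asc M.mf, M.mz, asc M.mz, M.mn, asc M.mn, M.mm, asc M.mm]
  have hgs : c * k * s = s * (c * k) := by
    rw [hc]
    simp only [mul_assoc, one_mul, mul_one, h.xx, asc h.xx, h.zz, asc h.zz, h.ff, asc h.ff, h.v11, asc h.v11,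
    h.v22, asc h.v22, h.ss, asc h.ss, h.bb, asc h.bb, h.ww, asc h.ww, h.w22, asc h.w22, h.nn, asc h.nn, h.w2x,
    asc h.w2x, h.wx, asc h.wx, h.v2x, asc h.v2x, h.v1x, asc h.v1x, h.bx, asc h.bx, h.sx, asc h.sx, h.fx,
    asc h.fx, h.zx, asc h.zx, h.nx, asc h.nx, h.v2w2, asc h.v2w2, h.v1w2, asc h.v1w2, h.bw2, asc h.bw2, h.sw2,
    asc h.sw2, h.fw2, asc h.fw2, h.zw2, asc h.zw2, h.nw2, asc h.nw2, h.v2w, asc h.v2w, h.v1w, asc h.v1w, h.bw,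
    asc h.bw, h.sw, asc h.sw, h.fw, asc h.fw, h.zw, asc h.zw, h.nw, asc h.nw, h.v1v2, asc h.v1v2, h.bv2,
    asc h.bv2, h.sv2, asc h.sv2, h.fv2, asc h.fv2, h.zv2, asc h.zv2, h.nv2, asc h.nv2, h.bv1, asc h.bv1, h.sv1,
    asc h.sv1, h.fv1, asc h.fv1, h.zv1, asc h.zv1, h.nv1, asc h.nv1, h.sb, asc h.sb, h.fb, asc h.fb, h.zb,
    asc h.zb, h.nb, asc h.nb, h.fs, asc h.fs, h.zs, asc h.zs, h.ns, asc h.ns, h.zf, asc h.zf, h.nf, asc h.nf,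
    h.nz, asc h.nz, M.mw2, asc M.mw2, M.mw, asc M.mw, M.mv2, asc M.mv2, M.mv1, asc M.mv1, M.mb, asc M.mb, M.ms,
    asc M.ms, M.mf, asc M.mf, M.mz, asc M.mz, M.mn, asc M.mn, M.mm, asc M.mm]
  have hg := h.T0_le (h.cent _ hgx hgz hgf)
  obtain ⟨q, hq, hq2⟩ : ∃ q ∈ h.D2, c * k = q := by
    rcases hg with hg | ⟨q, hq, hg⟩
    · exact ⟨_, hg, rfl⟩
    · exfalso
      rw [hg] at hgs
      have h1 := h.comm_D2 h.zs.symm h.fs.symm h.sv1 h.sv2 q hq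
      rw [mul_assoc, ← h1, ← mul_assoc s, h.sx] at hgs
      have h2 : s * q = s * z * q := by
        have h3 : x * (s * q) = x * (s * z * q) := by rw [hgs]; group
        exact mul_left_cancel h3
      rw [mul_assoc] at h2
      exact h.z1 (mul_eq_right.mp (mul_left_cancel h2).symm)
  have hck : c = q * k := by
    rw [← hq2, mul_assoc, M.mm, mul_one]
  have hcw : c * (w * (c * w)) = 1 := by
    rw [hc]
    simp only [mul_assoc, one_mul, mul_one, h.xx, asc h.xx, h.zz, asc h.zz, h.ff, asc h.ff, h.v11, asc h.v11,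
    h.v22, asc h.v22, h.ss, asc h.ss, h.bb, asc h.bb, h.ww, asc h.ww, h.w22, asc h.w22, h.nn, asc h.nn, h.w2x,
    asc h.w2x, h.wx, asc h.wx, h.v2x, asc h.v2x, h.v1x, asc h.v1x, h.bx, asc h.bx, h.sx, asc h.sx, h.fx,
    asc h.fx, h.zx, asc h.zx, h.nx, asc h.nx, h.v2w2, asc h.v2w2, h.v1w2, asc h.v1w2, h.bw2, asc h.bw2, h.sw2,
    asc h.sw2, h.fw2, asc h.fw2, h.zw2, asc h.zw2, h.nw2, asc h.nw2, h.v2w, asc h.v2w, h.v1w, asc h.v1w, h.bw,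
    asc h.bw, h.sw, asc h.sw, h.fw, asc h.fw, h.zw, asc h.zw, h.nw, asc h.nw, h.v1v2, asc h.v1v2, h.bv2,
    asc h.bv2, h.sv2, asc h.sv2, h.fv2, asc h.fv2, h.zv2, asc h.zv2, h.nv2, asc h.nv2, h.bv1, asc h.bv1, h.sv1,
    asc h.sv1, h.fv1, asc h.fv1, h.zv1, asc h.zv1, h.nv1, asc h.nv1, h.sb, asc h.sb, h.fb, asc h.fb, h.zb,
    asc h.zb, h.nb, asc h.nb, h.fs, asc h.fs, h.zs, asc h.zs, h.ns, asc h.ns, h.zf, asc h.zf, h.nf, asc h.nf,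
    h.nz, asc h.nz]
  have hcw2 : c * (w₂ * (c * w₂)) = 1 := by
    rw [hc]
    simp only [mul_assoc, one_mul, mul_one, h.xx, asc h.xx, h.zz, asc h.zz, h.ff, asc h.ff, h.v11, asc h.v11,
    h.v22, asc h.v22, h.ss, asc h.ss, h.bb, asc h.bb, h.ww, asc h.ww, h.w22, asc h.w22, h.nn, asc h.nn, h.w2x,
    asc h.w2x, h.wx, asc h.wx, h.v2x, asc h.v2x, h.v1x, asc h.v1x, h.bx, asc h.bx, h.sx, asc h.sx, h.fx,
    asc h.fx, h.zx, asc h.zx, h.nx, asc h.nx, h.v2w2, asc h.v2w2, h.v1w2, asc h.v1w2, h.bw2, asc h.bw2, h.sw2,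
    asc h.sw2, h.fw2, asc h.fw2, h.zw2, asc h.zw2, h.nw2, asc h.nw2, h.v2w, asc h.v2w, h.v1w, asc h.v1w, h.bw,
    asc h.bw, h.sw, asc h.sw, h.fw, asc h.fw, h.zw, asc h.zw, h.nw, asc h.nw, h.v1v2, asc h.v1v2, h.bv2,
    asc h.bv2, h.sv2, asc h.sv2, h.fv2, asc h.fv2, h.zv2, asc h.zv2, h.nv2, asc h.nv2, h.bv1, asc h.bv1, h.sv1,
    asc h.sv1, h.fv1, asc h.fv1, h.zv1, asc h.zv1, h.nv1, asc h.nv1, h.sb, asc h.sb, h.fb, asc h.fb, h.zb,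
    asc h.zb, h.nb, asc h.nb, h.fs, asc h.fs, h.zs, asc h.zs, h.ns, asc h.ns, h.zf, asc h.zf, h.nf, asc h.nf,
    h.nz, asc h.nz]
  have hsn : s * n ≠ 1 := by
    intro h0
    rcases h.hn with h1 | h1 | h1 | h1
    · rw [h1, mul_one] at h0; exact hs1 h0
    · rw [h1] at h0; exact hsz (by rw [← mul_one s, ← h.zz, ← mul_assoc, h0, one_mul])
    · have h2 : s = n := by rw [← mul_one s, ← h.nn, ← mul_assoc, h0, one_mul]
      exact h.s_ne h2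
    · have h2 : s = n := by rw [← mul_one s, ← h.nn, ← mul_assoc, h0, one_mul]
      exact h.s_ne h2
  -- `q = v₂^j v₁^i q₀`
  rcases hq with (hq | ⟨q₀, hq0, rfl⟩) | ⟨_, (hq | ⟨q₀, hq0, rfl⟩), rfl⟩
  · rw [hck]
    exact mul_mem (h.l_le hq) hk
  · exfalso
    have hm : q₀ * k ∈ h.L := mul_mem (h.l_le hq0) hk
    set m := q₀ * k with hm0
    have M := h.mr hm
    have e : c = v₁ * m := by rw [hck, hm0, mul_assoc]
    rw [e] at hcw2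
    have h1 : v₁ * m * (w₂ * (v₁ * m * w₂)) = s * n := by
      simp only [mul_assoc, one_mul, mul_one, h.xx, asc h.xx, h.zz, asc h.zz, h.ff, asc h.ff, h.v11, asc h.v11,
    h.v22, asc h.v22, h.ss, asc h.ss, h.bb, asc h.bb, h.ww, asc h.ww, h.w22, asc h.w22, h.nn, asc h.nn, h.w2x,
    asc h.w2x, h.wx, asc h.wx, h.v2x, asc h.v2x, h.v1x, asc h.v1x, h.bx, asc h.bx, h.sx, asc h.sx, h.fx,
    asc h.fx, h.zx, asc h.zx, h.nx, asc h.nx, h.v2w2, asc h.v2w2, h.v1w2, asc h.v1w2, h.bw2, asc h.bw2, h.sw2,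
    asc h.sw2, h.fw2, asc h.fw2, h.zw2, asc h.zw2, h.nw2, asc h.nw2, h.v2w, asc h.v2w, h.v1w, asc h.v1w, h.bw,
    asc h.bw, h.sw, asc h.sw, h.fw, asc h.fw, h.zw, asc h.zw, h.nw, asc h.nw, h.v1v2, asc h.v1v2, h.bv2,
    asc h.bv2, h.sv2, asc h.sv2, h.fv2, asc h.fv2, h.zv2, asc h.zv2, h.nv2, asc h.nv2, h.bv1, asc h.bv1, h.sv1,
    asc h.sv1, h.fv1, asc h.fv1, h.zv1, asc h.zv1, h.nv1, asc h.nv1, h.sb, asc h.sb, h.fb, asc h.fb, h.zb,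
    asc h.zb, h.nb, asc h.nb, h.fs, asc h.fs, h.zs, asc h.zs, h.ns, asc h.ns, h.zf, asc h.zf, h.nf, asc h.nf,
    h.nz, asc h.nz, M.mw2, asc M.mw2, M.mw, asc M.mw, M.mv2, asc M.mv2, M.mv1, asc M.mv1, M.mb, asc M.mb, M.ms,
    asc M.ms, M.mf, asc M.mf, M.mz, asc M.mz, M.mn, asc M.mn, M.mm, asc M.mm]
    exact hsn (h1.symm.trans hcw2)
  · exfalso
    rename_i q₀
    have hm : q₀ * k ∈ h.L := mul_mem (h.l_le hq) hk
    set m := q₀ * k with hm0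
    have M := h.mr hm
    have e : c = v₂ * m := by rw [hck, hm0, mul_assoc]
    rw [e] at hcw
    have h1 : v₂ * m * (w * (v₂ * m * w)) = s := by
      simp only [mul_assoc, one_mul, mul_one, h.xx, asc h.xx, h.zz, asc h.zz, h.ff, asc h.ff, h.v11, asc h.v11,
    h.v22, asc h.v22, h.ss, asc h.ss, h.bb, asc h.bb, h.ww, asc h.ww, h.w22, asc h.w22, h.nn, asc h.nn, h.w2x,
    asc h.w2x, h.wx, asc h.wx, h.v2x, asc h.v2x, h.v1x, asc h.v1x, h.bx, asc h.bx, h.sx, asc h.sx, h.fx,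
    asc h.fx, h.zx, asc h.zx, h.nx, asc h.nx, h.v2w2, asc h.v2w2, h.v1w2, asc h.v1w2, h.bw2, asc h.bw2, h.sw2,
    asc h.sw2, h.fw2, asc h.fw2, h.zw2, asc h.zw2, h.nw2, asc h.nw2, h.v2w, asc h.v2w, h.v1w, asc h.v1w, h.bw,
    asc h.bw, h.sw, asc h.sw, h.fw, asc h.fw, h.zw, asc h.zw, h.nw, asc h.nw, h.v1v2, asc h.v1v2, h.bv2,
    asc h.bv2, h.sv2, asc h.sv2, h.fv2, asc h.fv2, h.zv2, asc h.zv2, h.nv2, asc h.nv2, h.bv1, asc h.bv1, h.sv1,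
    asc h.sv1, h.fv1, asc h.fv1, h.zv1, asc h.zv1, h.nv1, asc h.nv1, h.sb, asc h.sb, h.fb, asc h.fb, h.zb,
    asc h.zb, h.nb, asc h.nb, h.fs, asc h.fs, h.zs, asc h.zs, h.ns, asc h.ns, h.zf, asc h.zf, h.nf, asc h.nf,
    h.nz, asc h.nz, M.mw2, asc M.mw2, M.mw, asc M.mw, M.mv2, asc M.mv2, M.mv1, asc M.mv1, M.mb, asc M.mb, M.ms,
    asc M.ms, M.mf, asc M.mf, M.mz, asc M.mz, M.mn, asc M.mn, M.mm, asc M.mm]
    exact hs1 (h1.symm.trans hcw)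
  · exfalso
    have hm : q₀ * k ∈ h.L := mul_mem (h.l_le hq0) hk
    set m := q₀ * k with hm0
    have M := h.mr hm
    have e : c = v₂ * (v₁ * m) := by rw [hck, hm0, mul_assoc, mul_assoc]
    rw [e] at hcw
    have h1 : v₂ * (v₁ * m) * (w * (v₂ * (v₁ * m) * w)) = s * z := by
      simp only [mul_assoc, one_mul, mul_one, h.xx, asc h.xx, h.zz, asc h.zz, h.ff, asc h.ff, h.v11, asc h.v11,
    h.v22, asc h.v22, h.ss, asc h.ss, h.bb, asc h.bb, h.ww, asc h.ww, h.w22, asc h.w22, h.nn, asc h.nn, h.w2x,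
    asc h.w2x, h.wx, asc h.wx, h.v2x, asc h.v2x, h.v1x, asc h.v1x, h.bx, asc h.bx, h.sx, asc h.sx, h.fx,
    asc h.fx, h.zx, asc h.zx, h.nx, asc h.nx, h.v2w2, asc h.v2w2, h.v1w2, asc h.v1w2, h.bw2, asc h.bw2, h.sw2,
    asc h.sw2, h.fw2, asc h.fw2, h.zw2, asc h.zw2, h.nw2, asc h.nw2, h.v2w, asc h.v2w, h.v1w, asc h.v1w, h.bw,
    asc h.bw, h.sw, asc h.sw, h.fw, asc h.fw, h.zw, asc h.zw, h.nw, asc h.nw, h.v1v2, asc h.v1v2, h.bv2,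
    asc h.bv2, h.sv2, asc h.sv2, h.fv2, asc h.fv2, h.zv2, asc h.zv2, h.nv2, asc h.nv2, h.bv1, asc h.bv1, h.sv1,
    asc h.sv1, h.fv1, asc h.fv1, h.zv1, asc h.zv1, h.nv1, asc h.nv1, h.sb, asc h.sb, h.fb, asc h.fb, h.zb,
    asc h.zb, h.nb, asc h.nb, h.fs, asc h.fs, h.zs, asc h.zs, h.ns, asc h.ns, h.zf, asc h.zf, h.nf, asc h.nf,
    h.nz, asc h.nz, M.mw2, asc M.mw2, M.mw, asc M.mw, M.mv2, asc M.mv2, M.mv1, asc M.mv1, M.mb, asc M.mb, M.ms,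
    asc M.ms, M.mf, asc M.mf, M.mz, asc M.mz, M.mn, asc M.mn, M.mm, asc M.mm]
    have h2 := h1.symm.trans hcw
    exact hsz (by rw [← mul_one s, ← h.zz, ← mul_assoc, h2, one_mul])

end Base

end Cfsg.Agent.OddHalf.D5.SixAut.Zero

end

-- merged: Cfsg.Agent.OddHalf.D5.SixAut.ZeroP
section

/-!
# ODD half, `K = A₆`, C3b, (DBL), `e = 0`: the involutions of `xP`
-/

set_option autoImplicit false
set_option linter.unusedSimpArgs false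
set_option linter.unusedVariables false

namespace Cfsg.Agent.OddHalf.D5.SixAut.Zero

open Subgroup

variable {G : Type*} [Group G] {x z f v₁ v₂ s b w w₂ n m₀ : G}

theorem cj_comm {g q : G} (h : g * q = q * g) : g⁻¹ * q * g = q := by
  rw [mul_assoc, ← h, inv_mul_cancel_left]

theorem cj_of {g q q' : G} (h : q * g = g * q') : g⁻¹ * q * g = q' := by
  rw [mul_assoc, h, inv_mul_cancel_left]

/-- `Base` together with `[w, w₂] = m₀` -/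
structure B2 (x z f v₁ v₂ s b w w₂ n m₀ : G) : Prop where
  h : Base x z f v₁ v₂ s b w w₂ n
  m0 : m₀ ∈ h.L
  ww2 : w * w₂ = w₂ * (w * m₀)

theorem Base.toB2 (h : Base x z f v₁ v₂ s b w w₂ n) : B2 x z f v₁ v₂ s b w w₂ n (w * (w₂ * (w * w₂))) where
  h := h
  m0 := h.c_mem
  ww2 := by
    have M := h.mr h.c_mem
    have e : w * (w₂ * (w * (w₂ * (w₂ * w)))) = w * w₂ := by
      rw [asc h.w22, one_mul, h.ww, mul_one]
    have e2 : w * (w₂ * (w * w₂)) * (w₂ * w) = w * w₂ := by simp only [mul_assoc]; exact e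
    calc w * w₂ = w * (w₂ * (w * w₂)) * (w₂ * w) := e2.symm
      _ = w₂ * (w * (w * (w₂ * (w * w₂)))) := by
        rw [← mul_assoc, M.mw2, mul_assoc, M.mw]

namespace B2

variable (k : B2 x z f v₁ v₂ s b w w₂ n m₀)

def L1 : Subgroup G := Base.extc k.h.L v₁ k.h.v11 (k.h.comm_L k.h.zv1.symm k.h.fv1.symm k.h.sv1.symm k.h.bv1.symm)

theorem cL {g : G} (hz : g * z = z * g) (hf : g * f = f * g) (hs : g * s = s * g) (hb : g * b = b * g) :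
    ∀ q ∈ k.h.L, g⁻¹ * q * g = q := fun q hq => cj_comm (k.h.comm_L hz hf hs hb q hq)

theorem L_le1 {m : G} (hm : m ∈ k.h.L) : m ∈ k.L1 := Or.inl hm
theorem v1L1 {m : G} (hm : m ∈ k.h.L) : v₁ * m ∈ k.L1 := Or.inr ⟨m, hm, rfl⟩

theorem hn2 : ∀ q ∈ k.L1, v₂⁻¹ * q * v₂ ∈ k.L1 := by
  apply Base.conj_extc
  · intro q hq
    rw [k.cL k.h.zv2.symm k.h.fv2.symm k.h.sv2.symm k.h.bv2.symm q hq]
    exact k.L_le1 hq
  · rw [cj_of k.h.v1v2]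
    exact k.v1L1 k.h.zL

def L2 : Subgroup G := ext k.L1 v₂ (by rw [k.h.v22]; exact one_mem _) k.hn2

theorem L1_le2 {m : G} (hm : m ∈ k.L1) : m ∈ k.L2 := Or.inl hm
theorem v2L2 {m : G} (hm : m ∈ k.L1) : v₂ * m ∈ k.L2 := Or.inr ⟨m, hm, rfl⟩

theorem conj_L2 {g : G} {Q : Subgroup G} (h0 : ∀ q ∈ k.h.L, g⁻¹ * q * g ∈ Q)
    (h1 : g⁻¹ * v₁ * g ∈ Q) (h2 : g⁻¹ * v₂ * g ∈ Q) :
    ∀ q ∈ k.L2, g⁻¹ * q * g ∈ Q := by
  have h3 : ∀ q ∈ k.L1, g⁻¹ * q * g ∈ Q := by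
    rintro p (hp | ⟨q, hq, rfl⟩)
    · exact h0 p hp
    · have : g⁻¹ * (v₁ * q) * g = (g⁻¹ * v₁ * g) * (g⁻¹ * q * g) := by group
      rw [this]
      exact mul_mem h1 (h0 q hq)
  rintro p (hp | ⟨q, hq, rfl⟩)
  · exact h3 p hp
  · have : g⁻¹ * (v₂ * q) * g = (g⁻¹ * v₂ * g) * (g⁻¹ * q * g) := by group
    rw [this]
    exact mul_mem h2 (h3 q hq)

theorem v1m2 : v₁ ∈ k.L2 := by
  have := k.L1_le2 (k.v1L1 (one_mem k.h.L))
  rwa [mul_one] at this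
theorem v2m2 : v₂ ∈ k.L2 := by
  have := k.v2L2 (one_mem k.L1)
  rwa [mul_one] at this
theorem L_le2 {m : G} (hm : m ∈ k.h.L) : m ∈ k.L2 := k.L1_le2 (k.L_le1 hm)

theorem hn3 : ∀ q ∈ k.L2, w⁻¹ * q * w ∈ k.L2 := by
  apply k.conj_L2
  · intro q hq
    rw [k.cL k.h.zw.symm k.h.fw.symm k.h.sw.symm k.h.bw.symm q hq]
    exact k.L_le2 hq
  · rw [cj_of k.h.v1w]
    exact k.v1m2
  · rw [cj_of k.h.v2w]
    exact mul_mem k.v2m2 (k.L_le2 k.h.sL)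

def L3 : Subgroup G := ext k.L2 w (by rw [k.h.ww]; exact one_mem _) k.hn3

theorem L2_le3 {m : G} (hm : m ∈ k.L2) : m ∈ k.L3 := Or.inl hm
theorem wL3 {m : G} (hm : m ∈ k.L2) : w * m ∈ k.L3 := Or.inr ⟨m, hm, rfl⟩
theorem wm3 : w ∈ k.L3 := by
  have := k.wL3 (one_mem k.L2)
  rwa [mul_one] at this

theorem conj_L3 {g : G} {Q : Subgroup G} (h0 : ∀ q ∈ k.h.L, g⁻¹ * q * g ∈ Q)
    (h1 : g⁻¹ * v₁ * g ∈ Q) (h2 : g⁻¹ * v₂ * g ∈ Q) (h3 : g⁻¹ * w * g ∈ Q) :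
    ∀ q ∈ k.L3, g⁻¹ * q * g ∈ Q := by
  rintro p (hp | ⟨q, hq, rfl⟩)
  · exact k.conj_L2 h0 h1 h2 p hp
  · have : g⁻¹ * (w * q) * g = (g⁻¹ * w * g) * (g⁻¹ * q * g) := by group
    rw [this]
    exact mul_mem h3 (k.conj_L2 h0 h1 h2 q hq)

theorem hn4 : ∀ q ∈ k.L3, w₂⁻¹ * q * w₂ ∈ k.L3 := by
  apply k.conj_L3
  · intro q hq
    rw [k.cL k.h.zw2.symm k.h.fw2.symm k.h.sw2.symm k.h.bw2.symm q hq]
    exact k.L2_le3 (k.L_le2 hq)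
  · rw [cj_of k.h.v1w2]
    exact k.L2_le3 (mul_mem k.v1m2 (k.L_le2 (mul_mem k.h.sL k.h.nL)))
  · rw [cj_of k.h.v2w2]
    exact k.L2_le3 k.v2m2
  · rw [cj_of k.ww2]
    exact mul_mem k.wm3 (k.L2_le3 (k.L_le2 k.m0))

/-- `P = ⟨L, v₁, v₂, w, w₂⟩` -/
def P : Subgroup G := ext k.L3 w₂ (by rw [k.h.w22]; exact one_mem _) k.hn4

theorem L3_leP {m : G} (hm : m ∈ k.L3) : m ∈ k.P := Or.inl hm
theorem w2m : w₂ ∈ k.P := Or.inr ⟨1, one_mem _, (mul_one _).symm⟩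
theorem wm : w ∈ k.P := k.L3_leP k.wm3
theorem v1m : v₁ ∈ k.P := k.L3_leP (k.L2_le3 k.v1m2)
theorem v2m : v₂ ∈ k.P := k.L3_leP (k.L2_le3 k.v2m2)
theorem Lm {m : G} (hm : m ∈ k.h.L) : m ∈ k.P := k.L3_leP (k.L2_le3 (k.L_le2 hm))

theorem conj_P {g : G} {Q : Subgroup G} (h0 : ∀ q ∈ k.h.L, g⁻¹ * q * g ∈ Q)
    (h1 : g⁻¹ * v₁ * g ∈ Q) (h2 : g⁻¹ * v₂ * g ∈ Q) (h3 : g⁻¹ * w * g ∈ Q) (h4 : g⁻¹ * w₂ * g ∈ Q) :
    ∀ q ∈ k.P, g⁻¹ * q * g ∈ Q := by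
  rintro p (hp | ⟨q, hq, rfl⟩)
  · exact k.conj_L3 h0 h1 h2 h3 p hp
  · have : g⁻¹ * (w₂ * q) * g = (g⁻¹ * w₂ * g) * (g⁻¹ * q * g) := by group
    rw [this]
    exact mul_mem h4 (k.conj_L3 h0 h1 h2 h3 q hq)

/-- the elements of `P` -/
theorem form {p : G} (hp : p ∈ k.P) : ∃ m ∈ k.h.L, ∃ u, (u = m ∨ u = v₁ * m ∨ u = v₂ * m ∨ u = v₂ * (v₁ * m)) ∧
    (p = u ∨ p = w * u ∨ p = w₂ * u ∨ p = w₂ * (w * u)) := by
  have h2 : ∀ {q : G}, q ∈ k.L2 → ∃ m ∈ k.h.L, (q = m ∨ q = v₁ * m ∨ q = v₂ * m ∨ q = v₂ * (v₁ * m)) := by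
    rintro q ((hq | ⟨q, hq, rfl⟩) | ⟨_, (hq | ⟨q, hq, rfl⟩), rfl⟩)
    · exact ⟨_, hq, Or.inl rfl⟩
    · exact ⟨_, hq, Or.inr (Or.inl rfl)⟩
    · exact ⟨_, hq, Or.inr (Or.inr (Or.inl rfl))⟩
    · exact ⟨_, hq, Or.inr (Or.inr (Or.inr rfl))⟩
  rcases hp with (hp | ⟨q, hq, rfl⟩) | ⟨_, (hq | ⟨q, hq, rfl⟩), rfl⟩
  · obtain ⟨m, hm, hu⟩ := h2 hp
    exact ⟨m, hm, _, hu, Or.inl rfl⟩
  · obtain ⟨m, hm, hu⟩ := h2 hq
    exact ⟨m, hm, _, hu, Or.inr (Or.inl rfl)⟩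
  · obtain ⟨m, hm, hu⟩ := h2 hq
    exact ⟨m, hm, _, hu, Or.inr (Or.inr (Or.inl rfl))⟩
  · obtain ⟨m, hm, hu⟩ := h2 hq
    exact ⟨m, hm, _, hu, Or.inr (Or.inr (Or.inr rfl))⟩

theorem isPGroup_extc {Q : Subgroup G} {g : G} {hg : g * g = 1} {hc : ∀ q ∈ Q, g * q = q * g}
    (hQ : IsPGroup 2 Q) : IsPGroup 2 (Base.extc Q g hg hc) := isPGroup_ext hQ

theorem pgroup : IsPGroup 2 k.P :=
  isPGroup_ext (isPGroup_ext (isPGroup_ext (isPGroup_extc (isPGroup_extc (isPGroup_extc (isPGroup_extc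
    (isPGroup_extc IsPGroup.of_bot)))))))

/-- `P` centralises `L` -/
theorem comm_P {m : G} (hm : m ∈ k.h.L) : ∀ p ∈ k.P, m * p = p * m := by
  have M := k.h.mr hm
  have hL : ∀ q ∈ k.h.L, m * q = q * m := k.h.comm_L M.mz M.mf M.ms M.mb
  exact comm_ext (comm_ext (comm_ext (Base.comm_extc hL M.mv1) M.mv2) M.mw) M.mw2

theorem xP : x ∉ k.P := by
  intro hx
  have h1 := k.comm_P k.h.sL x hx
  rw [k.h.sx] at h1
  exact k.h.z1 (mul_eq_left.mp (mul_left_cancel h1))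

/-- `x` normalises `L` -/
theorem exists_x {m : G} (hm : m ∈ k.h.L) : ∃ m' ∈ k.h.L, m * x = x * m' ∧
    ((InL z f m ∧ m' = m) ∨ (m' = m * z ∧ ∃ t, InL z f t ∧ m = s * t) ∨ m' = m * f ∨ m' = m * (f * z)) := by
  have h := k.h
  obtain ⟨t, ht, hm⟩ := k.h.mem_L.1 hm
  have htx : t * x = x * t := by
    rcases ht with ht | ht | ht | ht <;> rw [ht] <;> simp only [mul_assoc, one_mul, mul_one, h.xx, asc h.xx, h.zz, asc h.zz, h.ff, asc h.ff, h.v11, asc h.v11,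
    h.v22, asc h.v22, h.ss, asc h.ss, h.bb, asc h.bb, h.ww, asc h.ww, h.w22, asc h.w22, h.nn, asc h.nn, h.w2x,
    asc h.w2x, h.wx, asc h.wx, h.v2x, asc h.v2x, h.v1x, asc h.v1x, h.bx, asc h.bx, h.sx, asc h.sx, h.fx,
    asc h.fx, h.zx, asc h.zx, h.nx, asc h.nx, h.v2w2, asc h.v2w2, h.v1w2, asc h.v1w2, h.bw2, asc h.bw2, h.sw2,
    asc h.sw2, h.fw2, asc h.fw2, h.zw2, asc h.zw2, h.nw2, asc h.nw2, h.v2w, asc h.v2w, h.v1w, asc h.v1w, h.bw,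
    asc h.bw, h.sw, asc h.sw, h.fw, asc h.fw, h.zw, asc h.zw, h.nw, asc h.nw, h.v1v2, asc h.v1v2, h.bv2,
    asc h.bv2, h.sv2, asc h.sv2, h.fv2, asc h.fv2, h.zv2, asc h.zv2, h.nv2, asc h.nv2, h.bv1, asc h.bv1, h.sv1,
    asc h.sv1, h.fv1, asc h.fv1, h.zv1, asc h.zv1, h.nv1, asc h.nv1, h.sb, asc h.sb, h.fb, asc h.fb, h.zb,
    asc h.zb, h.nb, asc h.nb, h.fs, asc h.fs, h.zs, asc h.zs, h.ns, asc h.ns, h.zf, asc h.zf, h.nf, asc h.nf,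
    h.nz, asc h.nz]
  have M := h.mr (h.l_le (h.mem_l.2 ht))
  rcases hm with hm | hm | hm | hm
  · exact ⟨m, by rw [hm]; exact (h.l_le (h.mem_l.2 ht)), by rw [hm, htx], Or.inl ⟨by rw [hm]; exact ht, rfl⟩⟩
  · refine ⟨m * z, mul_mem ‹_› h.zL, ?_, Or.inr (Or.inl ⟨rfl, t, ht, hm⟩)⟩
    rw [hm, mul_assoc, htx, ← mul_assoc, h.sx]
    simp only [mul_assoc, one_mul, mul_one, h.xx, asc h.xx, h.zz, asc h.zz, h.ff, asc h.ff, h.v11, asc h.v11,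
    h.v22, asc h.v22, h.ss, asc h.ss, h.bb, asc h.bb, h.ww, asc h.ww, h.w22, asc h.w22, h.nn, asc h.nn, h.w2x,
    asc h.w2x, h.wx, asc h.wx, h.v2x, asc h.v2x, h.v1x, asc h.v1x, h.bx, asc h.bx, h.sx, asc h.sx, h.fx,
    asc h.fx, h.zx, asc h.zx, h.nx, asc h.nx, h.v2w2, asc h.v2w2, h.v1w2, asc h.v1w2, h.bw2, asc h.bw2, h.sw2,
    asc h.sw2, h.fw2, asc h.fw2, h.zw2, asc h.zw2, h.nw2, asc h.nw2, h.v2w, asc h.v2w, h.v1w, asc h.v1w, h.bw,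
    asc h.bw, h.sw, asc h.sw, h.fw, asc h.fw, h.zw, asc h.zw, h.nw, asc h.nw, h.v1v2, asc h.v1v2, h.bv2,
    asc h.bv2, h.sv2, asc h.sv2, h.fv2, asc h.fv2, h.zv2, asc h.zv2, h.nv2, asc h.nv2, h.bv1, asc h.bv1, h.sv1,
    asc h.sv1, h.fv1, asc h.fv1, h.zv1, asc h.zv1, h.nv1, asc h.nv1, h.sb, asc h.sb, h.fb, asc h.fb, h.zb,
    asc h.zb, h.nb, asc h.nb, h.fs, asc h.fs, h.zs, asc h.zs, h.ns, asc h.ns, h.zf, asc h.zf, h.nf, asc h.nf,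
    h.nz, asc h.nz, M.mw2, asc M.mw2, M.mw, asc M.mw, M.mv2, asc M.mv2, M.mv1, asc M.mv1, M.mb, asc M.mb, M.ms,
    asc M.ms, M.mf, asc M.mf, M.mz, asc M.mz, M.mn, asc M.mn, M.mm, asc M.mm]
  · refine ⟨m * f, mul_mem ‹_› h.fL, ?_, Or.inr (Or.inr (Or.inl rfl))⟩
    rw [hm, mul_assoc, htx, ← mul_assoc, h.bx]
    simp only [mul_assoc, one_mul, mul_one, h.xx, asc h.xx, h.zz, asc h.zz, h.ff, asc h.ff, h.v11, asc h.v11,
    h.v22, asc h.v22, h.ss, asc h.ss, h.bb, asc h.bb, h.ww, asc h.ww, h.w22, asc h.w22, h.nn, asc h.nn, h.w2x,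
    asc h.w2x, h.wx, asc h.wx, h.v2x, asc h.v2x, h.v1x, asc h.v1x, h.bx, asc h.bx, h.sx, asc h.sx, h.fx,
    asc h.fx, h.zx, asc h.zx, h.nx, asc h.nx, h.v2w2, asc h.v2w2, h.v1w2, asc h.v1w2, h.bw2, asc h.bw2, h.sw2,
    asc h.sw2, h.fw2, asc h.fw2, h.zw2, asc h.zw2, h.nw2, asc h.nw2, h.v2w, asc h.v2w, h.v1w, asc h.v1w, h.bw,
    asc h.bw, h.sw, asc h.sw, h.fw, asc h.fw, h.zw, asc h.zw, h.nw, asc h.nw, h.v1v2, asc h.v1v2, h.bv2,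
    asc h.bv2, h.sv2, asc h.sv2, h.fv2, asc h.fv2, h.zv2, asc h.zv2, h.nv2, asc h.nv2, h.bv1, asc h.bv1, h.sv1,
    asc h.sv1, h.fv1, asc h.fv1, h.zv1, asc h.zv1, h.nv1, asc h.nv1, h.sb, asc h.sb, h.fb, asc h.fb, h.zb,
    asc h.zb, h.nb, asc h.nb, h.fs, asc h.fs, h.zs, asc h.zs, h.ns, asc h.ns, h.zf, asc h.zf, h.nf, asc h.nf,
    h.nz, asc h.nz, M.mw2, asc M.mw2, M.mw, asc M.mw, M.mv2, asc M.mv2, M.mv1, asc M.mv1, M.mb, asc M.mb, M.ms,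
    asc M.ms, M.mf, asc M.mf, M.mz, asc M.mz, M.mn, asc M.mn, M.mm, asc M.mm]
  · refine ⟨m * (f * z), mul_mem ‹_› (mul_mem h.fL h.zL), ?_, Or.inr (Or.inr (Or.inr rfl))⟩
    rw [hm, mul_assoc, mul_assoc, htx, ← mul_assoc s, h.sx]
    simp only [mul_assoc, one_mul, mul_one, h.xx, asc h.xx, h.zz, asc h.zz, h.ff, asc h.ff, h.v11, asc h.v11,
    h.v22, asc h.v22, h.ss, asc h.ss, h.bb, asc h.bb, h.ww, asc h.ww, h.w22, asc h.w22, h.nn, asc h.nn, h.w2x,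
    asc h.w2x, h.wx, asc h.wx, h.v2x, asc h.v2x, h.v1x, asc h.v1x, h.bx, asc h.bx, h.sx, asc h.sx, h.fx,
    asc h.fx, h.zx, asc h.zx, h.nx, asc h.nx, h.v2w2, asc h.v2w2, h.v1w2, asc h.v1w2, h.bw2, asc h.bw2, h.sw2,
    asc h.sw2, h.fw2, asc h.fw2, h.zw2, asc h.zw2, h.nw2, asc h.nw2, h.v2w, asc h.v2w, h.v1w, asc h.v1w, h.bw,
    asc h.bw, h.sw, asc h.sw, h.fw, asc h.fw, h.zw, asc h.zw, h.nw, asc h.nw, h.v1v2, asc h.v1v2, h.bv2,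
    asc h.bv2, h.sv2, asc h.sv2, h.fv2, asc h.fv2, h.zv2, asc h.zv2, h.nv2, asc h.nv2, h.bv1, asc h.bv1, h.sv1,
    asc h.sv1, h.fv1, asc h.fv1, h.zv1, asc h.zv1, h.nv1, asc h.nv1, h.sb, asc h.sb, h.fb, asc h.fb, h.zb,
    asc h.zb, h.nb, asc h.nb, h.fs, asc h.fs, h.zs, asc h.zs, h.ns, asc h.ns, h.zf, asc h.zf, h.nf, asc h.nf,
    h.nz, asc h.nz, M.mw2, asc M.mw2, M.mw, asc M.mw, M.mv2, asc M.mv2, M.mv1, asc M.mv1, M.mb, asc M.mb, M.ms,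
    asc M.ms, M.mf, asc M.mf, M.mz, asc M.mz, M.mn, asc M.mn, M.mm, asc M.mm]

/-- elements of `L` commute -/
theorem comm_LL {m m' : G} (hm : m ∈ k.h.L) (hm' : m' ∈ k.h.L) : m * m' = m' * m :=
  k.comm_P hm m' (k.Lm hm')

include k in
/-- `x^L = x l` -/
theorem conj_l {t : G} (ht : InL z f t) : ∃ κ ∈ k.h.L, x * κ = κ * (x * t) := by
  have h := k.h
  rcases ht with ht | ht | ht | ht
  · exact ⟨1, one_mem _, by rw [ht, mul_one, one_mul]⟩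
  · refine ⟨s, h.sL, ?_⟩
    rw [ht]
    simp only [mul_assoc, one_mul, mul_one, h.xx, asc h.xx, h.zz, asc h.zz, h.ff, asc h.ff, h.v11, asc h.v11,
    h.v22, asc h.v22, h.ss, asc h.ss, h.bb, asc h.bb, h.ww, asc h.ww, h.w22, asc h.w22, h.nn, asc h.nn, h.w2x,
    asc h.w2x, h.wx, asc h.wx, h.v2x, asc h.v2x, h.v1x, asc h.v1x, h.bx, asc h.bx, h.sx, asc h.sx, h.fx,
    asc h.fx, h.zx, asc h.zx, h.nx, asc h.nx, h.v2w2, asc h.v2w2, h.v1w2, asc h.v1w2, h.bw2, asc h.bw2, h.sw2,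
    asc h.sw2, h.fw2, asc h.fw2, h.zw2, asc h.zw2, h.nw2, asc h.nw2, h.v2w, asc h.v2w, h.v1w, asc h.v1w, h.bw,
    asc h.bw, h.sw, asc h.sw, h.fw, asc h.fw, h.zw, asc h.zw, h.nw, asc h.nw, h.v1v2, asc h.v1v2, h.bv2,
    asc h.bv2, h.sv2, asc h.sv2, h.fv2, asc h.fv2, h.zv2, asc h.zv2, h.nv2, asc h.nv2, h.bv1, asc h.bv1, h.sv1,
    asc h.sv1, h.fv1, asc h.fv1, h.zv1, asc h.zv1, h.nv1, asc h.nv1, h.sb, asc h.sb, h.fb, asc h.fb, h.zb,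
    asc h.zb, h.nb, asc h.nb, h.fs, asc h.fs, h.zs, asc h.zs, h.ns, asc h.ns, h.zf, asc h.zf, h.nf, asc h.nf,
    h.nz, asc h.nz]
  · refine ⟨b, h.bL, ?_⟩
    rw [ht]
    simp only [mul_assoc, one_mul, mul_one, h.xx, asc h.xx, h.zz, asc h.zz, h.ff, asc h.ff, h.v11, asc h.v11,
    h.v22, asc h.v22, h.ss, asc h.ss, h.bb, asc h.bb, h.ww, asc h.ww, h.w22, asc h.w22, h.nn, asc h.nn, h.w2x,
    asc h.w2x, h.wx, asc h.wx, h.v2x, asc h.v2x, h.v1x, asc h.v1x, h.bx, asc h.bx, h.sx, asc h.sx, h.fx,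
    asc h.fx, h.zx, asc h.zx, h.nx, asc h.nx, h.v2w2, asc h.v2w2, h.v1w2, asc h.v1w2, h.bw2, asc h.bw2, h.sw2,
    asc h.sw2, h.fw2, asc h.fw2, h.zw2, asc h.zw2, h.nw2, asc h.nw2, h.v2w, asc h.v2w, h.v1w, asc h.v1w, h.bw,
    asc h.bw, h.sw, asc h.sw, h.fw, asc h.fw, h.zw, asc h.zw, h.nw, asc h.nw, h.v1v2, asc h.v1v2, h.bv2,
    asc h.bv2, h.sv2, asc h.sv2, h.fv2, asc h.fv2, h.zv2, asc h.zv2, h.nv2, asc h.nv2, h.bv1, asc h.bv1, h.sv1,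
    asc h.sv1, h.fv1, asc h.fv1, h.zv1, asc h.zv1, h.nv1, asc h.nv1, h.sb, asc h.sb, h.fb, asc h.fb, h.zb,
    asc h.zb, h.nb, asc h.nb, h.fs, asc h.fs, h.zs, asc h.zs, h.ns, asc h.ns, h.zf, asc h.zf, h.nf, asc h.nf,
    h.nz, asc h.nz]
  · refine ⟨b * s, mul_mem h.bL h.sL, ?_⟩
    rw [ht]
    simp only [mul_assoc, one_mul, mul_one, h.xx, asc h.xx, h.zz, asc h.zz, h.ff, asc h.ff, h.v11, asc h.v11,
    h.v22, asc h.v22, h.ss, asc h.ss, h.bb, asc h.bb, h.ww, asc h.ww, h.w22, asc h.w22, h.nn, asc h.nn, h.w2x,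
    asc h.w2x, h.wx, asc h.wx, h.v2x, asc h.v2x, h.v1x, asc h.v1x, h.bx, asc h.bx, h.sx, asc h.sx, h.fx,
    asc h.fx, h.zx, asc h.zx, h.nx, asc h.nx, h.v2w2, asc h.v2w2, h.v1w2, asc h.v1w2, h.bw2, asc h.bw2, h.sw2,
    asc h.sw2, h.fw2, asc h.fw2, h.zw2, asc h.zw2, h.nw2, asc h.nw2, h.v2w, asc h.v2w, h.v1w, asc h.v1w, h.bw,
    asc h.bw, h.sw, asc h.sw, h.fw, asc h.fw, h.zw, asc h.zw, h.nw, asc h.nw, h.v1v2, asc h.v1v2, h.bv2,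
    asc h.bv2, h.sv2, asc h.sv2, h.fv2, asc h.fv2, h.zv2, asc h.zv2, h.nv2, asc h.nv2, h.bv1, asc h.bv1, h.sv1,
    asc h.sv1, h.fv1, asc h.fv1, h.zv1, asc h.zv1, h.nv1, asc h.nv1, h.sb, asc h.sb, h.fb, asc h.fb, h.zb,
    asc h.zb, h.nb, asc h.nb, h.fs, asc h.fs, h.zs, asc h.zs, h.ns, asc h.ns, h.zf, asc h.zf, h.nf, asc h.nf,
    h.nz, asc h.nz]

include k in
theorem conj_aux {g₀ u t : G} (hg0 : g₀ ∈ k.P) (hu : u ∈ k.P) (hg : x * g₀ = g₀ * (x * u)) (ht : InL z f t) :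
    ∃ g ∈ k.P, x * (u * t) = g⁻¹ * x * g := by
  obtain ⟨κ, hκ, hx⟩ := k.conj_l ht
  refine ⟨g₀ * κ, mul_mem hg0 (k.Lm hκ), ?_⟩
  have htL : t ∈ k.h.L := k.h.l_le (k.h.mem_l.2 ht)
  have h1 : x * (g₀ * κ) = (g₀ * κ) * (x * (u * t)) := by
    calc x * (g₀ * κ) = g₀ * (x * (u * κ)) := by rw [← mul_assoc, hg]; simp only [mul_assoc]
      _ = g₀ * (x * κ * u) := by rw [← k.comm_P hκ u hu, mul_assoc]
      _ = g₀ * κ * (x * (t * u)) := by rw [hx]; simp only [mul_assoc]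
      _ = (g₀ * κ) * (x * (u * t)) := by rw [k.comm_P htL u hu]
  rw [mul_assoc, h1, inv_mul_cancel_left]

/-- (S2): every involution of `xP` is conjugate to `x` under `P`. -/
theorem conj_of_sq {p : G} (hp : p ∈ k.P) (hy : x * p * (x * p) = 1) : ∃ g ∈ k.P, x * p = g⁻¹ * x * g := by
  have h := k.h
  obtain ⟨m, hm, u, hu, hpu⟩ := k.form hp
  obtain ⟨m', hm', hmx, hcase⟩ := k.exists_x hm
  have M := h.mr hm
  have M' := h.mr hm'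
  have M0 := h.mr k.m0
  have hm0 : m * m₀ = m₀ * m := k.comm_LL hm k.m0
  have hm0' : m' * m₀ = m₀ * m' := k.comm_LL hm' k.m0
  have hno : ∀ v, v * (x * p * (x * p)) = x * p * (x * p) * (v * z) → False := by
    intro v hv
    rw [hy, mul_one, one_mul] at hv
    exact h.z1 (mul_eq_left.mp hv.symm)
  rcases hpu with hpu | hpu | hpu | hpu
  · have hmm : ∀ {e : G}, m' * m = e → (InL z f m ∧ e = 1) ∨ (e = z ∧ ∃ t, InL z f t ∧ m = s * t) ∨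
        e = f ∨ e = f * z := by
      intro e he
      rcases hcase with ⟨h1, h2⟩ | ⟨h1, h2⟩ | h1 | h1
      · exact Or.inl ⟨h1, by rw [← he, h2, M.mm]⟩
      · refine Or.inr (Or.inl ⟨?_, h2⟩)
        rw [← he, h1]
        simp only [mul_assoc, one_mul, mul_one, h.xx, asc h.xx, h.zz, asc h.zz, h.ff, asc h.ff, h.v11, asc h.v11,
    h.v22, asc h.v22, h.ss, asc h.ss, h.bb, asc h.bb, h.ww, asc h.ww, h.w22, asc h.w22, h.nn, asc h.nn, h.w2x,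
    asc h.w2x, h.wx, asc h.wx, h.v2x, asc h.v2x, h.v1x, asc h.v1x, h.bx, asc h.bx, h.sx, asc h.sx, h.fx,
    asc h.fx, h.zx, asc h.zx, h.nx, asc h.nx, h.v2w2, asc h.v2w2, h.v1w2, asc h.v1w2, h.bw2, asc h.bw2, h.sw2,
    asc h.sw2, h.fw2, asc h.fw2, h.zw2, asc h.zw2, h.nw2, asc h.nw2, h.v2w, asc h.v2w, h.v1w, asc h.v1w, h.bw,
    asc h.bw, h.sw, asc h.sw, h.fw, asc h.fw, h.zw, asc h.zw, h.nw, asc h.nw, h.v1v2, asc h.v1v2, h.bv2,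
    asc h.bv2, h.sv2, asc h.sv2, h.fv2, asc h.fv2, h.zv2, asc h.zv2, h.nv2, asc h.nv2, h.bv1, asc h.bv1, h.sv1,
    asc h.sv1, h.fv1, asc h.fv1, h.zv1, asc h.zv1, h.nv1, asc h.nv1, h.sb, asc h.sb, h.fb, asc h.fb, h.zb,
    asc h.zb, h.nb, asc h.nb, h.fs, asc h.fs, h.zs, asc h.zs, h.ns, asc h.ns, h.zf, asc h.zf, h.nf, asc h.nf,
    h.nz, asc h.nz, M.mw2, asc M.mw2, M.mw, asc M.mw, M.mv2, asc M.mv2, M.mv1, asc M.mv1, M.mb, asc M.mb, M.ms,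
    asc M.ms, M.mf, asc M.mf, M.mz, asc M.mz, M.mn, asc M.mn, M.mm, asc M.mm]
      · refine Or.inr (Or.inr (Or.inl ?_))
        rw [← he, h1]
        simp only [mul_assoc, one_mul, mul_one, h.xx, asc h.xx, h.zz, asc h.zz, h.ff, asc h.ff, h.v11, asc h.v11,
    h.v22, asc h.v22, h.ss, asc h.ss, h.bb, asc h.bb, h.ww, asc h.ww, h.w22, asc h.w22, h.nn, asc h.nn, h.w2x,
    asc h.w2x, h.wx, asc h.wx, h.v2x, asc h.v2x, h.v1x, asc h.v1x, h.bx, asc h.bx, h.sx, asc h.sx, h.fx,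
    asc h.fx, h.zx, asc h.zx, h.nx, asc h.nx, h.v2w2, asc h.v2w2, h.v1w2, asc h.v1w2, h.bw2, asc h.bw2, h.sw2,
    asc h.sw2, h.fw2, asc h.fw2, h.zw2, asc h.zw2, h.nw2, asc h.nw2, h.v2w, asc h.v2w, h.v1w, asc h.v1w, h.bw,
    asc h.bw, h.sw, asc h.sw, h.fw, asc h.fw, h.zw, asc h.zw, h.nw, asc h.nw, h.v1v2, asc h.v1v2, h.bv2,
    asc h.bv2, h.sv2, asc h.sv2, h.fv2, asc h.fv2, h.zv2, asc h.zv2, h.nv2, asc h.nv2, h.bv1, asc h.bv1, h.sv1,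
    asc h.sv1, h.fv1, asc h.fv1, h.zv1, asc h.zv1, h.nv1, asc h.nv1, h.sb, asc h.sb, h.fb, asc h.fb, h.zb,
    asc h.zb, h.nb, asc h.nb, h.fs, asc h.fs, h.zs, asc h.zs, h.ns, asc h.ns, h.zf, asc h.zf, h.nf, asc h.nf,
    h.nz, asc h.nz, M.mw2, asc M.mw2, M.mw, asc M.mw, M.mv2, asc M.mv2, M.mv1, asc M.mv1, M.mb, asc M.mb, M.ms,
    asc M.ms, M.mf, asc M.mf, M.mz, asc M.mz, M.mn, asc M.mn, M.mm, asc M.mm]
      · refine Or.inr (Or.inr (Or.inr ?_))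
        rw [← he, h1]
        simp only [mul_assoc, one_mul, mul_one, h.xx, asc h.xx, h.zz, asc h.zz, h.ff, asc h.ff, h.v11, asc h.v11,
    h.v22, asc h.v22, h.ss, asc h.ss, h.bb, asc h.bb, h.ww, asc h.ww, h.w22, asc h.w22, h.nn, asc h.nn, h.w2x,
    asc h.w2x, h.wx, asc h.wx, h.v2x, asc h.v2x, h.v1x, asc h.v1x, h.bx, asc h.bx, h.sx, asc h.sx, h.fx,
    asc h.fx, h.zx, asc h.zx, h.nx, asc h.nx, h.v2w2, asc h.v2w2, h.v1w2, asc h.v1w2, h.bw2, asc h.bw2, h.sw2,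
    asc h.sw2, h.fw2, asc h.fw2, h.zw2, asc h.zw2, h.nw2, asc h.nw2, h.v2w, asc h.v2w, h.v1w, asc h.v1w, h.bw,
    asc h.bw, h.sw, asc h.sw, h.fw, asc h.fw, h.zw, asc h.zw, h.nw, asc h.nw, h.v1v2, asc h.v1v2, h.bv2,
    asc h.bv2, h.sv2, asc h.sv2, h.fv2, asc h.fv2, h.zv2, asc h.zv2, h.nv2, asc h.nv2, h.bv1, asc h.bv1, h.sv1,
    asc h.sv1, h.fv1, asc h.fv1, h.zv1, asc h.zv1, h.nv1, asc h.nv1, h.sb, asc h.sb, h.fb, asc h.fb, h.zb,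
    asc h.zb, h.nb, asc h.nb, h.fs, asc h.fs, h.zs, asc h.zs, h.ns, asc h.ns, h.zf, asc h.zf, h.nf, asc h.nf,
    h.nz, asc h.nz, M.mw2, asc M.mw2, M.mw, asc M.mw, M.mv2, asc M.mv2, M.mv1, asc M.mv1, M.mb, asc M.mb, M.ms,
    asc M.ms, M.mf, asc M.mf, M.mz, asc M.mz, M.mn, asc M.mn, M.mm, asc M.mm]
    have hfz : f * z ≠ 1 := by
      intro h4
      exact h.fz1 (by rw [← mul_one f, ← h.zz, ← mul_assoc, h4, one_mul])
    have hm1 : m' * m = 1 → InL z f m := by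
      intro h1
      rcases hmm h1 with h2 | h2 | h2 | h2
      · exact h2.1
      · exact absurd h2.1.symm h.z1
      · exact absurd h2.symm h.f1
      · exact absurd h2.symm hfz
    rcases hu with hu | hu | hu | hu
    · have h1 : InL z f m := hm1 (by
        rw [← hy, hpu, hu]
        simp only [mul_assoc, one_mul, mul_one, h.xx, asc h.xx, h.zz, asc h.zz, h.ff, asc h.ff, h.v11, asc h.v11,
    h.v22, asc h.v22, h.ss, asc h.ss, h.bb, asc h.bb, h.ww, asc h.ww, h.w22, asc h.w22, h.nn, asc h.nn, h.w2x,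
    asc h.w2x, h.wx, asc h.wx, h.v2x, asc h.v2x, h.v1x, asc h.v1x, h.bx, asc h.bx, h.sx, asc h.sx, h.fx,
    asc h.fx, h.zx, asc h.zx, h.nx, asc h.nx, h.v2w2, asc h.v2w2, h.v1w2, asc h.v1w2, h.bw2, asc h.bw2, h.sw2,
    asc h.sw2, h.fw2, asc h.fw2, h.zw2, asc h.zw2, h.nw2, asc h.nw2, h.v2w, asc h.v2w, h.v1w, asc h.v1w, h.bw,
    asc h.bw, h.sw, asc h.sw, h.fw, asc h.fw, h.zw, asc h.zw, h.nw, asc h.nw, h.v1v2, asc h.v1v2, h.bv2,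
    asc h.bv2, h.sv2, asc h.sv2, h.fv2, asc h.fv2, h.zv2, asc h.zv2, h.nv2, asc h.nv2, h.bv1, asc h.bv1, h.sv1,
    asc h.sv1, h.fv1, asc h.fv1, h.zv1, asc h.zv1, h.nv1, asc h.nv1, h.sb, asc h.sb, h.fb, asc h.fb, h.zb,
    asc h.zb, h.nb, asc h.nb, h.fs, asc h.fs, h.zs, asc h.zs, h.ns, asc h.ns, h.zf, asc h.zf, h.nf, asc h.nf,
    h.nz, asc h.nz, M.mw2, asc M.mw2, M.mw, asc M.mw, M.mv2, asc M.mv2, M.mv1, asc M.mv1, M.mb, asc M.mb, M.ms,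
    asc M.ms, M.mf, asc M.mf, M.mz, asc M.mz, M.mn, asc M.mn, M.mm, asc M.mm, M'.mw2, asc M'.mw2, M'.mw,
    asc M'.mw, M'.mv2, asc M'.mv2, M'.mv1, asc M'.mv1, M'.mb, asc M'.mb, M'.ms, asc M'.ms, M'.mf, asc M'.mf,
    M'.mz, asc M'.mz, M'.mn, asc M'.mn, M'.mm, asc M'.mm, M0.mw2, asc M0.mw2, M0.mw, asc M0.mw, M0.mv2,
    asc M0.mv2, M0.mv1, asc M0.mv1, M0.mb, asc M0.mb, M0.ms, asc M0.ms, M0.mf, asc M0.mf, M0.mz, asc M0.mz,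
    M0.mn, asc M0.mn, M0.mm, asc M0.mm, k.ww2, asc k.ww2, hmx, asc hmx, hm0, asc hm0, hm0', asc hm0'])
      have h2 := k.conj_aux (one_mem _) (one_mem _) (by rw [one_mul, mul_one]) h1
      rw [one_mul] at h2
      rw [hpu, hu]
      exact h2
    · have h1 : InL z f m := hm1 (by
        rw [← hy, hpu, hu]
        simp only [mul_assoc, one_mul, mul_one, h.xx, asc h.xx, h.zz, asc h.zz, h.ff, asc h.ff, h.v11, asc h.v11,
    h.v22, asc h.v22, h.ss, asc h.ss, h.bb, asc h.bb, h.ww, asc h.ww, h.w22, asc h.w22, h.nn, asc h.nn, h.w2x,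
    asc h.w2x, h.wx, asc h.wx, h.v2x, asc h.v2x, h.v1x, asc h.v1x, h.bx, asc h.bx, h.sx, asc h.sx, h.fx,
    asc h.fx, h.zx, asc h.zx, h.nx, asc h.nx, h.v2w2, asc h.v2w2, h.v1w2, asc h.v1w2, h.bw2, asc h.bw2, h.sw2,
    asc h.sw2, h.fw2, asc h.fw2, h.zw2, asc h.zw2, h.nw2, asc h.nw2, h.v2w, asc h.v2w, h.v1w, asc h.v1w, h.bw,
    asc h.bw, h.sw, asc h.sw, h.fw, asc h.fw, h.zw, asc h.zw, h.nw, asc h.nw, h.v1v2, asc h.v1v2, h.bv2,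
    asc h.bv2, h.sv2, asc h.sv2, h.fv2, asc h.fv2, h.zv2, asc h.zv2, h.nv2, asc h.nv2, h.bv1, asc h.bv1, h.sv1,
    asc h.sv1, h.fv1, asc h.fv1, h.zv1, asc h.zv1, h.nv1, asc h.nv1, h.sb, asc h.sb, h.fb, asc h.fb, h.zb,
    asc h.zb, h.nb, asc h.nb, h.fs, asc h.fs, h.zs, asc h.zs, h.ns, asc h.ns, h.zf, asc h.zf, h.nf, asc h.nf,
    h.nz, asc h.nz, M.mw2, asc M.mw2, M.mw, asc M.mw, M.mv2, asc M.mv2, M.mv1, asc M.mv1, M.mb, asc M.mb, M.ms,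
    asc M.ms, M.mf, asc M.mf, M.mz, asc M.mz, M.mn, asc M.mn, M.mm, asc M.mm, M'.mw2, asc M'.mw2, M'.mw,
    asc M'.mw, M'.mv2, asc M'.mv2, M'.mv1, asc M'.mv1, M'.mb, asc M'.mb, M'.ms, asc M'.ms, M'.mf, asc M'.mf,
    M'.mz, asc M'.mz, M'.mn, asc M'.mn, M'.mm, asc M'.mm, M0.mw2, asc M0.mw2, M0.mw, asc M0.mw, M0.mv2,
    asc M0.mv2, M0.mv1, asc M0.mv1, M0.mb, asc M0.mb, M0.ms, asc M0.ms, M0.mf, asc M0.mf, M0.mz, asc M0.mz,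
    M0.mn, asc M0.mn, M0.mm, asc M0.mm, k.ww2, asc k.ww2, hmx, asc hmx, hm0, asc hm0, hm0', asc hm0'])
      rw [hpu, hu]
      refine k.conj_aux k.wm k.v1m ?_ h1
      simp only [mul_assoc, one_mul, mul_one, h.xx, asc h.xx, h.zz, asc h.zz, h.ff, asc h.ff, h.v11, asc h.v11,
    h.v22, asc h.v22, h.ss, asc h.ss, h.bb, asc h.bb, h.ww, asc h.ww, h.w22, asc h.w22, h.nn, asc h.nn, h.w2x,
    asc h.w2x, h.wx, asc h.wx, h.v2x, asc h.v2x, h.v1x, asc h.v1x, h.bx, asc h.bx, h.sx, asc h.sx, h.fx,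
    asc h.fx, h.zx, asc h.zx, h.nx, asc h.nx, h.v2w2, asc h.v2w2, h.v1w2, asc h.v1w2, h.bw2, asc h.bw2, h.sw2,
    asc h.sw2, h.fw2, asc h.fw2, h.zw2, asc h.zw2, h.nw2, asc h.nw2, h.v2w, asc h.v2w, h.v1w, asc h.v1w, h.bw,
    asc h.bw, h.sw, asc h.sw, h.fw, asc h.fw, h.zw, asc h.zw, h.nw, asc h.nw, h.v1v2, asc h.v1v2, h.bv2,
    asc h.bv2, h.sv2, asc h.sv2, h.fv2, asc h.fv2, h.zv2, asc h.zv2, h.nv2, asc h.nv2, h.bv1, asc h.bv1, h.sv1,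
    asc h.sv1, h.fv1, asc h.fv1, h.zv1, asc h.zv1, h.nv1, asc h.nv1, h.sb, asc h.sb, h.fb, asc h.fb, h.zb,
    asc h.zb, h.nb, asc h.nb, h.fs, asc h.fs, h.zs, asc h.zs, h.ns, asc h.ns, h.zf, asc h.zf, h.nf, asc h.nf,
    h.nz, asc h.nz]
    · have h1 : InL z f m := hm1 (by
        rw [← hy, hpu, hu]
        simp only [mul_assoc, one_mul, mul_one, h.xx, asc h.xx, h.zz, asc h.zz, h.ff, asc h.ff, h.v11, asc h.v11,
    h.v22, asc h.v22, h.ss, asc h.ss, h.bb, asc h.bb, h.ww, asc h.ww, h.w22, asc h.w22, h.nn, asc h.nn, h.w2x,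
    asc h.w2x, h.wx, asc h.wx, h.v2x, asc h.v2x, h.v1x, asc h.v1x, h.bx, asc h.bx, h.sx, asc h.sx, h.fx,
    asc h.fx, h.zx, asc h.zx, h.nx, asc h.nx, h.v2w2, asc h.v2w2, h.v1w2, asc h.v1w2, h.bw2, asc h.bw2, h.sw2,
    asc h.sw2, h.fw2, asc h.fw2, h.zw2, asc h.zw2, h.nw2, asc h.nw2, h.v2w, asc h.v2w, h.v1w, asc h.v1w, h.bw,
    asc h.bw, h.sw, asc h.sw, h.fw, asc h.fw, h.zw, asc h.zw, h.nw, asc h.nw, h.v1v2, asc h.v1v2, h.bv2,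
    asc h.bv2, h.sv2, asc h.sv2, h.fv2, asc h.fv2, h.zv2, asc h.zv2, h.nv2, asc h.nv2, h.bv1, asc h.bv1, h.sv1,
    asc h.sv1, h.fv1, asc h.fv1, h.zv1, asc h.zv1, h.nv1, asc h.nv1, h.sb, asc h.sb, h.fb, asc h.fb, h.zb,
    asc h.zb, h.nb, asc h.nb, h.fs, asc h.fs, h.zs, asc h.zs, h.ns, asc h.ns, h.zf, asc h.zf, h.nf, asc h.nf,
    h.nz, asc h.nz, M.mw2, asc M.mw2, M.mw, asc M.mw, M.mv2, asc M.mv2, M.mv1, asc M.mv1, M.mb, asc M.mb, M.ms,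
    asc M.ms, M.mf, asc M.mf, M.mz, asc M.mz, M.mn, asc M.mn, M.mm, asc M.mm, M'.mw2, asc M'.mw2, M'.mw,
    asc M'.mw, M'.mv2, asc M'.mv2, M'.mv1, asc M'.mv1, M'.mb, asc M'.mb, M'.ms, asc M'.ms, M'.mf, asc M'.mf,
    M'.mz, asc M'.mz, M'.mn, asc M'.mn, M'.mm, asc M'.mm, M0.mw2, asc M0.mw2, M0.mw, asc M0.mw, M0.mv2,
    asc M0.mv2, M0.mv1, asc M0.mv1, M0.mb, asc M0.mb, M0.ms, asc M0.ms, M0.mf, asc M0.mf, M0.mz, asc M0.mz,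
    M0.mn, asc M0.mn, M0.mm, asc M0.mm, k.ww2, asc k.ww2, hmx, asc hmx, hm0, asc hm0, hm0', asc hm0'])
      rw [hpu, hu]
      refine k.conj_aux k.w2m k.v2m ?_ h1
      simp only [mul_assoc, one_mul, mul_one, h.xx, asc h.xx, h.zz, asc h.zz, h.ff, asc h.ff, h.v11, asc h.v11,
    h.v22, asc h.v22, h.ss, asc h.ss, h.bb, asc h.bb, h.ww, asc h.ww, h.w22, asc h.w22, h.nn, asc h.nn, h.w2x,
    asc h.w2x, h.wx, asc h.wx, h.v2x, asc h.v2x, h.v1x, asc h.v1x, h.bx, asc h.bx, h.sx, asc h.sx, h.fx,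
    asc h.fx, h.zx, asc h.zx, h.nx, asc h.nx, h.v2w2, asc h.v2w2, h.v1w2, asc h.v1w2, h.bw2, asc h.bw2, h.sw2,
    asc h.sw2, h.fw2, asc h.fw2, h.zw2, asc h.zw2, h.nw2, asc h.nw2, h.v2w, asc h.v2w, h.v1w, asc h.v1w, h.bw,
    asc h.bw, h.sw, asc h.sw, h.fw, asc h.fw, h.zw, asc h.zw, h.nw, asc h.nw, h.v1v2, asc h.v1v2, h.bv2,
    asc h.bv2, h.sv2, asc h.sv2, h.fv2, asc h.fv2, h.zv2, asc h.zv2, h.nv2, asc h.nv2, h.bv1, asc h.bv1, h.sv1,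
    asc h.sv1, h.fv1, asc h.fv1, h.zv1, asc h.zv1, h.nv1, asc h.nv1, h.sb, asc h.sb, h.fb, asc h.fb, h.zb,
    asc h.zb, h.nb, asc h.nb, h.fs, asc h.fs, h.zs, asc h.zs, h.ns, asc h.ns, h.zf, asc h.zf, h.nf, asc h.nf,
    h.nz, asc h.nz]
    · have h1 : m' * m = z := by
        have h2 : z * (m' * m) = 1 := by
          rw [← hy, hpu, hu]
          simp only [mul_assoc, one_mul, mul_one, h.xx, asc h.xx, h.zz, asc h.zz, h.ff, asc h.ff, h.v11, asc h.v11,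
    h.v22, asc h.v22, h.ss, asc h.ss, h.bb, asc h.bb, h.ww, asc h.ww, h.w22, asc h.w22, h.nn, asc h.nn, h.w2x,
    asc h.w2x, h.wx, asc h.wx, h.v2x, asc h.v2x, h.v1x, asc h.v1x, h.bx, asc h.bx, h.sx, asc h.sx, h.fx,
    asc h.fx, h.zx, asc h.zx, h.nx, asc h.nx, h.v2w2, asc h.v2w2, h.v1w2, asc h.v1w2, h.bw2, asc h.bw2, h.sw2,
    asc h.sw2, h.fw2, asc h.fw2, h.zw2, asc h.zw2, h.nw2, asc h.nw2, h.v2w, asc h.v2w, h.v1w, asc h.v1w, h.bw,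
    asc h.bw, h.sw, asc h.sw, h.fw, asc h.fw, h.zw, asc h.zw, h.nw, asc h.nw, h.v1v2, asc h.v1v2, h.bv2,
    asc h.bv2, h.sv2, asc h.sv2, h.fv2, asc h.fv2, h.zv2, asc h.zv2, h.nv2, asc h.nv2, h.bv1, asc h.bv1, h.sv1,
    asc h.sv1, h.fv1, asc h.fv1, h.zv1, asc h.zv1, h.nv1, asc h.nv1, h.sb, asc h.sb, h.fb, asc h.fb, h.zb,
    asc h.zb, h.nb, asc h.nb, h.fs, asc h.fs, h.zs, asc h.zs, h.ns, asc h.ns, h.zf, asc h.zf, h.nf, asc h.nf,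
    h.nz, asc h.nz, M.mw2, asc M.mw2, M.mw, asc M.mw, M.mv2, asc M.mv2, M.mv1, asc M.mv1, M.mb, asc M.mb, M.ms,
    asc M.ms, M.mf, asc M.mf, M.mz, asc M.mz, M.mn, asc M.mn, M.mm, asc M.mm, M'.mw2, asc M'.mw2, M'.mw,
    asc M'.mw, M'.mv2, asc M'.mv2, M'.mv1, asc M'.mv1, M'.mb, asc M'.mb, M'.ms, asc M'.ms, M'.mf, asc M'.mf,
    M'.mz, asc M'.mz, M'.mn, asc M'.mn, M'.mm, asc M'.mm, M0.mw2, asc M0.mw2, M0.mw, asc M0.mw, M0.mv2,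
    asc M0.mv2, M0.mv1, asc M0.mv1, M0.mb, asc M0.mb, M0.ms, asc M0.ms, M0.mf, asc M0.mf, M0.mz, asc M0.mz,
    M0.mn, asc M0.mn, M0.mm, asc M0.mm, k.ww2, asc k.ww2, hmx, asc hmx, hm0, asc hm0, hm0', asc hm0']
        rw [← one_mul (m' * m), ← h.zz, mul_assoc, h2, mul_one]
      rcases hmm h1 with h2 | h2 | h2 | h2
      · exact absurd h2.2 h.z1
      · obtain ⟨t, ht, hmt⟩ := h2.2
        have hnt : InL z f (n * t) :=
          h.mem_l.1 (mul_mem (h.mem_l.2 h.hn) (h.mem_l.2 ht))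
        have h3 := k.conj_aux (g₀ := w * w₂) (u := v₂ * (v₁ * (s * n))) (mul_mem k.wm k.w2m)
          (mul_mem k.v2m (mul_mem k.v1m (mul_mem (k.Lm h.sL) (k.Lm h.nL)))) (by simp only [mul_assoc, one_mul, mul_one, h.xx, asc h.xx, h.zz, asc h.zz, h.ff, asc h.ff, h.v11, asc h.v11,
    h.v22, asc h.v22, h.ss, asc h.ss, h.bb, asc h.bb, h.ww, asc h.ww, h.w22, asc h.w22, h.nn, asc h.nn, h.w2x,
    asc h.w2x, h.wx, asc h.wx, h.v2x, asc h.v2x, h.v1x, asc h.v1x, h.bx, asc h.bx, h.sx, asc h.sx, h.fx,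
    asc h.fx, h.zx, asc h.zx, h.nx, asc h.nx, h.v2w2, asc h.v2w2, h.v1w2, asc h.v1w2, h.bw2, asc h.bw2, h.sw2,
    asc h.sw2, h.fw2, asc h.fw2, h.zw2, asc h.zw2, h.nw2, asc h.nw2, h.v2w, asc h.v2w, h.v1w, asc h.v1w, h.bw,
    asc h.bw, h.sw, asc h.sw, h.fw, asc h.fw, h.zw, asc h.zw, h.nw, asc h.nw, h.v1v2, asc h.v1v2, h.bv2,
    asc h.bv2, h.sv2, asc h.sv2, h.fv2, asc h.fv2, h.zv2, asc h.zv2, h.nv2, asc h.nv2, h.bv1, asc h.bv1, h.sv1,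
    asc h.sv1, h.fv1, asc h.fv1, h.zv1, asc h.zv1, h.nv1, asc h.nv1, h.sb, asc h.sb, h.fb, asc h.fb, h.zb,
    asc h.zb, h.nb, asc h.nb, h.fs, asc h.fs, h.zs, asc h.zs, h.ns, asc h.ns, h.zf, asc h.zf, h.nf, asc h.nf,
    h.nz, asc h.nz]) hnt
        have e : x * p = x * (v₂ * (v₁ * (s * n)) * (n * t)) := by
          rw [hpu, hu, hmt]
          have e2 : n * (n * t) = t := by rw [← mul_assoc, h.nn, one_mul]
          simp only [mul_assoc, e2]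
        rw [e]
        exact h3
      · exact absurd h2.symm h.fz1
      · exact absurd (mul_right_cancel ((one_mul z).trans h2)).symm h.f1
  · exfalso
    apply hno v₂
    rcases hu with hu | hu | hu | hu <;> rw [hpu, hu] <;>
    simp only [mul_assoc, one_mul, mul_one, h.xx, asc h.xx, h.zz, asc h.zz, h.ff, asc h.ff, h.v11, asc h.v11,
    h.v22, asc h.v22, h.ss, asc h.ss, h.bb, asc h.bb, h.ww, asc h.ww, h.w22, asc h.w22, h.nn, asc h.nn, h.w2x,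
    asc h.w2x, h.wx, asc h.wx, h.v2x, asc h.v2x, h.v1x, asc h.v1x, h.bx, asc h.bx, h.sx, asc h.sx, h.fx,
    asc h.fx, h.zx, asc h.zx, h.nx, asc h.nx, h.v2w2, asc h.v2w2, h.v1w2, asc h.v1w2, h.bw2, asc h.bw2, h.sw2,
    asc h.sw2, h.fw2, asc h.fw2, h.zw2, asc h.zw2, h.nw2, asc h.nw2, h.v2w, asc h.v2w, h.v1w, asc h.v1w, h.bw,
    asc h.bw, h.sw, asc h.sw, h.fw, asc h.fw, h.zw, asc h.zw, h.nw, asc h.nw, h.v1v2, asc h.v1v2, h.bv2,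
    asc h.bv2, h.sv2, asc h.sv2, h.fv2, asc h.fv2, h.zv2, asc h.zv2, h.nv2, asc h.nv2, h.bv1, asc h.bv1, h.sv1,
    asc h.sv1, h.fv1, asc h.fv1, h.zv1, asc h.zv1, h.nv1, asc h.nv1, h.sb, asc h.sb, h.fb, asc h.fb, h.zb,
    asc h.zb, h.nb, asc h.nb, h.fs, asc h.fs, h.zs, asc h.zs, h.ns, asc h.ns, h.zf, asc h.zf, h.nf, asc h.nf,
    h.nz, asc h.nz, M.mw2, asc M.mw2, M.mw, asc M.mw, M.mv2, asc M.mv2, M.mv1, asc M.mv1, M.mb, asc M.mb, M.ms,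
    asc M.ms, M.mf, asc M.mf, M.mz, asc M.mz, M.mn, asc M.mn, M.mm, asc M.mm, M'.mw2, asc M'.mw2, M'.mw,
    asc M'.mw, M'.mv2, asc M'.mv2, M'.mv1, asc M'.mv1, M'.mb, asc M'.mb, M'.ms, asc M'.ms, M'.mf, asc M'.mf,
    M'.mz, asc M'.mz, M'.mn, asc M'.mn, M'.mm, asc M'.mm, M0.mw2, asc M0.mw2, M0.mw, asc M0.mw, M0.mv2,
    asc M0.mv2, M0.mv1, asc M0.mv1, M0.mb, asc M0.mb, M0.ms, asc M0.ms, M0.mf, asc M0.mf, M0.mz, asc M0.mz,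
    M0.mn, asc M0.mn, M0.mm, asc M0.mm, k.ww2, asc k.ww2, hmx, asc hmx, hm0, asc hm0, hm0', asc hm0']
  · exfalso
    apply hno v₁
    rcases hu with hu | hu | hu | hu <;> rw [hpu, hu] <;>
    simp only [mul_assoc, one_mul, mul_one, h.xx, asc h.xx, h.zz, asc h.zz, h.ff, asc h.ff, h.v11, asc h.v11,
    h.v22, asc h.v22, h.ss, asc h.ss, h.bb, asc h.bb, h.ww, asc h.ww, h.w22, asc h.w22, h.nn, asc h.nn, h.w2x,
    asc h.w2x, h.wx, asc h.wx, h.v2x, asc h.v2x, h.v1x, asc h.v1x, h.bx, asc h.bx, h.sx, asc h.sx, h.fx,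
    asc h.fx, h.zx, asc h.zx, h.nx, asc h.nx, h.v2w2, asc h.v2w2, h.v1w2, asc h.v1w2, h.bw2, asc h.bw2, h.sw2,
    asc h.sw2, h.fw2, asc h.fw2, h.zw2, asc h.zw2, h.nw2, asc h.nw2, h.v2w, asc h.v2w, h.v1w, asc h.v1w, h.bw,
    asc h.bw, h.sw, asc h.sw, h.fw, asc h.fw, h.zw, asc h.zw, h.nw, asc h.nw, h.v1v2, asc h.v1v2, h.bv2,
    asc h.bv2, h.sv2, asc h.sv2, h.fv2, asc h.fv2, h.zv2, asc h.zv2, h.nv2, asc h.nv2, h.bv1, asc h.bv1, h.sv1,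
    asc h.sv1, h.fv1, asc h.fv1, h.zv1, asc h.zv1, h.nv1, asc h.nv1, h.sb, asc h.sb, h.fb, asc h.fb, h.zb,
    asc h.zb, h.nb, asc h.nb, h.fs, asc h.fs, h.zs, asc h.zs, h.ns, asc h.ns, h.zf, asc h.zf, h.nf, asc h.nf,
    h.nz, asc h.nz, M.mw2, asc M.mw2, M.mw, asc M.mw, M.mv2, asc M.mv2, M.mv1, asc M.mv1, M.mb, asc M.mb, M.ms,
    asc M.ms, M.mf, asc M.mf, M.mz, asc M.mz, M.mn, asc M.mn, M.mm, asc M.mm, M'.mw2, asc M'.mw2, M'.mw,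
    asc M'.mw, M'.mv2, asc M'.mv2, M'.mv1, asc M'.mv1, M'.mb, asc M'.mb, M'.ms, asc M'.ms, M'.mf, asc M'.mf,
    M'.mz, asc M'.mz, M'.mn, asc M'.mn, M'.mm, asc M'.mm, M0.mw2, asc M0.mw2, M0.mw, asc M0.mw, M0.mv2,
    asc M0.mv2, M0.mv1, asc M0.mv1, M0.mb, asc M0.mb, M0.ms, asc M0.ms, M0.mf, asc M0.mf, M0.mz, asc M0.mz,
    M0.mn, asc M0.mn, M0.mm, asc M0.mm, k.ww2, asc k.ww2, hmx, asc hmx, hm0, asc hm0, hm0', asc hm0']
  · exfalso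
    apply hno v₁
    rcases hu with hu | hu | hu | hu <;> rw [hpu, hu] <;>
    simp only [mul_assoc, one_mul, mul_one, h.xx, asc h.xx, h.zz, asc h.zz, h.ff, asc h.ff, h.v11, asc h.v11,
    h.v22, asc h.v22, h.ss, asc h.ss, h.bb, asc h.bb, h.ww, asc h.ww, h.w22, asc h.w22, h.nn, asc h.nn, h.w2x,
    asc h.w2x, h.wx, asc h.wx, h.v2x, asc h.v2x, h.v1x, asc h.v1x, h.bx, asc h.bx, h.sx, asc h.sx, h.fx,
    asc h.fx, h.zx, asc h.zx, h.nx, asc h.nx, h.v2w2, asc h.v2w2, h.v1w2, asc h.v1w2, h.bw2, asc h.bw2, h.sw2,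
    asc h.sw2, h.fw2, asc h.fw2, h.zw2, asc h.zw2, h.nw2, asc h.nw2, h.v2w, asc h.v2w, h.v1w, asc h.v1w, h.bw,
    asc h.bw, h.sw, asc h.sw, h.fw, asc h.fw, h.zw, asc h.zw, h.nw, asc h.nw, h.v1v2, asc h.v1v2, h.bv2,
    asc h.bv2, h.sv2, asc h.sv2, h.fv2, asc h.fv2, h.zv2, asc h.zv2, h.nv2, asc h.nv2, h.bv1, asc h.bv1, h.sv1,
    asc h.sv1, h.fv1, asc h.fv1, h.zv1, asc h.zv1, h.nv1, asc h.nv1, h.sb, asc h.sb, h.fb, asc h.fb, h.zb,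
    asc h.zb, h.nb, asc h.nb, h.fs, asc h.fs, h.zs, asc h.zs, h.ns, asc h.ns, h.zf, asc h.zf, h.nf, asc h.nf,
    h.nz, asc h.nz, M.mw2, asc M.mw2, M.mw, asc M.mw, M.mv2, asc M.mv2, M.mv1, asc M.mv1, M.mb, asc M.mb, M.ms,
    asc M.ms, M.mf, asc M.mf, M.mz, asc M.mz, M.mn, asc M.mn, M.mm, asc M.mm, M'.mw2, asc M'.mw2, M'.mw,
    asc M'.mw, M'.mv2, asc M'.mv2, M'.mv1, asc M'.mv1, M'.mb, asc M'.mb, M'.ms, asc M'.ms, M'.mf, asc M'.mf,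
    M'.mz, asc M'.mz, M'.mn, asc M'.mn, M'.mm, asc M'.mm, M0.mw2, asc M0.mw2, M0.mw, asc M0.mw, M0.mv2,
    asc M0.mv2, M0.mv1, asc M0.mv1, M0.mb, asc M0.mb, M0.ms, asc M0.ms, M0.mf, asc M0.mf, M0.mz, asc M0.mz,
    M0.mn, asc M0.mn, M0.mm, asc M0.mm, k.ww2, asc k.ww2, hmx, asc hmx, hm0, asc hm0, hm0', asc hm0']

end B2

end Cfsg.Agent.OddHalf.D5.SixAut.Zero

end

-- merged: Cfsg.Agent.OddHalf.D5.SixAut.ZeroR
section

/-!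
# ODD half, `K = A₆`, C3b, (DBL), `e = 0`: the element `r` and the construction of `Base`
-/

set_option autoImplicit false
set_option linter.unusedSimpArgs false
set_option linter.unusedVariables false

namespace Cfsg.Agent.OddHalf.D5.SixAut.Zero

open Subgroup

variable {G : Type*} [Group G] {x z f v₁ v₂ s₀ s b w w₂ n m₀ r r₀ g n₀ : G} {T : Subgroup G}

/-- the action of `r` -/
structure RR (x z f v₁ v₂ s b r n g : G) : Prop where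
  xr : x * r = r * x
  zr : z * r = r * z
  fr : f * r = r * (f * z)
  v1r : v₁ * r = r * v₂
  v2r : v₂ * r = r * (v₁ * z)
  sr : s * r = r * (s * n)
  br : b * r = r * (b * (s * g))

theorem cjr {r A A' B B' : G} (h : A' = B') (hA : A' * r = r * A) (hB : B' * r = r * B) : A = B := by
  apply mul_left_cancel (a := r)
  rw [← hA, ← hB, h]

theorem inl_comm {t q : G} (ht : InL z f t) (hz : z * q = q * z) (hf : f * q = q * f) : t * q = q * t := by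
  rcases ht with ht | ht | ht | ht <;> rw [ht]
  · rw [one_mul, mul_one]
  · exact hz
  · exact hf
  · rw [mul_assoc, hz, ← mul_assoc, hf, mul_assoc]

theorem inl_sq {t : G} (ht : InL z f t) (zz : z * z = 1) (ff : f * f = 1) (hz : z * f = f * z) : t * t = 1 := by
  rcases ht with ht | ht | ht | ht <;> rw [ht]
  · rw [one_mul]
  · exact zz
  · exact ff
  · rw [mul_assoc, ← mul_assoc z, hz, mul_assoc f, zz, mul_one, ff]

/-- `v₂^r = v₁ z` -/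
theorem v2r_of (h : DblZero x z f v₁ v₂ s₀ b w r T) : v₂ * r = r * (v₁ * z) := by
  apply mul_left_cancel (a := r)
  have h1 : r * (v₂ * r) = v₁ * (r * r) := by rw [← mul_assoc, ← h.v₁r, mul_assoc]
  have hv : v₁ * (v₁ * v₂) = v₁ * v₂ * (v₁ * z) := by
    have e := h.v₂v₁
    calc v₁ * (v₁ * v₂) = v₁ * (v₁ * v₂ * z * z) := by rw [mul_assoc _ z z, h.zz, mul_one]
      _ = v₁ * (v₂ * v₁ * z) := by rw [e]
      _ = v₁ * v₂ * (v₁ * z) := by simp only [mul_assoc]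
  rw [h1, ← mul_assoc r r]
  rcases h.eps with ⟨h2, -⟩ | ⟨h2, -⟩ <;> rw [h2]
  · exact hv
  · have hx : x * (v₁ * z) = v₁ * z * x := by rw [← mul_assoc, h.xv₁, mul_assoc, h.xz, mul_assoc]
    rw [← mul_assoc, hv, mul_assoc _ x, hx]
    simp only [mul_assoc]

theorem base_of (h : DblZero x z f v₁ v₂ s₀ b w r₀ T) (hs : s = s₀ * n₀) (hn0 : InL z f n₀)
    (hv : v₂ * w * v₂ = w * s) (R : RR x z f v₁ v₂ s b r n g) (hn : InL z f n) (hg : InL z f g)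
    (hw : w * r = r * w₂) : Base x z f v₁ v₂ s b w w₂ n := by
  have zn0 : ∀ {q : G}, z * q = q * z → f * q = q * f → n₀ * q = q * n₀ := fun h1 h2 => inl_comm hn0 h1 h2
  have hzf := h.zf
  have zs : z * s = s * z := by
    rw [hs, ← mul_assoc, h.zs, mul_assoc, ← zn0 rfl hzf.symm, mul_assoc]
  have fs : f * s = s * f := by
    rw [hs, ← mul_assoc, h.fs, mul_assoc, ← zn0 hzf rfl, mul_assoc]
  have scm : ∀ {q : G}, s₀ * q = q * s₀ → z * q = q * z → f * q = q * f → s * q = q * s := by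
    intro q h1 h2 h3
    rw [hs, mul_assoc, zn0 h2 h3, ← mul_assoc, h1, mul_assoc]
  have ss : s * s = 1 := by
    have e : n₀ * s₀ = s₀ * n₀ := zn0 h.zs h.fs
    calc s * s = s₀ * (n₀ * s₀) * n₀ := by rw [hs]; simp only [mul_assoc]
      _ = s₀ * s₀ * (n₀ * n₀) := by rw [e]; simp only [mul_assoc]
      _ = 1 := by rw [h.ss, inl_sq hn0 h.zz h.ff h.zf, one_mul]
  have sx : s * x = x * (s * z) := by
    have e1 : n₀ * x = x * n₀ := zn0 h.xz.symm h.xf.symm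
    have e2 : s₀ * x = x * (s₀ * z) := by
      have e3 := h.xs
      calc s₀ * x = s₀ * (x * z) * z := by rw [mul_assoc, mul_assoc x, h.zz, mul_one]
        _ = x * (s₀ * z) := by rw [← e3, mul_assoc]
    rw [hs, mul_assoc, e1, ← mul_assoc, e2]
    simp only [mul_assoc]
    rw [zn0 rfl hzf.symm]
  have bx : b * x = x * (b * f) := by
    have e3 := h.xb
    calc b * x = b * (x * f) * f := by rw [mul_assoc, mul_assoc x, h.ff, mul_one]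
      _ = x * (b * f) := by rw [← e3, mul_assoc]
  have wx : w * x = x * (w * v₁) := by
    have e3 := h.xw
    calc w * x = w * (x * v₁) * v₁ := by rw [mul_assoc, mul_assoc x, h.v11, mul_one]
      _ = x * (w * v₁) := by rw [← e3, mul_assoc]
  have v1v2 : v₁ * v₂ = v₂ * (v₁ * z) := by
    have e3 := h.v₂v₁
    rw [← mul_assoc, e3, mul_assoc, h.zz, mul_one]
  have v2w : v₂ * w = w * (v₂ * s) := by
    have e1 : s * v₂ = v₂ * s := scm h.v₂s.symm h.zv₂ h.fv₂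
    rw [← e1, ← mul_assoc, ← hv, mul_assoc, h.v22, mul_one]
  -- the relations of `w₂`
  have cc : ∀ {q q' : G}, w * q = q * w → q * r = r * q' → w₂ * q' = q' * w₂ := by
    intro q q' h1 h2
    apply cjr h1
    · rw [mul_assoc, h2, ← mul_assoc, hw, mul_assoc]
    · rw [mul_assoc, hw, ← mul_assoc, h2, mul_assoc]
  have cz : Commute w₂ z := cc h.zw.symm R.zr
  have cfz : Commute w₂ (f * z) := cc h.fw.symm R.fr
  have cf : Commute w₂ f := by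
    have h1 := cfz.mul_right cz
    rwa [mul_assoc, h.zz, mul_one] at h1
  have cl : ∀ {t : G}, InL z f t → Commute w₂ t := by
    intro t ht
    exact (inl_comm ht cz.symm cf.symm).symm
  have hsw : s * w = w * s := scm h.sw h.zw h.fw
  have cs : Commute w₂ s := by
    have h1 : Commute w₂ (s * n) := cc hsw.symm R.sr
    have h2 := h1.mul_right (cl hn)
    rwa [mul_assoc, inl_sq hn h.zz h.ff h.zf, mul_one] at h2
  have cb : Commute w₂ b := by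
    have h1 : Commute w₂ (b * (s * g)) := cc h.bw.symm R.br
    have h2 := (h1.mul_right (cl hg)).mul_right cs
    have h3 : b * (s * g) * g * s = b := by
      rw [mul_assoc (b * (s * g)), mul_assoc b, mul_assoc s g, ← mul_assoc g g,
        inl_sq hg h.zz h.ff h.zf, one_mul, ss, mul_one]
    rwa [h3] at h2
  have w22 : w₂ * w₂ = 1 := by
    apply cjr h.ww
    · rw [mul_assoc, hw, ← mul_assoc, hw, mul_assoc]
    · rw [one_mul, mul_one]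
  have cv2 : Commute w₂ v₂ := cc h.v₁w.symm R.v1r
  have w2x : w₂ * x = x * (w₂ * v₂) := by
    apply cjr wx
    · rw [mul_assoc, R.xr, ← mul_assoc, hw, mul_assoc]
    · rw [mul_assoc, mul_assoc, R.v1r, ← mul_assoc w, hw, mul_assoc, ← mul_assoc x, R.xr, mul_assoc]
  have v1w2 : v₁ * w₂ = w₂ * (v₁ * (s * n)) := by
    have e : v₂ * (z * w) = w * (v₂ * (z * s)) := by
      rw [h.zw, ← mul_assoc, v2w, mul_assoc, mul_assoc, zs]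
    apply cjr e
    · rw [mul_assoc, mul_assoc, hw, ← mul_assoc z, R.zr, mul_assoc, ← mul_assoc v₂, R.v2r]
      simp only [mul_assoc]
      rw [← mul_assoc z z, h.zz, one_mul]
    · rw [mul_assoc, mul_assoc, mul_assoc, R.sr, ← mul_assoc z, R.zr, mul_assoc, ← mul_assoc v₂, R.v2r,
        mul_assoc, ← mul_assoc w, hw, mul_assoc]
      simp only [mul_assoc]
      rw [← mul_assoc z z, h.zz, one_mul]
  have nc : ∀ {q : G}, z * q = q * z → f * q = q * f → n * q = q * n := fun h1 h2 => inl_comm hn h1 h2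
  exact {
    z1 := h.z1, f1 := h.f1, fz1 := h.fz1, hn := hn, xx := h.xx, zz := h.zz, ff := h.ff, v11 := h.v11
    v22 := h.v22, ss := ss, bb := h.bb, ww := h.ww, w22 := w22, nn := inl_sq hn h.zz h.ff h.zf
    w2x := w2x, wx := wx, v2x := h.xv₂.symm, v1x := h.xv₁.symm, bx := bx, sx := sx, fx := h.xf.symm
    zx := h.xz.symm, nx := nc h.xz.symm h.xf.symm
    v2w2 := cv2.symm, v1w2 := v1w2, bw2 := cb.symm, sw2 := cs.symm, fw2 := cf.symm, zw2 := cz.symm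
    nw2 := (cl hn).symm
    v2w := v2w, v1w := h.v₁w, bw := h.bw, sw := hsw, fw := h.fw, zw := h.zw, nw := nc h.zw h.fw
    v1v2 := v1v2, bv2 := h.v₂b.symm, sv2 := scm h.v₂s.symm h.zv₂ h.fv₂, fv2 := h.fv₂, zv2 := h.zv₂
    nv2 := nc h.zv₂ h.fv₂
    bv1 := h.v₁b.symm, sv1 := scm h.v₁s.symm h.zv₁ h.fv₁, fv1 := h.fv₁, zv1 := h.zv₁, nv1 := nc h.zv₁ h.fv₁
    sb := scm h.sb h.zb h.fb, fb := h.fb, zb := h.zb, nb := nc h.zb h.fb, fs := fs, zs := zs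
    ns := nc zs fs, zf := h.zf, nf := nc h.zf rfl, nz := nc rfl h.zf.symm, cent := h.cent }

/-- `|C(x) : C_H(x)|` is odd if `T ≤ H`. -/
theorem odd_index [Finite G] (h : Dbl x z f v₁ v₂ s₀ b r T) {H : Subgroup G} (hTH : T ≤ H) :
    Odd (H.subgroupOf (centralizer ({x} : Set G))).index := by
  set C := centralizer ({x} : Set G) with hC
  have hTC : T ≤ C := fun t ht => by
    rw [hC, mem_centralizer_singleton_iff]; exact h.Tx t ht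
  have hp : Fact (Nat.Prime 2) := ⟨Nat.prime_two⟩
  have hT' : IsPGroup 2 (T.subgroupOf C) := h.pT.of_equiv (subgroupOfEquivOfLe hTC).symm
  obtain ⟨S, hS⟩ := hT'.exists_le_sylow
  have hS2 : IsPGroup 2 ((S : Subgroup C).map C.subtype) := S.2.map _
  obtain ⟨c, hc, hcT⟩ := h.syl _ hS2 (by
    rintro _ ⟨y, -, rfl⟩
    exact (mem_centralizer_singleton_iff.1 y.2))
  have hcard : Nat.card (S : Subgroup C) ≤ Nat.card (T.subgroupOf C) := by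
    rw [Nat.card_congr (subgroupOfEquivOfLe hTC).toEquiv]
    let φ : ↥(S : Subgroup C) → T := fun y => ⟨c * (y : C) * c⁻¹, hcT _ ⟨y, y.2, rfl⟩⟩
    apply Nat.card_le_card_of_injective φ
    intro y y' e
    have e1 : c * ((y : C) : G) * c⁻¹ = c * ((y' : C) : G) * c⁻¹ := congrArg Subtype.val e
    have e2 := mul_left_cancel (mul_right_cancel e1)
    exact Subtype.ext (Subtype.ext e2)
  have hSe : T.subgroupOf C = S := Subgroup.eq_of_le_of_card_ge hS hcard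
  have h1 : ¬ 2 ∣ (T.subgroupOf C).index := by
    rw [hSe]; exact S.not_dvd_index
  have h2 : T.subgroupOf C ≤ H.subgroupOf C := fun y hy => hTH hy
  rw [← Nat.not_even_iff_odd, even_iff_two_dvd]
  exact fun h3 => h1 (h3.trans (index_dvd_of_le h2))

namespace B2

variable (k : B2 x z f v₁ v₂ s b w w₂ n m₀)

theorem conj_L {q : G} {Q : Subgroup G} (hz : q⁻¹ * z * q ∈ Q) (hf : q⁻¹ * f * q ∈ Q)
    (hs : q⁻¹ * s * q ∈ Q) (hb : q⁻¹ * b * q ∈ Q) : ∀ m ∈ k.h.L, q⁻¹ * m * q ∈ Q := by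
  intro m hm
  obtain ⟨t, ht, hm⟩ := k.h.mem_L.1 hm
  have h1 : q⁻¹ * t * q ∈ Q := by
    rcases ht with ht | ht | ht | ht <;> rw [ht]
    · rw [mul_one, inv_mul_cancel]; exact one_mem _
    · exact hz
    · exact hf
    · have : q⁻¹ * (f * z) * q = (q⁻¹ * f * q) * (q⁻¹ * z * q) := by group
      rw [this]; exact mul_mem hf hz
  have h2 : q⁻¹ * (s * t) * q ∈ Q := by
    have : q⁻¹ * (s * t) * q = (q⁻¹ * s * q) * (q⁻¹ * t * q) := by group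
    rw [this]; exact mul_mem hs h1
  rcases hm with hm | hm | hm | hm <;> rw [hm]
  · exact h1
  · exact h2
  · have : q⁻¹ * (b * t) * q = (q⁻¹ * b * q) * (q⁻¹ * t * q) := by group
    rw [this]; exact mul_mem hb h1
  · have : q⁻¹ * (b * (s * t)) * q = (q⁻¹ * b * q) * (q⁻¹ * (s * t) * q) := by group
    rw [this]; exact mul_mem hb h2

theorem conj_x : ∀ p ∈ k.P, x⁻¹ * p * x ∈ k.P := by
  have h := k.h
  apply k.conj_P
  · apply k.conj_L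
    · rw [cj_of h.zx]; exact k.Lm h.zL
    · rw [cj_of h.fx]; exact k.Lm h.fL
    · rw [cj_of h.sx]; exact k.Lm (mul_mem h.sL h.zL)
    · rw [cj_of h.bx]; exact k.Lm (mul_mem h.bL h.fL)
  · rw [cj_of h.v1x]; exact k.v1m
  · rw [cj_of h.v2x]; exact k.v2m
  · rw [cj_of h.wx]; exact mul_mem k.wm k.v1m
  · rw [cj_of h.w2x]; exact mul_mem k.w2m k.v2m

include k in
theorem xinv : x⁻¹ = x := inv_eq_of_mul_eq_one_right k.h.xx

theorem conj_x' : ∀ p ∈ k.P, x * p * x⁻¹ ∈ k.P := by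
  intro p hp
  have h1 := k.conj_x p hp
  rw [k.xinv] at h1 ⊢
  exact h1

variable (R : RR x z f v₁ v₂ s b r n g) (hg : InL z f g) (hw : w * r = r * w₂)

include R hg in
theorem conj_rL : ∀ m ∈ k.h.L, r⁻¹ * m * r ∈ k.h.L := by
  have h := k.h
  apply k.conj_L
  · rw [cj_of R.zr]; exact h.zL
  · rw [cj_of R.fr]; exact mul_mem h.fL h.zL
  · rw [cj_of R.sr]; exact mul_mem h.sL h.nL
  · rw [cj_of R.br]; exact mul_mem h.bL (mul_mem h.sL (h.l_le (h.mem_l.2 hg)))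

include R hg hw in
theorem conj_r (hw2 : r⁻¹ * w₂ * r ∈ k.P) : ∀ p ∈ k.P, r⁻¹ * p * r ∈ k.P := by
  have h := k.h
  apply k.conj_P
  · exact fun m hm => k.Lm (k.conj_rL R hg m hm)
  · rw [cj_of R.v1r]; exact k.v2m
  · rw [cj_of R.v2r]; exact mul_mem k.v1m (k.Lm h.zL)
  · rw [cj_of hw]; exact k.w2m
  · exact hw2

end B2

end Cfsg.Agent.OddHalf.D5.SixAut.Zero

end

-- merged: Cfsg.Agent.OddHalf.D5.SixAut.OneClass
section

/-!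
# The T-formula with one contributing class

`t` an involution of the finite simple group `G`, `T ≤ C(t)` a 2-group, `T ≤ H`, `|C(t) : C_H(t)|` odd, `N ≤ H`
with `[H, H] ≤ N`. If every `g` with `T^g ≤ H` and `t^g ∉ N` has `t^g ∈ t^H`, then `t ∈ N`.
-/

set_option autoImplicit false

namespace Cfsg.Agent.OddHalf.D5.SixAut.OneClass

open MulAction Subgroup

theorem transfer_eq {G A : Type*} [Group G] [CommGroup A] [Finite G] (H : Subgroup G)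
    (φ : H →* A) (t : G) (ht : t * t = 1) (htH : t ∈ H) (T : Subgroup G) (hT : IsPGroup 2 T)
    (hTt : ∀ x ∈ T, x * t = t * x)
    (hcl : ∀ g : G, (∀ x ∈ T, g⁻¹ * x * g ∈ H) → ∀ hg : g⁻¹ * t * g ∈ H, φ ⟨g⁻¹ * t * g, hg⟩ ≠ 1 →
      ∃ x ∈ H, g⁻¹ * t * g = x⁻¹ * t * x)
    (hodd : Odd (H.subgroupOf (centralizer ({t} : Set G))).index) :
    MonoidHom.transfer φ t = φ ⟨t, htH⟩ := by
  classical
  have := Fintype.ofFinite (G ⧸ H)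
  obtain ⟨f, hf, s, hs, hprod⟩ := TFormula.transfer_eq_prod H φ t ht T hT hTt
  have hφ2 : φ ⟨t, htH⟩ * φ ⟨t, htH⟩ = 1 := by
    rw [← map_mul]
    have : (⟨t, htH⟩ : H) * ⟨t, htH⟩ = 1 := Subtype.ext ht
    rw [this, map_one]
  set C := centralizer ({t} : Set G) with hC
  set q0 : G ⧸ H := ((1 : G) : G ⧸ H) with hq0
  have hmem : ∀ (x g : G), x • (g : G ⧸ H) = g ↔ g⁻¹ * x * g ∈ H := by
    intro x g
    rw [MulAction.Quotient.smul_mk, smul_eq_mul, eq_comm, QuotientGroup.eq, mul_assoc]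
  -- the points of the orbit of `q0`
  have hval : ∀ q : G ⧸ H, q ∈ orbit C q0 → t • q = q ∧ f q = φ ⟨t, htH⟩ := by
    rintro q ⟨⟨c, hc⟩, rfl⟩
    have e' : (c : G ⧸ H) = (⟨c, hc⟩ : C) • q0 := by
      show _ = c • q0
      rw [hq0, MulAction.Quotient.smul_mk, smul_eq_mul, mul_one]
    have hc' := hc
    rw [hC, mem_centralizer_singleton_iff] at hc'
    have hc1 : c⁻¹ * t * c = t := by rw [mul_assoc, ← hc']; group
    have hcH : c⁻¹ * t * c ∈ H := by rw [hc1]; exact htH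
    constructor
    · show t • ((⟨c, hc⟩ : C) • q0) = (⟨c, hc⟩ : C) • q0
      rw [← e', hmem]
      exact hcH
    · show f ((⟨c, hc⟩ : C) • q0) = _
      rw [hf _ c e' hcH]
      have h3 : (⟨c⁻¹ * t * c, hcH⟩ : H) = ⟨t, htH⟩ := Subtype.ext hc1
      rw [h3]
  have hnot : ∀ q ∈ s, q ∉ orbit C q0 → f q = 1 := by
    intro q hq hqn
    obtain ⟨g, rfl⟩ := QuotientGroup.mk_surjective q
    obtain ⟨h1, h2⟩ := (hs _).1 hq
    have hg := (hmem t g).1 h1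
    by_contra hne
    rw [hf _ g rfl hg] at hne
    obtain ⟨x, hx, e⟩ := hcl g (fun y hy => (hmem y g).1 (h2 y hy)) hg hne
    apply hqn
    have hc : g * x⁻¹ ∈ C := by
      rw [hC, mem_centralizer_singleton_iff]
      have h2 : g * x⁻¹ * t * (g * x⁻¹)⁻¹ = t := by
        calc g * x⁻¹ * t * (g * x⁻¹)⁻¹ = g * (x⁻¹ * t * x) * g⁻¹ := by group
          _ = t := by rw [← e]; group
      calc g * x⁻¹ * t = g * x⁻¹ * t * (g * x⁻¹)⁻¹ * (g * x⁻¹) := by group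
        _ = t * (g * x⁻¹) := by rw [h2]
    refine ⟨⟨g * x⁻¹, hc⟩, ?_⟩
    show (g * x⁻¹) • q0 = _
    rw [hq0, MulAction.Quotient.smul_mk, smul_eq_mul, mul_one, QuotientGroup.eq]
    have : (g * x⁻¹)⁻¹ * g = x := by group
    rw [this]; exact hx
  set s' := s.filter (fun q => q ∈ orbit C q0) with hs'
  have h1 : ∏ q ∈ s, f q = φ ⟨t, htH⟩ ^ s'.card := by
    rw [← Finset.prod_filter_mul_prod_filter_not s (fun q => q ∈ orbit C q0)]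
    have h2 : ∏ q ∈ s.filter (fun q => ¬ q ∈ orbit C q0), f q = 1 := by
      apply Finset.prod_eq_one
      intro q hq
      exact hnot q (Finset.mem_filter.1 hq).1 (Finset.mem_filter.1 hq).2
    rw [h2, mul_one, Finset.prod_congr rfl (fun q hq => (hval q (Finset.mem_filter.1 hq).2).2),
      Finset.prod_const]
  -- parity
  let Y := {q : G ⧸ H // q ∈ orbit C q0}
  have hTC : ∀ x ∈ T, x ∈ C := fun x hx => by
    rw [hC, mem_centralizer_singleton_iff]; exact hTt x hx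
  let _ : MulAction T Y :=
    { smul := fun x q => ⟨(x : G) • q.1, by
        obtain ⟨c, hc⟩ := q.2
        exact ⟨⟨x, hTC x x.2⟩ * c, by rw [← hc]; exact mul_smul _ _ _⟩⟩
      one_smul := fun q => Subtype.ext (one_smul G q.1)
      mul_smul := fun x y q => Subtype.ext (mul_smul (x : G) (y : G) q.1) }
  have hp2 : Fact (Nat.Prime 2) := ⟨Nat.prime_two⟩
  have hcard := hT.card_modEq_card_fixedPoints Y
  have h2 : Nat.card Y = (H.subgroupOf C).index := by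
    have h2 : (stabilizer C q0) = H.subgroupOf C := by
      ext ⟨c, hc⟩
      rw [mem_stabilizer_iff, mem_subgroupOf]
      show c • q0 = q0 ↔ c ∈ H
      rw [hq0, hmem, inv_one, one_mul, mul_one]
    rw [← h2, index_stabilizer]
    rfl
  have h3 : Nat.card (fixedPoints T Y) = s'.card := by
    have e : fixedPoints T Y ≃ {q : G ⧸ H // (t • q = q ∧ ∀ x ∈ T, x • q = q) ∧ q ∈ orbit C q0} :=
      { toFun := fun q => ⟨q.1.1, ⟨(hval _ q.1.2).1, fun x hx => congrArg Subtype.val (q.2 ⟨x, hx⟩)⟩,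
          q.1.2⟩
        invFun := fun q => ⟨⟨q.1, q.2.2⟩, fun x => Subtype.ext (q.2.1.2 x x.2)⟩
        left_inv := fun q => rfl
        right_inv := fun q => rfl }
    rw [Nat.card_congr e, Nat.subtype_card]
    intro q
    rw [hs', Finset.mem_filter, hs]
  have h4 : Odd s'.card := by
    rw [← h3]
    rw [h2] at hcard
    rw [Nat.odd_iff] at hodd ⊢
    rw [← hodd]
    exact hcard.symm
  rw [hprod, h1]
  obtain ⟨k, hk⟩ := h4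
  rw [hk, pow_succ, pow_mul, pow_two, hφ2, one_pow, one_mul]

/-- The form with subgroups. -/
theorem mem {G : Type*} [Group G] [Finite G] [IsSimpleGroup G] (hG : ¬ ∀ a b : G, a * b = b * a)
    {H N : Subgroup G} (hc : ∀ a ∈ H, ∀ b ∈ H, a * b * a⁻¹ * b⁻¹ ∈ N) {t : G} (ht : t * t = 1)
    (htH : t ∈ H) (T : Subgroup G) (hT : IsPGroup 2 T) (hTt : ∀ x ∈ T, x * t = t * x)
    (hcl : ∀ g : G, (∀ x ∈ T, g⁻¹ * x * g ∈ H) → g⁻¹ * t * g ∈ H → g⁻¹ * t * g ∉ N →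
      ∃ x ∈ H, g⁻¹ * t * g = x⁻¹ * t * x)
    (hodd : Odd (H.subgroupOf (centralizer ({t} : Set G))).index) : t ∈ N := by
  have hn : (N.subgroupOf H).Normal := by
    refine ⟨fun a ha g => ?_⟩
    rw [mem_subgroupOf] at ha ⊢
    have h1 := hc g g.2 a a.2
    have h2 : (g : G) * a * (g : G)⁻¹ = g * a * (g : G)⁻¹ * (a : G)⁻¹ * a := by group
    show (g : G) * a * (g : G)⁻¹ ∈ N
    rw [h2]
    exact N.mul_mem h1 ha
  let A := H ⧸ N.subgroupOf H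
  let _ : CommGroup A :=
    { (inferInstance : Group A) with
      mul_comm := by
        intro a b
        obtain ⟨a, rfl⟩ := QuotientGroup.mk'_surjective (N.subgroupOf H) a
        obtain ⟨b, rfl⟩ := QuotientGroup.mk'_surjective (N.subgroupOf H) b
        have h1 : (QuotientGroup.mk' (N.subgroupOf H)) (a * b * a⁻¹ * b⁻¹) = 1 :=
          (QuotientGroup.eq_one_iff _).mpr (hc a a.2 b b.2)
        rw [map_mul, map_mul, map_mul, map_inv, map_inv, mul_inv_eq_one, mul_inv_eq_iff_eq_mul] at h1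
        exact h1 }
  let φ : H →* A := QuotientGroup.mk' (N.subgroupOf H)
  have hφ : ∀ a : H, φ a = 1 ↔ (a : G) ∈ N := fun a => by
    rw [← mem_subgroupOf]
    exact QuotientGroup.eq_one_iff a
  have h1 : MonoidHom.transfer φ t = φ ⟨t, htH⟩ :=
    transfer_eq H φ t ht htH T hT hTt (fun g h1 h2 h3 => hcl g h1 h2 fun h4 => h3 ((hφ _).2 h4)) hodd
  have h2 : MonoidHom.transfer φ t = 1 := by
    set f := MonoidHom.transfer φ with hf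
    rcases (inferInstance : f.ker.Normal).eq_bot_or_eq_top with hk | hk
    · exfalso
      apply hG
      intro a b
      apply (MonoidHom.ker_eq_bot_iff f).mp hk
      rw [map_mul, map_mul, mul_comm]
    · have : t ∈ f.ker := hk ▸ mem_top t
      exact this
  rw [h2] at h1
  exact (hφ _).1 h1.symm

end Cfsg.Agent.OddHalf.D5.SixAut.OneClass

end

-- merged: Cfsg.Agent.OddHalf.D5.SixAut.ZeroEpsOne
section

/-!
# ODD half, `K = A₆`, C3b, (DBL), `e = 0`, `r² = v₁ v₂ x`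
-/

set_option autoImplicit false
set_option linter.unusedSimpArgs false
set_option linter.unusedVariables false

namespace Cfsg.Agent.OddHalf.D5.SixAut.Zero

open Subgroup

variable {G : Type*} [Group G] {x z f v₁ v₂ s₀ s b w w₂ n m₀ r r₀ g n₀ : G} {T : Subgroup G}

theorem mem_of_eq {Q : Subgroup G} {a c : G} (e : a = c) (h : c ∈ Q) : a ∈ Q := by
  rw [e]; exact h

/-- `T₀ ≤ H` -/
theorem T0_le {H : Subgroup G} (hx : x ∈ H) (hz : z ∈ H) (hf : f ∈ H) (h1 : v₁ ∈ H) (h2 : v₂ ∈ H) :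
    T0 x z f v₁ v₂ ≤ H := by
  rw [T0, closure_le]
  rintro g (rfl | rfl | rfl | rfl | rfl) <;> assumption

namespace B2

variable (k : B2 x z f v₁ v₂ s b w w₂ n m₀)

/-- `P⟨x⟩` -/
def Px : Subgroup G := ext k.P x (by rw [k.h.xx]; exact one_mem _) k.conj_x

theorem P_lePx : k.P ≤ k.Px := fun _ hp => Or.inl hp
theorem x_mem_Px : x ∈ k.Px := Or.inr ⟨1, one_mem _, (mul_one _).symm⟩

theorem Px_comm : ∀ a ∈ k.Px, ∀ c ∈ k.Px, a * c * a⁻¹ * c⁻¹ ∈ k.P := commutator_ext_self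

include k in
/-- `ε = 1` -/
theorem false_one [Finite G] [IsSimpleGroup G] (hG : ¬ ∀ a b : G, a * b = b * a)
    (D : Dbl x z f v₁ v₂ s₀ b r T) (R : RR x z f v₁ v₂ s b r n g) (hg : InL z f g) (hw : w * r = r * w₂)
    (hrr : r * r = v₁ * v₂ * x) : False := by
  have h := k.h
  -- `w₂^r`
  have hw2 : w₂ * r = r * (w * (v₁ * (s * z))) := by
    apply mul_left_cancel (a := r)
    have e1 : r * (w₂ * r) = w * (r * r) := by rw [← mul_assoc, ← hw, mul_assoc]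
    rw [e1, ← mul_assoc r r, hrr]
    simp only [mul_assoc, one_mul, mul_one, h.xx, asc h.xx, h.zz, asc h.zz, h.ff, asc h.ff, h.v11, asc h.v11,
    h.v22, asc h.v22, h.ss, asc h.ss, h.bb, asc h.bb, h.ww, asc h.ww, h.w22, asc h.w22, h.nn, asc h.nn, h.w2x,
    asc h.w2x, h.wx, asc h.wx, h.v2x, asc h.v2x, h.v1x, asc h.v1x, h.bx, asc h.bx, h.sx, asc h.sx, h.fx,
    asc h.fx, h.zx, asc h.zx, h.nx, asc h.nx, h.v2w2, asc h.v2w2, h.v1w2, asc h.v1w2, h.bw2, asc h.bw2, h.sw2,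
    asc h.sw2, h.fw2, asc h.fw2, h.zw2, asc h.zw2, h.nw2, asc h.nw2, h.v2w, asc h.v2w, h.v1w, asc h.v1w, h.bw,
    asc h.bw, h.sw, asc h.sw, h.fw, asc h.fw, h.zw, asc h.zw, h.nw, asc h.nw, h.v1v2, asc h.v1v2, h.bv2,
    asc h.bv2, h.sv2, asc h.sv2, h.fv2, asc h.fv2, h.zv2, asc h.zv2, h.nv2, asc h.nv2, h.bv1, asc h.bv1, h.sv1,
    asc h.sv1, h.fv1, asc h.fv1, h.zv1, asc h.zv1, h.nv1, asc h.nv1, h.sb, asc h.sb, h.fb, asc h.fb, h.zb,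
    asc h.zb, h.nb, asc h.nb, h.fs, asc h.fs, h.zs, asc h.zs, h.ns, asc h.ns, h.zf, asc h.zf, h.nf, asc h.nf,
    h.nz, asc h.nz]
  have hwm : w * (v₁ * (s * z)) ∈ k.P := mul_mem k.wm (mul_mem k.v1m (k.Lm (mul_mem h.sL h.zL)))
  have hPr : ∀ p ∈ k.P, r⁻¹ * p * r ∈ k.P := k.conj_r R hg hw (by rw [cj_of hw2]; exact hwm)
  have hrx : r⁻¹ * x * r = x := cj_of R.xr
  have hrr2 : r * r ∈ k.Px := by
    rw [hrr]
    exact mul_mem (k.P_lePx (mul_mem k.v1m k.v2m)) k.x_mem_Px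
  have hPxr : ∀ p ∈ k.Px, r⁻¹ * p * r ∈ k.Px := by
    rintro p (hp | ⟨q, hq, rfl⟩)
    · exact k.P_lePx (hPr p hp)
    · have : r⁻¹ * (x * q) * r = (r⁻¹ * x * r) * (r⁻¹ * q * r) := by group
      rw [this, hrx]
      exact mul_mem k.x_mem_Px (k.P_lePx (hPr q hq))
  set H : Subgroup G := ext k.Px r hrr2 hPxr with hH
  have hPH : k.P ≤ H := fun p hp => Or.inl (Or.inl hp)
  have hxH : x ∈ H := Or.inl k.x_mem_Px
  have hrH : r ∈ H := self_mem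
  -- `r` normalises `P`
  have hPr' : ∀ p ∈ k.P, r * p * r⁻¹ ∈ k.P := by
    intro p hp
    have e : r * p * r⁻¹ = (r * r) * (r⁻¹ * p * r) * (r * r)⁻¹ := by group
    rw [e, hrr]
    have e2 : v₁ * v₂ * x * (r⁻¹ * p * r) * (v₁ * v₂ * x)⁻¹ =
        (v₁ * v₂) * (x * (r⁻¹ * p * r) * x⁻¹) * (v₁ * v₂)⁻¹ := by group
    rw [e2]
    have hv : v₁ * v₂ ∈ k.P := mul_mem k.v1m k.v2m
    exact mul_mem (mul_mem hv (k.conj_x' _ (hPr p hp))) (inv_mem hv)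
  have hc : ∀ a ∈ H, ∀ c ∈ H, a * c * a⁻¹ * c⁻¹ ∈ k.P := by
    apply commutator_ext hPr' k.Px_comm
    have key : ∀ p ∈ k.P, r * p * r⁻¹ * p⁻¹ ∈ k.P := fun p hp => mul_mem (hPr' p hp) (inv_mem hp)
    rintro p (hp | ⟨q, hq, rfl⟩)
    · exact key p hp
    · have e : r * (x * q) * r⁻¹ * (x * q)⁻¹ = x * (r * q * r⁻¹ * q⁻¹) * x⁻¹ := by
        calc r * (x * q) * r⁻¹ * (x * q)⁻¹ = (r * x) * q * r⁻¹ * q⁻¹ * x⁻¹ := by group
          _ = _ := by rw [← R.xr]; group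
      rw [e]
      exact k.conj_x' _ (key q hq)
  -- `T ≤ H`
  have hTH : T ≤ H := by
    have h0 : T0 x z f v₁ v₂ ≤ H :=
      T0_le hxH (hPH (k.Lm h.zL)) (hPH (k.Lm h.fL)) (hPH k.v1m) (hPH k.v2m)
    intro t ht
    rcases D.T_form t ht with h1 | ⟨u, hu, rfl⟩
    · exact h0 h1
    · exact mul_mem hrH (h0 hu)
  -- involutions of `H ∖ P`
  have hv12 : v₁ * v₂ ∈ k.P := mul_mem k.v1m k.v2m
  have hinv : ∀ y ∈ H, y * y = 1 → y ∉ k.P → ∃ p ∈ k.P, y = x * p := by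
    rintro y ((hy | ⟨q, hq, rfl⟩) | ⟨q, hq, rfl⟩) hyy hyP
    · exact absurd hy hyP
    · exact ⟨q, hq, rfl⟩
    · exfalso
      rcases hq with hq | ⟨p, hp, rfl⟩
      · have e : r * q * (r * q) = (v₁ * v₂) * x * ((r⁻¹ * q * r) * q) := by
          rw [← hrr]; group
        rw [e] at hyy
        have e3 : x = (v₁ * v₂)⁻¹ * (r⁻¹ * q * r * q)⁻¹ := by
          rw [eq_inv_mul_iff_mul_eq, eq_inv_iff_mul_eq_one]; exact hyy
        exact k.xP (mem_of_eq e3 (mul_mem (inv_mem hv12) (inv_mem (mul_mem (hPr q hq) hq))))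
      · have e : r * (x * p) * (r * (x * p)) = (v₁ * v₂) * x * x * ((r⁻¹ * p * r) * x * p) := by
          calc r * (x * p) * (r * (x * p)) = (r * r) * (r⁻¹ * x * r) * (r⁻¹ * p * r) * x * p := by group
            _ = _ := by rw [hrx, hrr]; simp only [mul_assoc]
        rw [e, mul_assoc (v₁ * v₂) x x, h.xx, mul_one] at hyy
        have e4 : v₁ * v₂ * (r⁻¹ * p * r) * x * p = 1 := by rw [← hyy]; simp only [mul_assoc]
        have e3 : x = (v₁ * v₂ * (r⁻¹ * p * r))⁻¹ * p⁻¹ := by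
          rw [eq_inv_mul_iff_mul_eq, eq_inv_iff_mul_eq_one]; exact e4
        exact k.xP (mem_of_eq e3 (mul_mem (inv_mem (mul_mem hv12 (hPr p hp))) (inv_mem hp)))
  refine k.xP (OneClass.mem hG hc h.xx hxH T D.pT D.Tx ?_ (odd_index D hTH))
  intro q hq h1 h2
  have hyy : q⁻¹ * x * q * (q⁻¹ * x * q) = 1 := by
    calc q⁻¹ * x * q * (q⁻¹ * x * q) = q⁻¹ * (x * x) * q := by group
      _ = 1 := by rw [h.xx, mul_one, inv_mul_cancel]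
  obtain ⟨p, hp, e⟩ := hinv _ h1 hyy h2
  rw [e] at hyy
  obtain ⟨c, hc, e2⟩ := k.conj_of_sq hp hyy
  exact ⟨c, hPH hc, by rw [e, e2]⟩

end B2

end Cfsg.Agent.OddHalf.D5.SixAut.Zero

end

-- merged: Cfsg.Agent.OddHalf.D5.SixAut.ZeroS3
section

/-!
# ODD half, `K = A₆`, C3b, (DBL), `e = 0`, `r² = v₁ v₂`
-/

set_option autoImplicit false
set_option linter.unusedSimpArgs false
set_option linter.unusedVariables false

namespace Cfsg.Agent.OddHalf.D5.SixAut.Zero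

open Subgroup

variable {G : Type*} [Group G] {x z f v₁ v₂ s₀ s b w w₂ m₀ r r₀ g n₀ : G} {T : Subgroup G}

namespace B2

variable (k : B2 x z f v₁ v₂ s b w w₂ 1 m₀) (R : RR x z f v₁ v₂ s b r 1 g)
  (hg : g = 1 ∨ g = z) (hrr : r * r = v₁ * v₂) (hw : w * r = r * w₂)

include k R hrr hw in
/-- `w₂^r = w s` -/
theorem w2r : w₂ * r = r * (w * s) := by
  have h := k.h
  apply mul_left_cancel (a := r)
  have e1 : r * (w₂ * r) = w * (r * r) := by rw [← mul_assoc, ← hw, mul_assoc]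
  rw [e1, ← mul_assoc r r, hrr]
  simp only [mul_assoc, one_mul, mul_one, h.xx, asc h.xx, h.zz, asc h.zz, h.ff, asc h.ff, h.v11, asc h.v11,
    h.v22, asc h.v22, h.ss, asc h.ss, h.bb, asc h.bb, h.ww, asc h.ww, h.w22, asc h.w22, h.w2x, asc h.w2x, h.wx,
    asc h.wx, h.v2x, asc h.v2x, h.v1x, asc h.v1x, h.bx, asc h.bx, h.sx, asc h.sx, h.fx, asc h.fx, h.zx,
    asc h.zx, h.v2w2, asc h.v2w2, h.v1w2, asc h.v1w2, h.bw2, asc h.bw2, h.sw2, asc h.sw2, h.fw2, asc h.fw2,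
    h.zw2, asc h.zw2, h.v2w, asc h.v2w, h.v1w, asc h.v1w, h.bw, asc h.bw, h.sw, asc h.sw, h.fw, asc h.fw, h.zw,
    asc h.zw, h.v1v2, asc h.v1v2, h.bv2, asc h.bv2, h.sv2, asc h.sv2, h.fv2, asc h.fv2, h.zv2, asc h.zv2,
    h.bv1, asc h.bv1, h.sv1, asc h.sv1, h.fv1, asc h.fv1, h.zv1, asc h.zv1, h.sb, asc h.sb, h.fb, asc h.fb,
    h.zb, asc h.zb, h.fs, asc h.fs, h.zs, asc h.zs, h.zf, asc h.zf]

include k R hrr hw in
theorem m0_eq : m₀ = s ∨ m₀ = s * z := by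
  have h := k.h
  have M := h.mr k.m0
  obtain ⟨m', hm', hmx, hcase⟩ := k.exists_x k.m0
  have hm2 : m' = m₀ * z := by
    have M' := h.mr hm'
    have e1 : w * (w₂ * x) = x * (w * (w₂ * (v₂ * (v₁ * (s * z))))) := by
      simp only [mul_assoc, one_mul, mul_one, h.xx, asc h.xx, h.zz, asc h.zz, h.ff, asc h.ff, h.v11, asc h.v11,
    h.v22, asc h.v22, h.ss, asc h.ss, h.bb, asc h.bb, h.ww, asc h.ww, h.w22, asc h.w22, h.w2x, asc h.w2x, h.wx,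
    asc h.wx, h.v2x, asc h.v2x, h.v1x, asc h.v1x, h.bx, asc h.bx, h.sx, asc h.sx, h.fx, asc h.fx, h.zx,
    asc h.zx, h.v2w2, asc h.v2w2, h.v1w2, asc h.v1w2, h.bw2, asc h.bw2, h.sw2, asc h.sw2, h.fw2, asc h.fw2,
    h.zw2, asc h.zw2, h.v2w, asc h.v2w, h.v1w, asc h.v1w, h.bw, asc h.bw, h.sw, asc h.sw, h.fw, asc h.fw, h.zw,
    asc h.zw, h.v1v2, asc h.v1v2, h.bv2, asc h.bv2, h.sv2, asc h.sv2, h.fv2, asc h.fv2, h.zv2, asc h.zv2,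
    h.bv1, asc h.bv1, h.sv1, asc h.sv1, h.fv1, asc h.fv1, h.zv1, asc h.zv1, h.sb, asc h.sb, h.fb, asc h.fb,
    h.zb, asc h.zb, h.fs, asc h.fs, h.zs, asc h.zs, h.zf, asc h.zf]
    have e2 : w₂ * (w * (x * m')) = x * (w₂ * (w * (v₂ * (v₁ * (s * m'))))) := by
      simp only [mul_assoc, one_mul, mul_one, h.xx, asc h.xx, h.zz, asc h.zz, h.ff, asc h.ff, h.v11, asc h.v11,
    h.v22, asc h.v22, h.ss, asc h.ss, h.bb, asc h.bb, h.ww, asc h.ww, h.w22, asc h.w22, h.w2x, asc h.w2x, h.wx,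
    asc h.wx, h.v2x, asc h.v2x, h.v1x, asc h.v1x, h.bx, asc h.bx, h.sx, asc h.sx, h.fx, asc h.fx, h.zx,
    asc h.zx, h.v2w2, asc h.v2w2, h.v1w2, asc h.v1w2, h.bw2, asc h.bw2, h.sw2, asc h.sw2, h.fw2, asc h.fw2,
    h.zw2, asc h.zw2, h.v2w, asc h.v2w, h.v1w, asc h.v1w, h.bw, asc h.bw, h.sw, asc h.sw, h.fw, asc h.fw, h.zw,
    asc h.zw, h.v1v2, asc h.v1v2, h.bv2, asc h.bv2, h.sv2, asc h.sv2, h.fv2, asc h.fv2, h.zv2, asc h.zv2,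
    h.bv1, asc h.bv1, h.sv1, asc h.sv1, h.fv1, asc h.fv1, h.zv1, asc h.zv1, h.sb, asc h.sb, h.fb, asc h.fb,
    h.zb, asc h.zb, h.fs, asc h.fs, h.zs, asc h.zs, h.zf, asc h.zf]
    have e3 : w * (w₂ * x) = w₂ * (w * (x * m')) := by
      rw [← mul_assoc, k.ww2, mul_assoc, mul_assoc, hmx]
    have e4 : x * (w * (w₂ * (v₂ * (v₁ * (s * z))))) = x * (w₂ * (w * (v₂ * (v₁ * (s * (m₀ * z)))))) := by
      have e5 : w * (w₂ * (v₂ * (v₁ * (s * z)))) = w₂ * (w * (m₀ * (v₂ * (v₁ * (s * z))))) := by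
        rw [← mul_assoc, k.ww2]; simp only [mul_assoc]
      rw [e5]
      simp only [mul_assoc, M.mv2, asc M.mv2, M.mv1, asc M.mv1, M.ms, asc M.ms]
    rw [← e1, e3, e2] at e4
    exact mul_left_cancel (mul_left_cancel (mul_left_cancel (mul_left_cancel (mul_left_cancel
      (mul_left_cancel e4)))))
  have hst : ∃ t, InL z f t ∧ m₀ = s * t := by
    rcases hcase with ⟨h1, h2⟩ | ⟨h1, h2⟩ | h1 | h1
    · exact absurd (mul_eq_left.mp (hm2.symm.trans h2)) h.z1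
    · exact h2
    · exact absurd (mul_left_cancel (h1.symm.trans hm2)) h.fz1
    · have h2 : f * z = z := mul_left_cancel (h1.symm.trans hm2)
      exact absurd (mul_eq_right.mp h2) h.f1
  -- `m₀^r = m₀`
  have hm0r : ∀ m, m ∈ h.L → m₀ * r = r * m → m₀ * m = 1 := by
    intro m hm hmr
    have M1 := h.mr hm
    have hw2 := k.w2r R hrr hw
    have e1 : w * (w₂ * r) = r * (w₂ * (w * s)) := by
      rw [hw2, ← mul_assoc, hw, mul_assoc]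
    have e2 : w * (w₂ * r) = r * (w * (w₂ * (s * m))) := by
      rw [← mul_assoc, k.ww2, mul_assoc, mul_assoc, hmr, ← mul_assoc w, hw, mul_assoc, ← mul_assoc w₂, hw2]
      simp only [mul_assoc]
      rw [← mul_assoc s, h.sw2, mul_assoc]
    have e3 : w * (w₂ * (s * m)) = w₂ * (w * (s * (m₀ * m))) := by
      rw [← mul_assoc, k.ww2]
      simp only [mul_assoc]
      rw [← mul_assoc m₀ s, M.ms, mul_assoc]
    rw [e1, e3] at e2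
    have e4 := mul_left_cancel (mul_left_cancel (mul_left_cancel e2))
    exact mul_eq_left.mp e4.symm
  obtain ⟨t, ht, hmt⟩ := hst
  rcases ht with ht | ht | ht | ht
  · left; rw [hmt, ht, mul_one]
  · right; rw [hmt, ht]
  · exfalso
    have h1 := hm0r (s * (f * z)) (mul_mem h.sL (mul_mem h.fL h.zL)) (by
      rw [hmt, ht, mul_assoc, R.fr, ← mul_assoc, R.sr]; simp only [mul_assoc, one_mul])
    rw [hmt, ht] at h1
    have h2 : s * f * (s * (f * z)) = z := by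
      simp only [mul_assoc, one_mul, mul_one, h.xx, asc h.xx, h.zz, asc h.zz, h.ff, asc h.ff, h.v11, asc h.v11,
    h.v22, asc h.v22, h.ss, asc h.ss, h.bb, asc h.bb, h.ww, asc h.ww, h.w22, asc h.w22, h.w2x, asc h.w2x, h.wx,
    asc h.wx, h.v2x, asc h.v2x, h.v1x, asc h.v1x, h.bx, asc h.bx, h.sx, asc h.sx, h.fx, asc h.fx, h.zx,
    asc h.zx, h.v2w2, asc h.v2w2, h.v1w2, asc h.v1w2, h.bw2, asc h.bw2, h.sw2, asc h.sw2, h.fw2, asc h.fw2,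
    h.zw2, asc h.zw2, h.v2w, asc h.v2w, h.v1w, asc h.v1w, h.bw, asc h.bw, h.sw, asc h.sw, h.fw, asc h.fw, h.zw,
    asc h.zw, h.v1v2, asc h.v1v2, h.bv2, asc h.bv2, h.sv2, asc h.sv2, h.fv2, asc h.fv2, h.zv2, asc h.zv2,
    h.bv1, asc h.bv1, h.sv1, asc h.sv1, h.fv1, asc h.fv1, h.zv1, asc h.zv1, h.sb, asc h.sb, h.fb, asc h.fb,
    h.zb, asc h.zb, h.fs, asc h.fs, h.zs, asc h.zs, h.zf, asc h.zf]
    exact h.z1 (h2.symm.trans h1)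
  · exfalso
    have h1 := hm0r (s * f) (mul_mem h.sL h.fL) (by
      rw [hmt, ht, mul_assoc, mul_assoc, R.zr, ← mul_assoc f, R.fr, ← mul_assoc s, ← mul_assoc s, R.sr]
      simp only [mul_assoc, one_mul, h.zz, mul_one])
    rw [hmt, ht] at h1
    have h2 : s * (f * z) * (s * f) = z := by
      simp only [mul_assoc, one_mul, mul_one, h.xx, asc h.xx, h.zz, asc h.zz, h.ff, asc h.ff, h.v11, asc h.v11,
    h.v22, asc h.v22, h.ss, asc h.ss, h.bb, asc h.bb, h.ww, asc h.ww, h.w22, asc h.w22, h.w2x, asc h.w2x, h.wx,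
    asc h.wx, h.v2x, asc h.v2x, h.v1x, asc h.v1x, h.bx, asc h.bx, h.sx, asc h.sx, h.fx, asc h.fx, h.zx,
    asc h.zx, h.v2w2, asc h.v2w2, h.v1w2, asc h.v1w2, h.bw2, asc h.bw2, h.sw2, asc h.sw2, h.fw2, asc h.fw2,
    h.zw2, asc h.zw2, h.v2w, asc h.v2w, h.v1w, asc h.v1w, h.bw, asc h.bw, h.sw, asc h.sw, h.fw, asc h.fw, h.zw,
    asc h.zw, h.v1v2, asc h.v1v2, h.bv2, asc h.bv2, h.sv2, asc h.sv2, h.fv2, asc h.fv2, h.zv2, asc h.zv2,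
    h.bv1, asc h.bv1, h.sv1, asc h.sv1, h.fv1, asc h.fv1, h.zv1, asc h.zv1, h.sb, asc h.sb, h.fb, asc h.fb,
    h.zb, asc h.zb, h.fs, asc h.fs, h.zs, asc h.zs, h.zf, asc h.zf]
    exact h.z1 (h2.symm.trans h1)

include R hg in
theorem exists_r {m : G} (hm : m ∈ k.h.L) : ∃ m' ∈ k.h.L, m * r = r * m' := by
  have hgl : InL z f g := by
    rcases hg with hg | hg
    · exact Or.inl hg
    · exact Or.inr (Or.inl hg)
  exact ⟨r⁻¹ * m * r, k.conj_rL R hgl m hm, by group⟩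

set_option maxHeartbeats 4000000 in
include R hg hrr hw in
/-- (S3) -/
theorem s3 {p : G} (hp : p ∈ k.P) (hy : r * p * (r * p) = 1) :
    ∃ e₁ ∈ k.P, ∃ e₂ ∈ k.P, e₁ * (r * p) = r * p * e₁ ∧ e₂ * (r * p) = r * p * e₂ ∧
      e₁ * e₁ = z ∧ e₂ * e₂ = m₀ := by
  have h := k.h
  obtain ⟨m, hm, u, hu, hpu⟩ := k.form hp
  obtain ⟨m', hm', hmr⟩ := k.exists_r R hg hm
  have M := h.mr hm
  have M' := h.mr hm'
  have M0 := h.mr k.m0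
  have hm0 : m * m₀ = m₀ * m := k.comm_LL hm k.m0
  have hm0' : m' * m₀ = m₀ * m' := k.comm_LL hm' k.m0
  have hw2 := k.w2r R hrr hw
  have hm0s := k.m0_eq R hrr hw
  have hm0r : m₀ * r = r * m₀ := by
    rcases hm0s with e | e <;> rw [e]
    · rw [R.sr, mul_one]
    · rw [mul_assoc, R.zr, ← mul_assoc, R.sr, mul_one, mul_assoc]
  have hs1 : s ≠ 1 := h.s_ne
  have hsz : s * z ≠ 1 := by
    intro e
    have e1 : s = z := by rw [← mul_one s, ← h.zz, ← mul_assoc, e, one_mul]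
    have e2 := h.sx
    rw [e1, h.zz, mul_one, h.zx] at e2
    exact h.z1 (mul_eq_left.mp e2)
  have hno : ∀ v e, e ≠ 1 → v * (r * p * (r * p)) = r * p * (r * p) * (v * e) → False := by
    intro v e he hv
    rw [hy, mul_one, one_mul] at hv
    exact he (mul_eq_left.mp hv.symm)
  -- the remaining forms
  have main : (∃ u', (u' = v₁ * m ∨ u' = v₂ * m) ∧ (p = u' ∨ p = w₂ * (w * u'))) := by
    rcases hpu with hpu | hpu | hpu | hpu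
    · rcases hu with hu | hu | hu | hu
      · exfalso
        apply hno v₁ z h.z1
        rw [hpu, hu]
        simp only [mul_assoc, one_mul, mul_one, h.xx, asc h.xx, h.zz, asc h.zz, h.ff, asc h.ff, h.v11, asc h.v11,
    h.v22, asc h.v22, h.ss, asc h.ss, h.bb, asc h.bb, h.ww, asc h.ww, h.w22, asc h.w22, h.w2x, asc h.w2x, h.wx,
    asc h.wx, h.v2x, asc h.v2x, h.v1x, asc h.v1x, h.bx, asc h.bx, h.sx, asc h.sx, h.fx, asc h.fx, h.zx,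
    asc h.zx, h.v2w2, asc h.v2w2, h.v1w2, asc h.v1w2, h.bw2, asc h.bw2, h.sw2, asc h.sw2, h.fw2, asc h.fw2,
    h.zw2, asc h.zw2, h.v2w, asc h.v2w, h.v1w, asc h.v1w, h.bw, asc h.bw, h.sw, asc h.sw, h.fw, asc h.fw, h.zw,
    asc h.zw, h.v1v2, asc h.v1v2, h.bv2, asc h.bv2, h.sv2, asc h.sv2, h.fv2, asc h.fv2, h.zv2, asc h.zv2,
    h.bv1, asc h.bv1, h.sv1, asc h.sv1, h.fv1, asc h.fv1, h.zv1, asc h.zv1, h.sb, asc h.sb, h.fb, asc h.fb,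
    h.zb, asc h.zb, h.fs, asc h.fs, h.zs, asc h.zs, h.zf, asc h.zf, M.mw2, asc M.mw2, M.mw, asc M.mw, M.mv2,
    asc M.mv2, M.mv1, asc M.mv1, M.mb, asc M.mb, M.ms, asc M.ms, M.mf, asc M.mf, M.mz, asc M.mz, M.mm,
    asc M.mm, M'.mw2, asc M'.mw2, M'.mw, asc M'.mw, M'.mv2, asc M'.mv2, M'.mv1, asc M'.mv1, M'.mb, asc M'.mb,
    M'.ms, asc M'.ms, M'.mf, asc M'.mf, M'.mz, asc M'.mz, M'.mm, asc M'.mm, M0.mw2, asc M0.mw2, M0.mw,
    asc M0.mw, M0.mv2, asc M0.mv2, M0.mv1, asc M0.mv1, M0.mb, asc M0.mb, M0.ms, asc M0.ms, M0.mf, asc M0.mf,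
    M0.mz, asc M0.mz, M0.mm, asc M0.mm, k.ww2, asc k.ww2, R.zr, asc R.zr, R.fr, asc R.fr, R.v1r, asc R.v1r,
    R.v2r, asc R.v2r, R.sr, asc R.sr, hw, asc hw, hw2, asc hw2, hmr, asc hmr, hm0, asc hm0, hm0', asc hm0',
    hm0r, asc hm0r, hrr, asc hrr]
      · exact ⟨u, Or.inl hu, Or.inl hpu⟩
      · exact ⟨u, Or.inr hu, Or.inl hpu⟩
      · exfalso
        apply hno v₁ z h.z1
        rw [hpu, hu]
        simp only [mul_assoc, one_mul, mul_one, h.xx, asc h.xx, h.zz, asc h.zz, h.ff, asc h.ff, h.v11, asc h.v11,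
    h.v22, asc h.v22, h.ss, asc h.ss, h.bb, asc h.bb, h.ww, asc h.ww, h.w22, asc h.w22, h.w2x, asc h.w2x, h.wx,
    asc h.wx, h.v2x, asc h.v2x, h.v1x, asc h.v1x, h.bx, asc h.bx, h.sx, asc h.sx, h.fx, asc h.fx, h.zx,
    asc h.zx, h.v2w2, asc h.v2w2, h.v1w2, asc h.v1w2, h.bw2, asc h.bw2, h.sw2, asc h.sw2, h.fw2, asc h.fw2,
    h.zw2, asc h.zw2, h.v2w, asc h.v2w, h.v1w, asc h.v1w, h.bw, asc h.bw, h.sw, asc h.sw, h.fw, asc h.fw, h.zw,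
    asc h.zw, h.v1v2, asc h.v1v2, h.bv2, asc h.bv2, h.sv2, asc h.sv2, h.fv2, asc h.fv2, h.zv2, asc h.zv2,
    h.bv1, asc h.bv1, h.sv1, asc h.sv1, h.fv1, asc h.fv1, h.zv1, asc h.zv1, h.sb, asc h.sb, h.fb, asc h.fb,
    h.zb, asc h.zb, h.fs, asc h.fs, h.zs, asc h.zs, h.zf, asc h.zf, M.mw2, asc M.mw2, M.mw, asc M.mw, M.mv2,
    asc M.mv2, M.mv1, asc M.mv1, M.mb, asc M.mb, M.ms, asc M.ms, M.mf, asc M.mf, M.mz, asc M.mz, M.mm,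
    asc M.mm, M'.mw2, asc M'.mw2, M'.mw, asc M'.mw, M'.mv2, asc M'.mv2, M'.mv1, asc M'.mv1, M'.mb, asc M'.mb,
    M'.ms, asc M'.ms, M'.mf, asc M'.mf, M'.mz, asc M'.mz, M'.mm, asc M'.mm, M0.mw2, asc M0.mw2, M0.mw,
    asc M0.mw, M0.mv2, asc M0.mv2, M0.mv1, asc M0.mv1, M0.mb, asc M0.mb, M0.ms, asc M0.ms, M0.mf, asc M0.mf,
    M0.mz, asc M0.mz, M0.mm, asc M0.mm, k.ww2, asc k.ww2, R.zr, asc R.zr, R.fr, asc R.fr, R.v1r, asc R.v1r,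
    R.v2r, asc R.v2r, R.sr, asc R.sr, hw, asc hw, hw2, asc hw2, hmr, asc hmr, hm0, asc hm0, hm0', asc hm0',
    hm0r, asc hm0r, hrr, asc hrr]
    · exfalso
      rcases hu with hu | hu | hu | hu
      · apply hno v₂ (s * z) hsz
        rw [hpu, hu]
        simp only [mul_assoc, one_mul, mul_one, h.xx, asc h.xx, h.zz, asc h.zz, h.ff, asc h.ff, h.v11, asc h.v11,
    h.v22, asc h.v22, h.ss, asc h.ss, h.bb, asc h.bb, h.ww, asc h.ww, h.w22, asc h.w22, h.w2x, asc h.w2x, h.wx,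
    asc h.wx, h.v2x, asc h.v2x, h.v1x, asc h.v1x, h.bx, asc h.bx, h.sx, asc h.sx, h.fx, asc h.fx, h.zx,
    asc h.zx, h.v2w2, asc h.v2w2, h.v1w2, asc h.v1w2, h.bw2, asc h.bw2, h.sw2, asc h.sw2, h.fw2, asc h.fw2,
    h.zw2, asc h.zw2, h.v2w, asc h.v2w, h.v1w, asc h.v1w, h.bw, asc h.bw, h.sw, asc h.sw, h.fw, asc h.fw, h.zw,
    asc h.zw, h.v1v2, asc h.v1v2, h.bv2, asc h.bv2, h.sv2, asc h.sv2, h.fv2, asc h.fv2, h.zv2, asc h.zv2,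
    h.bv1, asc h.bv1, h.sv1, asc h.sv1, h.fv1, asc h.fv1, h.zv1, asc h.zv1, h.sb, asc h.sb, h.fb, asc h.fb,
    h.zb, asc h.zb, h.fs, asc h.fs, h.zs, asc h.zs, h.zf, asc h.zf, M.mw2, asc M.mw2, M.mw, asc M.mw, M.mv2,
    asc M.mv2, M.mv1, asc M.mv1, M.mb, asc M.mb, M.ms, asc M.ms, M.mf, asc M.mf, M.mz, asc M.mz, M.mm,
    asc M.mm, M'.mw2, asc M'.mw2, M'.mw, asc M'.mw, M'.mv2, asc M'.mv2, M'.mv1, asc M'.mv1, M'.mb, asc M'.mb,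
    M'.ms, asc M'.ms, M'.mf, asc M'.mf, M'.mz, asc M'.mz, M'.mm, asc M'.mm, M0.mw2, asc M0.mw2, M0.mw,
    asc M0.mw, M0.mv2, asc M0.mv2, M0.mv1, asc M0.mv1, M0.mb, asc M0.mb, M0.ms, asc M0.ms, M0.mf, asc M0.mf,
    M0.mz, asc M0.mz, M0.mm, asc M0.mm, k.ww2, asc k.ww2, R.zr, asc R.zr, R.fr, asc R.fr, R.v1r, asc R.v1r,
    R.v2r, asc R.v2r, R.sr, asc R.sr, hw, asc hw, hw2, asc hw2, hmr, asc hmr, hm0, asc hm0, hm0', asc hm0',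
    hm0r, asc hm0r, hrr, asc hrr]
      · apply hno v₂ s hs1
        rw [hpu, hu]
        simp only [mul_assoc, one_mul, mul_one, h.xx, asc h.xx, h.zz, asc h.zz, h.ff, asc h.ff, h.v11, asc h.v11,
    h.v22, asc h.v22, h.ss, asc h.ss, h.bb, asc h.bb, h.ww, asc h.ww, h.w22, asc h.w22, h.w2x, asc h.w2x, h.wx,
    asc h.wx, h.v2x, asc h.v2x, h.v1x, asc h.v1x, h.bx, asc h.bx, h.sx, asc h.sx, h.fx, asc h.fx, h.zx,
    asc h.zx, h.v2w2, asc h.v2w2, h.v1w2, asc h.v1w2, h.bw2, asc h.bw2, h.sw2, asc h.sw2, h.fw2, asc h.fw2,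
    h.zw2, asc h.zw2, h.v2w, asc h.v2w, h.v1w, asc h.v1w, h.bw, asc h.bw, h.sw, asc h.sw, h.fw, asc h.fw, h.zw,
    asc h.zw, h.v1v2, asc h.v1v2, h.bv2, asc h.bv2, h.sv2, asc h.sv2, h.fv2, asc h.fv2, h.zv2, asc h.zv2,
    h.bv1, asc h.bv1, h.sv1, asc h.sv1, h.fv1, asc h.fv1, h.zv1, asc h.zv1, h.sb, asc h.sb, h.fb, asc h.fb,
    h.zb, asc h.zb, h.fs, asc h.fs, h.zs, asc h.zs, h.zf, asc h.zf, M.mw2, asc M.mw2, M.mw, asc M.mw, M.mv2,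
    asc M.mv2, M.mv1, asc M.mv1, M.mb, asc M.mb, M.ms, asc M.ms, M.mf, asc M.mf, M.mz, asc M.mz, M.mm,
    asc M.mm, M'.mw2, asc M'.mw2, M'.mw, asc M'.mw, M'.mv2, asc M'.mv2, M'.mv1, asc M'.mv1, M'.mb, asc M'.mb,
    M'.ms, asc M'.ms, M'.mf, asc M'.mf, M'.mz, asc M'.mz, M'.mm, asc M'.mm, M0.mw2, asc M0.mw2, M0.mw,
    asc M0.mw, M0.mv2, asc M0.mv2, M0.mv1, asc M0.mv1, M0.mb, asc M0.mb, M0.ms, asc M0.ms, M0.mf, asc M0.mf,
    M0.mz, asc M0.mz, M0.mm, asc M0.mm, k.ww2, asc k.ww2, R.zr, asc R.zr, R.fr, asc R.fr, R.v1r, asc R.v1r,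
    R.v2r, asc R.v2r, R.sr, asc R.sr, hw, asc hw, hw2, asc hw2, hmr, asc hmr, hm0, asc hm0, hm0', asc hm0',
    hm0r, asc hm0r, hrr, asc hrr]
      · apply hno v₂ s hs1
        rw [hpu, hu]
        simp only [mul_assoc, one_mul, mul_one, h.xx, asc h.xx, h.zz, asc h.zz, h.ff, asc h.ff, h.v11, asc h.v11,
    h.v22, asc h.v22, h.ss, asc h.ss, h.bb, asc h.bb, h.ww, asc h.ww, h.w22, asc h.w22, h.w2x, asc h.w2x, h.wx,
    asc h.wx, h.v2x, asc h.v2x, h.v1x, asc h.v1x, h.bx, asc h.bx, h.sx, asc h.sx, h.fx, asc h.fx, h.zx,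
    asc h.zx, h.v2w2, asc h.v2w2, h.v1w2, asc h.v1w2, h.bw2, asc h.bw2, h.sw2, asc h.sw2, h.fw2, asc h.fw2,
    h.zw2, asc h.zw2, h.v2w, asc h.v2w, h.v1w, asc h.v1w, h.bw, asc h.bw, h.sw, asc h.sw, h.fw, asc h.fw, h.zw,
    asc h.zw, h.v1v2, asc h.v1v2, h.bv2, asc h.bv2, h.sv2, asc h.sv2, h.fv2, asc h.fv2, h.zv2, asc h.zv2,
    h.bv1, asc h.bv1, h.sv1, asc h.sv1, h.fv1, asc h.fv1, h.zv1, asc h.zv1, h.sb, asc h.sb, h.fb, asc h.fb,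
    h.zb, asc h.zb, h.fs, asc h.fs, h.zs, asc h.zs, h.zf, asc h.zf, M.mw2, asc M.mw2, M.mw, asc M.mw, M.mv2,
    asc M.mv2, M.mv1, asc M.mv1, M.mb, asc M.mb, M.ms, asc M.ms, M.mf, asc M.mf, M.mz, asc M.mz, M.mm,
    asc M.mm, M'.mw2, asc M'.mw2, M'.mw, asc M'.mw, M'.mv2, asc M'.mv2, M'.mv1, asc M'.mv1, M'.mb, asc M'.mb,
    M'.ms, asc M'.ms, M'.mf, asc M'.mf, M'.mz, asc M'.mz, M'.mm, asc M'.mm, M0.mw2, asc M0.mw2, M0.mw,
    asc M0.mw, M0.mv2, asc M0.mv2, M0.mv1, asc M0.mv1, M0.mb, asc M0.mb, M0.ms, asc M0.ms, M0.mf, asc M0.mf,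
    M0.mz, asc M0.mz, M0.mm, asc M0.mm, k.ww2, asc k.ww2, R.zr, asc R.zr, R.fr, asc R.fr, R.v1r, asc R.v1r,
    R.v2r, asc R.v2r, R.sr, asc R.sr, hw, asc hw, hw2, asc hw2, hmr, asc hmr, hm0, asc hm0, hm0', asc hm0',
    hm0r, asc hm0r, hrr, asc hrr]
      · apply hno v₂ (s * z) hsz
        rw [hpu, hu]
        simp only [mul_assoc, one_mul, mul_one, h.xx, asc h.xx, h.zz, asc h.zz, h.ff, asc h.ff, h.v11, asc h.v11,
    h.v22, asc h.v22, h.ss, asc h.ss, h.bb, asc h.bb, h.ww, asc h.ww, h.w22, asc h.w22, h.w2x, asc h.w2x, h.wx,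
    asc h.wx, h.v2x, asc h.v2x, h.v1x, asc h.v1x, h.bx, asc h.bx, h.sx, asc h.sx, h.fx, asc h.fx, h.zx,
    asc h.zx, h.v2w2, asc h.v2w2, h.v1w2, asc h.v1w2, h.bw2, asc h.bw2, h.sw2, asc h.sw2, h.fw2, asc h.fw2,
    h.zw2, asc h.zw2, h.v2w, asc h.v2w, h.v1w, asc h.v1w, h.bw, asc h.bw, h.sw, asc h.sw, h.fw, asc h.fw, h.zw,
    asc h.zw, h.v1v2, asc h.v1v2, h.bv2, asc h.bv2, h.sv2, asc h.sv2, h.fv2, asc h.fv2, h.zv2, asc h.zv2,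
    h.bv1, asc h.bv1, h.sv1, asc h.sv1, h.fv1, asc h.fv1, h.zv1, asc h.zv1, h.sb, asc h.sb, h.fb, asc h.fb,
    h.zb, asc h.zb, h.fs, asc h.fs, h.zs, asc h.zs, h.zf, asc h.zf, M.mw2, asc M.mw2, M.mw, asc M.mw, M.mv2,
    asc M.mv2, M.mv1, asc M.mv1, M.mb, asc M.mb, M.ms, asc M.ms, M.mf, asc M.mf, M.mz, asc M.mz, M.mm,
    asc M.mm, M'.mw2, asc M'.mw2, M'.mw, asc M'.mw, M'.mv2, asc M'.mv2, M'.mv1, asc M'.mv1, M'.mb, asc M'.mb,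
    M'.ms, asc M'.ms, M'.mf, asc M'.mf, M'.mz, asc M'.mz, M'.mm, asc M'.mm, M0.mw2, asc M0.mw2, M0.mw,
    asc M0.mw, M0.mv2, asc M0.mv2, M0.mv1, asc M0.mv1, M0.mb, asc M0.mb, M0.ms, asc M0.ms, M0.mf, asc M0.mf,
    M0.mz, asc M0.mz, M0.mm, asc M0.mm, k.ww2, asc k.ww2, R.zr, asc R.zr, R.fr, asc R.fr, R.v1r, asc R.v1r,
    R.v2r, asc R.v2r, R.sr, asc R.sr, hw, asc hw, hw2, asc hw2, hmr, asc hmr, hm0, asc hm0, hm0', asc hm0',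
    hm0r, asc hm0r, hrr, asc hrr]
    · exfalso
      rcases hu with hu | hu | hu | hu
      · apply hno v₂ (s * z) hsz
        rw [hpu, hu]
        simp only [mul_assoc, one_mul, mul_one, h.xx, asc h.xx, h.zz, asc h.zz, h.ff, asc h.ff, h.v11, asc h.v11,
    h.v22, asc h.v22, h.ss, asc h.ss, h.bb, asc h.bb, h.ww, asc h.ww, h.w22, asc h.w22, h.w2x, asc h.w2x, h.wx,
    asc h.wx, h.v2x, asc h.v2x, h.v1x, asc h.v1x, h.bx, asc h.bx, h.sx, asc h.sx, h.fx, asc h.fx, h.zx,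
    asc h.zx, h.v2w2, asc h.v2w2, h.v1w2, asc h.v1w2, h.bw2, asc h.bw2, h.sw2, asc h.sw2, h.fw2, asc h.fw2,
    h.zw2, asc h.zw2, h.v2w, asc h.v2w, h.v1w, asc h.v1w, h.bw, asc h.bw, h.sw, asc h.sw, h.fw, asc h.fw, h.zw,
    asc h.zw, h.v1v2, asc h.v1v2, h.bv2, asc h.bv2, h.sv2, asc h.sv2, h.fv2, asc h.fv2, h.zv2, asc h.zv2,
    h.bv1, asc h.bv1, h.sv1, asc h.sv1, h.fv1, asc h.fv1, h.zv1, asc h.zv1, h.sb, asc h.sb, h.fb, asc h.fb,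
    h.zb, asc h.zb, h.fs, asc h.fs, h.zs, asc h.zs, h.zf, asc h.zf, M.mw2, asc M.mw2, M.mw, asc M.mw, M.mv2,
    asc M.mv2, M.mv1, asc M.mv1, M.mb, asc M.mb, M.ms, asc M.ms, M.mf, asc M.mf, M.mz, asc M.mz, M.mm,
    asc M.mm, M'.mw2, asc M'.mw2, M'.mw, asc M'.mw, M'.mv2, asc M'.mv2, M'.mv1, asc M'.mv1, M'.mb, asc M'.mb,
    M'.ms, asc M'.ms, M'.mf, asc M'.mf, M'.mz, asc M'.mz, M'.mm, asc M'.mm, M0.mw2, asc M0.mw2, M0.mw,
    asc M0.mw, M0.mv2, asc M0.mv2, M0.mv1, asc M0.mv1, M0.mb, asc M0.mb, M0.ms, asc M0.ms, M0.mf, asc M0.mf,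
    M0.mz, asc M0.mz, M0.mm, asc M0.mm, k.ww2, asc k.ww2, R.zr, asc R.zr, R.fr, asc R.fr, R.v1r, asc R.v1r,
    R.v2r, asc R.v2r, R.sr, asc R.sr, hw, asc hw, hw2, asc hw2, hmr, asc hmr, hm0, asc hm0, hm0', asc hm0',
    hm0r, asc hm0r, hrr, asc hrr]
      · apply hno v₂ s hs1
        rw [hpu, hu]
        simp only [mul_assoc, one_mul, mul_one, h.xx, asc h.xx, h.zz, asc h.zz, h.ff, asc h.ff, h.v11, asc h.v11,
    h.v22, asc h.v22, h.ss, asc h.ss, h.bb, asc h.bb, h.ww, asc h.ww, h.w22, asc h.w22, h.w2x, asc h.w2x, h.wx,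
    asc h.wx, h.v2x, asc h.v2x, h.v1x, asc h.v1x, h.bx, asc h.bx, h.sx, asc h.sx, h.fx, asc h.fx, h.zx,
    asc h.zx, h.v2w2, asc h.v2w2, h.v1w2, asc h.v1w2, h.bw2, asc h.bw2, h.sw2, asc h.sw2, h.fw2, asc h.fw2,
    h.zw2, asc h.zw2, h.v2w, asc h.v2w, h.v1w, asc h.v1w, h.bw, asc h.bw, h.sw, asc h.sw, h.fw, asc h.fw, h.zw,
    asc h.zw, h.v1v2, asc h.v1v2, h.bv2, asc h.bv2, h.sv2, asc h.sv2, h.fv2, asc h.fv2, h.zv2, asc h.zv2,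
    h.bv1, asc h.bv1, h.sv1, asc h.sv1, h.fv1, asc h.fv1, h.zv1, asc h.zv1, h.sb, asc h.sb, h.fb, asc h.fb,
    h.zb, asc h.zb, h.fs, asc h.fs, h.zs, asc h.zs, h.zf, asc h.zf, M.mw2, asc M.mw2, M.mw, asc M.mw, M.mv2,
    asc M.mv2, M.mv1, asc M.mv1, M.mb, asc M.mb, M.ms, asc M.ms, M.mf, asc M.mf, M.mz, asc M.mz, M.mm,
    asc M.mm, M'.mw2, asc M'.mw2, M'.mw, asc M'.mw, M'.mv2, asc M'.mv2, M'.mv1, asc M'.mv1, M'.mb, asc M'.mb,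
    M'.ms, asc M'.ms, M'.mf, asc M'.mf, M'.mz, asc M'.mz, M'.mm, asc M'.mm, M0.mw2, asc M0.mw2, M0.mw,
    asc M0.mw, M0.mv2, asc M0.mv2, M0.mv1, asc M0.mv1, M0.mb, asc M0.mb, M0.ms, asc M0.ms, M0.mf, asc M0.mf,
    M0.mz, asc M0.mz, M0.mm, asc M0.mm, k.ww2, asc k.ww2, R.zr, asc R.zr, R.fr, asc R.fr, R.v1r, asc R.v1r,
    R.v2r, asc R.v2r, R.sr, asc R.sr, hw, asc hw, hw2, asc hw2, hmr, asc hmr, hm0, asc hm0, hm0', asc hm0',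
    hm0r, asc hm0r, hrr, asc hrr]
      · apply hno v₂ s hs1
        rw [hpu, hu]
        simp only [mul_assoc, one_mul, mul_one, h.xx, asc h.xx, h.zz, asc h.zz, h.ff, asc h.ff, h.v11, asc h.v11,
    h.v22, asc h.v22, h.ss, asc h.ss, h.bb, asc h.bb, h.ww, asc h.ww, h.w22, asc h.w22, h.w2x, asc h.w2x, h.wx,
    asc h.wx, h.v2x, asc h.v2x, h.v1x, asc h.v1x, h.bx, asc h.bx, h.sx, asc h.sx, h.fx, asc h.fx, h.zx,
    asc h.zx, h.v2w2, asc h.v2w2, h.v1w2, asc h.v1w2, h.bw2, asc h.bw2, h.sw2, asc h.sw2, h.fw2, asc h.fw2,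
    h.zw2, asc h.zw2, h.v2w, asc h.v2w, h.v1w, asc h.v1w, h.bw, asc h.bw, h.sw, asc h.sw, h.fw, asc h.fw, h.zw,
    asc h.zw, h.v1v2, asc h.v1v2, h.bv2, asc h.bv2, h.sv2, asc h.sv2, h.fv2, asc h.fv2, h.zv2, asc h.zv2,
    h.bv1, asc h.bv1, h.sv1, asc h.sv1, h.fv1, asc h.fv1, h.zv1, asc h.zv1, h.sb, asc h.sb, h.fb, asc h.fb,
    h.zb, asc h.zb, h.fs, asc h.fs, h.zs, asc h.zs, h.zf, asc h.zf, M.mw2, asc M.mw2, M.mw, asc M.mw, M.mv2,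
    asc M.mv2, M.mv1, asc M.mv1, M.mb, asc M.mb, M.ms, asc M.ms, M.mf, asc M.mf, M.mz, asc M.mz, M.mm,
    asc M.mm, M'.mw2, asc M'.mw2, M'.mw, asc M'.mw, M'.mv2, asc M'.mv2, M'.mv1, asc M'.mv1, M'.mb, asc M'.mb,
    M'.ms, asc M'.ms, M'.mf, asc M'.mf, M'.mz, asc M'.mz, M'.mm, asc M'.mm, M0.mw2, asc M0.mw2, M0.mw,
    asc M0.mw, M0.mv2, asc M0.mv2, M0.mv1, asc M0.mv1, M0.mb, asc M0.mb, M0.ms, asc M0.ms, M0.mf, asc M0.mf,
    M0.mz, asc M0.mz, M0.mm, asc M0.mm, k.ww2, asc k.ww2, R.zr, asc R.zr, R.fr, asc R.fr, R.v1r, asc R.v1r,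
    R.v2r, asc R.v2r, R.sr, asc R.sr, hw, asc hw, hw2, asc hw2, hmr, asc hmr, hm0, asc hm0, hm0', asc hm0',
    hm0r, asc hm0r, hrr, asc hrr]
      · apply hno v₂ (s * z) hsz
        rw [hpu, hu]
        simp only [mul_assoc, one_mul, mul_one, h.xx, asc h.xx, h.zz, asc h.zz, h.ff, asc h.ff, h.v11, asc h.v11,
    h.v22, asc h.v22, h.ss, asc h.ss, h.bb, asc h.bb, h.ww, asc h.ww, h.w22, asc h.w22, h.w2x, asc h.w2x, h.wx,
    asc h.wx, h.v2x, asc h.v2x, h.v1x, asc h.v1x, h.bx, asc h.bx, h.sx, asc h.sx, h.fx, asc h.fx, h.zx,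
    asc h.zx, h.v2w2, asc h.v2w2, h.v1w2, asc h.v1w2, h.bw2, asc h.bw2, h.sw2, asc h.sw2, h.fw2, asc h.fw2,
    h.zw2, asc h.zw2, h.v2w, asc h.v2w, h.v1w, asc h.v1w, h.bw, asc h.bw, h.sw, asc h.sw, h.fw, asc h.fw, h.zw,
    asc h.zw, h.v1v2, asc h.v1v2, h.bv2, asc h.bv2, h.sv2, asc h.sv2, h.fv2, asc h.fv2, h.zv2, asc h.zv2,
    h.bv1, asc h.bv1, h.sv1, asc h.sv1, h.fv1, asc h.fv1, h.zv1, asc h.zv1, h.sb, asc h.sb, h.fb, asc h.fb,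
    h.zb, asc h.zb, h.fs, asc h.fs, h.zs, asc h.zs, h.zf, asc h.zf, M.mw2, asc M.mw2, M.mw, asc M.mw, M.mv2,
    asc M.mv2, M.mv1, asc M.mv1, M.mb, asc M.mb, M.ms, asc M.ms, M.mf, asc M.mf, M.mz, asc M.mz, M.mm,
    asc M.mm, M'.mw2, asc M'.mw2, M'.mw, asc M'.mw, M'.mv2, asc M'.mv2, M'.mv1, asc M'.mv1, M'.mb, asc M'.mb,
    M'.ms, asc M'.ms, M'.mf, asc M'.mf, M'.mz, asc M'.mz, M'.mm, asc M'.mm, M0.mw2, asc M0.mw2, M0.mw,
    asc M0.mw, M0.mv2, asc M0.mv2, M0.mv1, asc M0.mv1, M0.mb, asc M0.mb, M0.ms, asc M0.ms, M0.mf, asc M0.mf,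
    M0.mz, asc M0.mz, M0.mm, asc M0.mm, k.ww2, asc k.ww2, R.zr, asc R.zr, R.fr, asc R.fr, R.v1r, asc R.v1r,
    R.v2r, asc R.v2r, R.sr, asc R.sr, hw, asc hw, hw2, asc hw2, hmr, asc hmr, hm0, asc hm0, hm0', asc hm0',
    hm0r, asc hm0r, hrr, asc hrr]
    · rcases hu with hu | hu | hu | hu
      · exfalso
        apply hno v₁ z h.z1
        rw [hpu, hu]
        simp only [mul_assoc, one_mul, mul_one, h.xx, asc h.xx, h.zz, asc h.zz, h.ff, asc h.ff, h.v11, asc h.v11,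
    h.v22, asc h.v22, h.ss, asc h.ss, h.bb, asc h.bb, h.ww, asc h.ww, h.w22, asc h.w22, h.w2x, asc h.w2x, h.wx,
    asc h.wx, h.v2x, asc h.v2x, h.v1x, asc h.v1x, h.bx, asc h.bx, h.sx, asc h.sx, h.fx, asc h.fx, h.zx,
    asc h.zx, h.v2w2, asc h.v2w2, h.v1w2, asc h.v1w2, h.bw2, asc h.bw2, h.sw2, asc h.sw2, h.fw2, asc h.fw2,
    h.zw2, asc h.zw2, h.v2w, asc h.v2w, h.v1w, asc h.v1w, h.bw, asc h.bw, h.sw, asc h.sw, h.fw, asc h.fw, h.zw,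
    asc h.zw, h.v1v2, asc h.v1v2, h.bv2, asc h.bv2, h.sv2, asc h.sv2, h.fv2, asc h.fv2, h.zv2, asc h.zv2,
    h.bv1, asc h.bv1, h.sv1, asc h.sv1, h.fv1, asc h.fv1, h.zv1, asc h.zv1, h.sb, asc h.sb, h.fb, asc h.fb,
    h.zb, asc h.zb, h.fs, asc h.fs, h.zs, asc h.zs, h.zf, asc h.zf, M.mw2, asc M.mw2, M.mw, asc M.mw, M.mv2,
    asc M.mv2, M.mv1, asc M.mv1, M.mb, asc M.mb, M.ms, asc M.ms, M.mf, asc M.mf, M.mz, asc M.mz, M.mm,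
    asc M.mm, M'.mw2, asc M'.mw2, M'.mw, asc M'.mw, M'.mv2, asc M'.mv2, M'.mv1, asc M'.mv1, M'.mb, asc M'.mb,
    M'.ms, asc M'.ms, M'.mf, asc M'.mf, M'.mz, asc M'.mz, M'.mm, asc M'.mm, M0.mw2, asc M0.mw2, M0.mw,
    asc M0.mw, M0.mv2, asc M0.mv2, M0.mv1, asc M0.mv1, M0.mb, asc M0.mb, M0.ms, asc M0.ms, M0.mf, asc M0.mf,
    M0.mz, asc M0.mz, M0.mm, asc M0.mm, k.ww2, asc k.ww2, R.zr, asc R.zr, R.fr, asc R.fr, R.v1r, asc R.v1r,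
    R.v2r, asc R.v2r, R.sr, asc R.sr, hw, asc hw, hw2, asc hw2, hmr, asc hmr, hm0, asc hm0, hm0', asc hm0',
    hm0r, asc hm0r, hrr, asc hrr]
      · exact ⟨u, Or.inl hu, Or.inr hpu⟩
      · exact ⟨u, Or.inr hu, Or.inr hpu⟩
      · exfalso
        apply hno v₁ z h.z1
        rw [hpu, hu]
        simp only [mul_assoc, one_mul, mul_one, h.xx, asc h.xx, h.zz, asc h.zz, h.ff, asc h.ff, h.v11, asc h.v11,
    h.v22, asc h.v22, h.ss, asc h.ss, h.bb, asc h.bb, h.ww, asc h.ww, h.w22, asc h.w22, h.w2x, asc h.w2x, h.wx,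
    asc h.wx, h.v2x, asc h.v2x, h.v1x, asc h.v1x, h.bx, asc h.bx, h.sx, asc h.sx, h.fx, asc h.fx, h.zx,
    asc h.zx, h.v2w2, asc h.v2w2, h.v1w2, asc h.v1w2, h.bw2, asc h.bw2, h.sw2, asc h.sw2, h.fw2, asc h.fw2,
    h.zw2, asc h.zw2, h.v2w, asc h.v2w, h.v1w, asc h.v1w, h.bw, asc h.bw, h.sw, asc h.sw, h.fw, asc h.fw, h.zw,
    asc h.zw, h.v1v2, asc h.v1v2, h.bv2, asc h.bv2, h.sv2, asc h.sv2, h.fv2, asc h.fv2, h.zv2, asc h.zv2,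
    h.bv1, asc h.bv1, h.sv1, asc h.sv1, h.fv1, asc h.fv1, h.zv1, asc h.zv1, h.sb, asc h.sb, h.fb, asc h.fb,
    h.zb, asc h.zb, h.fs, asc h.fs, h.zs, asc h.zs, h.zf, asc h.zf, M.mw2, asc M.mw2, M.mw, asc M.mw, M.mv2,
    asc M.mv2, M.mv1, asc M.mv1, M.mb, asc M.mb, M.ms, asc M.ms, M.mf, asc M.mf, M.mz, asc M.mz, M.mm,
    asc M.mm, M'.mw2, asc M'.mw2, M'.mw, asc M'.mw, M'.mv2, asc M'.mv2, M'.mv1, asc M'.mv1, M'.mb, asc M'.mb,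
    M'.ms, asc M'.ms, M'.mf, asc M'.mf, M'.mz, asc M'.mz, M'.mm, asc M'.mm, M0.mw2, asc M0.mw2, M0.mw,
    asc M0.mw, M0.mv2, asc M0.mv2, M0.mv1, asc M0.mv1, M0.mb, asc M0.mb, M0.ms, asc M0.ms, M0.mf, asc M0.mf,
    M0.mz, asc M0.mz, M0.mm, asc M0.mm, k.ww2, asc k.ww2, R.zr, asc R.zr, R.fr, asc R.fr, R.v1r, asc R.v1r,
    R.v2r, asc R.v2r, R.sr, asc R.sr, hw, asc hw, hw2, asc hw2, hmr, asc hmr, hm0, asc hm0, hm0', asc hm0',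
    hm0r, asc hm0r, hrr, asc hrr]
  obtain ⟨u', hu', hpu'⟩ := main
  have hgL : g ∈ h.L := by
    rcases hg with hg | hg <;> rw [hg]
    · exact one_mem _
    · exact h.zL
  have Mg := h.mr hgL
  have hgm : m * g = g * m := k.comm_LL hm hgL
  have hgm' : m' * g = g * m' := k.comm_LL hm' hgL
  have hgr : g * r = r * g := by
    rcases hg with hg | hg <;> rw [hg]
    · rw [one_mul, mul_one]
    · exact R.zr
  refine ⟨v₁ * (v₂ * f), mul_mem k.v1m (mul_mem k.v2m (k.Lm h.fL)), ?_⟩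
  have hsqe : v₁ * (v₂ * f) * (v₁ * (v₂ * f)) = z := by
    simp only [mul_assoc, one_mul, mul_one, h.xx, asc h.xx, h.zz, asc h.zz, h.ff, asc h.ff, h.v11, asc h.v11,
    h.v22, asc h.v22, h.ss, asc h.ss, h.bb, asc h.bb, h.ww, asc h.ww, h.w22, asc h.w22, h.w2x, asc h.w2x, h.wx,
    asc h.wx, h.v2x, asc h.v2x, h.v1x, asc h.v1x, h.bx, asc h.bx, h.sx, asc h.sx, h.fx, asc h.fx, h.zx,
    asc h.zx, h.v2w2, asc h.v2w2, h.v1w2, asc h.v1w2, h.bw2, asc h.bw2, h.sw2, asc h.sw2, h.fw2, asc h.fw2,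
    h.zw2, asc h.zw2, h.v2w, asc h.v2w, h.v1w, asc h.v1w, h.bw, asc h.bw, h.sw, asc h.sw, h.fw, asc h.fw, h.zw,
    asc h.zw, h.v1v2, asc h.v1v2, h.bv2, asc h.bv2, h.sv2, asc h.sv2, h.fv2, asc h.fv2, h.zv2, asc h.zv2,
    h.bv1, asc h.bv1, h.sv1, asc h.sv1, h.fv1, asc h.fv1, h.zv1, asc h.zv1, h.sb, asc h.sb, h.fb, asc h.fb,
    h.zb, asc h.zb, h.fs, asc h.fs, h.zs, asc h.zs, h.zf, asc h.zf]
  have hc1 : v₁ * (v₂ * f) * (r * p) = r * p * (v₁ * (v₂ * f)) := by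
    rcases hu' with hu' | hu' <;> rcases hpu' with hpu' | hpu' <;> rw [hpu', hu'] <;>
      simp only [mul_assoc, one_mul, mul_one, h.xx, asc h.xx, h.zz, asc h.zz, h.ff, asc h.ff, h.v11, asc h.v11,
    h.v22, asc h.v22, h.ss, asc h.ss, h.bb, asc h.bb, h.ww, asc h.ww, h.w22, asc h.w22, h.w2x, asc h.w2x, h.wx,
    asc h.wx, h.v2x, asc h.v2x, h.v1x, asc h.v1x, h.bx, asc h.bx, h.sx, asc h.sx, h.fx, asc h.fx, h.zx,
    asc h.zx, h.v2w2, asc h.v2w2, h.v1w2, asc h.v1w2, h.bw2, asc h.bw2, h.sw2, asc h.sw2, h.fw2, asc h.fw2,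
    h.zw2, asc h.zw2, h.v2w, asc h.v2w, h.v1w, asc h.v1w, h.bw, asc h.bw, h.sw, asc h.sw, h.fw, asc h.fw, h.zw,
    asc h.zw, h.v1v2, asc h.v1v2, h.bv2, asc h.bv2, h.sv2, asc h.sv2, h.fv2, asc h.fv2, h.zv2, asc h.zv2,
    h.bv1, asc h.bv1, h.sv1, asc h.sv1, h.fv1, asc h.fv1, h.zv1, asc h.zv1, h.sb, asc h.sb, h.fb, asc h.fb,
    h.zb, asc h.zb, h.fs, asc h.fs, h.zs, asc h.zs, h.zf, asc h.zf, M.mw2, asc M.mw2, M.mw, asc M.mw, M.mv2,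
    asc M.mv2, M.mv1, asc M.mv1, M.mb, asc M.mb, M.ms, asc M.ms, M.mf, asc M.mf, M.mz, asc M.mz, M.mm,
    asc M.mm, M'.mw2, asc M'.mw2, M'.mw, asc M'.mw, M'.mv2, asc M'.mv2, M'.mv1, asc M'.mv1, M'.mb, asc M'.mb,
    M'.ms, asc M'.ms, M'.mf, asc M'.mf, M'.mz, asc M'.mz, M'.mm, asc M'.mm, M0.mw2, asc M0.mw2, M0.mw,
    asc M0.mw, M0.mv2, asc M0.mv2, M0.mv1, asc M0.mv1, M0.mb, asc M0.mb, M0.ms, asc M0.ms, M0.mf, asc M0.mf,
    M0.mz, asc M0.mz, M0.mm, asc M0.mm, k.ww2, asc k.ww2, R.zr, asc R.zr, R.fr, asc R.fr, R.v1r, asc R.v1r,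
    R.v2r, asc R.v2r, R.sr, asc R.sr, hw, asc hw, hw2, asc hw2, hmr, asc hmr, hm0, asc hm0, hm0', asc hm0',
    hm0r, asc hm0r, hrr, asc hrr]
  have hm0g : m₀ = s * g ∨ m₀ = s * (g * z) := by
    rcases hm0s with e | e <;> rcases hg with hg | hg <;> rw [e, hg]
    · left; rw [mul_one]
    · right; rw [h.zz, mul_one]
    · right; rw [one_mul]
    · left; rfl
  rcases hm0g with e0 | e0
  · have hww : w * w₂ = w₂ * (w * (s * g)) := by rw [← e0]; exact k.ww2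
    refine ⟨w * (w₂ * b), mul_mem k.wm (mul_mem k.w2m (k.Lm h.bL)), hc1, ?_, hsqe, ?_⟩
    · rcases hu' with hu' | hu' <;> rcases hpu' with hpu' | hpu' <;> rw [hpu', hu'] <;>
        simp only [mul_assoc, one_mul, mul_one, h.xx, asc h.xx, h.zz, asc h.zz, h.ff, asc h.ff, h.v11, asc h.v11,
    h.v22, asc h.v22, h.ss, asc h.ss, h.bb, asc h.bb, h.ww, asc h.ww, h.w22, asc h.w22, h.w2x, asc h.w2x, h.wx,
    asc h.wx, h.v2x, asc h.v2x, h.v1x, asc h.v1x, h.bx, asc h.bx, h.sx, asc h.sx, h.fx, asc h.fx, h.zx,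
    asc h.zx, h.v2w2, asc h.v2w2, h.v1w2, asc h.v1w2, h.bw2, asc h.bw2, h.sw2, asc h.sw2, h.fw2, asc h.fw2,
    h.zw2, asc h.zw2, h.v2w, asc h.v2w, h.v1w, asc h.v1w, h.bw, asc h.bw, h.sw, asc h.sw, h.fw, asc h.fw, h.zw,
    asc h.zw, h.v1v2, asc h.v1v2, h.bv2, asc h.bv2, h.sv2, asc h.sv2, h.fv2, asc h.fv2, h.zv2, asc h.zv2,
    h.bv1, asc h.bv1, h.sv1, asc h.sv1, h.fv1, asc h.fv1, h.zv1, asc h.zv1, h.sb, asc h.sb, h.fb, asc h.fb,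
    h.zb, asc h.zb, h.fs, asc h.fs, h.zs, asc h.zs, h.zf, asc h.zf, M.mw2, asc M.mw2, M.mw, asc M.mw, M.mv2,
    asc M.mv2, M.mv1, asc M.mv1, M.mb, asc M.mb, M.ms, asc M.ms, M.mf, asc M.mf, M.mz, asc M.mz, M.mm,
    asc M.mm, M'.mw2, asc M'.mw2, M'.mw, asc M'.mw, M'.mv2, asc M'.mv2, M'.mv1, asc M'.mv1, M'.mb, asc M'.mb,
    M'.ms, asc M'.ms, M'.mf, asc M'.mf, M'.mz, asc M'.mz, M'.mm, asc M'.mm, Mg.mw2, asc Mg.mw2, Mg.mw,
    asc Mg.mw, Mg.mv2, asc Mg.mv2, Mg.mv1, asc Mg.mv1, Mg.mb, asc Mg.mb, Mg.ms, asc Mg.ms, Mg.mf, asc Mg.mf,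
    Mg.mz, asc Mg.mz, Mg.mm, asc Mg.mm, hww, asc hww, R.zr, asc R.zr, R.fr, asc R.fr, R.v1r, asc R.v1r, R.v2r,
    asc R.v2r, R.sr, asc R.sr, R.br, asc R.br, hw, asc hw, hw2, asc hw2, hmr, asc hmr, hgm, asc hgm, hgm',
    asc hgm', hgr, asc hgr]
    · rw [e0]
      simp only [mul_assoc, one_mul, mul_one, h.xx, asc h.xx, h.zz, asc h.zz, h.ff, asc h.ff, h.v11, asc h.v11,
    h.v22, asc h.v22, h.ss, asc h.ss, h.bb, asc h.bb, h.ww, asc h.ww, h.w22, asc h.w22, h.w2x, asc h.w2x, h.wx,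
    asc h.wx, h.v2x, asc h.v2x, h.v1x, asc h.v1x, h.bx, asc h.bx, h.sx, asc h.sx, h.fx, asc h.fx, h.zx,
    asc h.zx, h.v2w2, asc h.v2w2, h.v1w2, asc h.v1w2, h.bw2, asc h.bw2, h.sw2, asc h.sw2, h.fw2, asc h.fw2,
    h.zw2, asc h.zw2, h.v2w, asc h.v2w, h.v1w, asc h.v1w, h.bw, asc h.bw, h.sw, asc h.sw, h.fw, asc h.fw, h.zw,
    asc h.zw, h.v1v2, asc h.v1v2, h.bv2, asc h.bv2, h.sv2, asc h.sv2, h.fv2, asc h.fv2, h.zv2, asc h.zv2,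
    h.bv1, asc h.bv1, h.sv1, asc h.sv1, h.fv1, asc h.fv1, h.zv1, asc h.zv1, h.sb, asc h.sb, h.fb, asc h.fb,
    h.zb, asc h.zb, h.fs, asc h.fs, h.zs, asc h.zs, h.zf, asc h.zf, M.mw2, asc M.mw2, M.mw, asc M.mw, M.mv2,
    asc M.mv2, M.mv1, asc M.mv1, M.mb, asc M.mb, M.ms, asc M.ms, M.mf, asc M.mf, M.mz, asc M.mz, M.mm,
    asc M.mm, M'.mw2, asc M'.mw2, M'.mw, asc M'.mw, M'.mv2, asc M'.mv2, M'.mv1, asc M'.mv1, M'.mb, asc M'.mb,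
    M'.ms, asc M'.ms, M'.mf, asc M'.mf, M'.mz, asc M'.mz, M'.mm, asc M'.mm, Mg.mw2, asc Mg.mw2, Mg.mw,
    asc Mg.mw, Mg.mv2, asc Mg.mv2, Mg.mv1, asc Mg.mv1, Mg.mb, asc Mg.mb, Mg.ms, asc Mg.ms, Mg.mf, asc Mg.mf,
    Mg.mz, asc Mg.mz, Mg.mm, asc Mg.mm, hww, asc hww, R.zr, asc R.zr, R.fr, asc R.fr, R.v1r, asc R.v1r, R.v2r,
    asc R.v2r, R.sr, asc R.sr, R.br, asc R.br, hw, asc hw, hw2, asc hw2, hmr, asc hmr, hgm, asc hgm, hgm',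
    asc hgm', hgr, asc hgr]
  · have hww : w * w₂ = w₂ * (w * (s * (g * z))) := by rw [← e0]; exact k.ww2
    refine ⟨w * (w₂ * (b * f)), mul_mem k.wm (mul_mem k.w2m (k.Lm (mul_mem h.bL h.fL))), hc1, ?_, hsqe, ?_⟩
    · rcases hu' with hu' | hu' <;> rcases hpu' with hpu' | hpu' <;> rw [hpu', hu'] <;>
        simp only [mul_assoc, one_mul, mul_one, h.xx, asc h.xx, h.zz, asc h.zz, h.ff, asc h.ff, h.v11, asc h.v11,
    h.v22, asc h.v22, h.ss, asc h.ss, h.bb, asc h.bb, h.ww, asc h.ww, h.w22, asc h.w22, h.w2x, asc h.w2x, h.wx,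
    asc h.wx, h.v2x, asc h.v2x, h.v1x, asc h.v1x, h.bx, asc h.bx, h.sx, asc h.sx, h.fx, asc h.fx, h.zx,
    asc h.zx, h.v2w2, asc h.v2w2, h.v1w2, asc h.v1w2, h.bw2, asc h.bw2, h.sw2, asc h.sw2, h.fw2, asc h.fw2,
    h.zw2, asc h.zw2, h.v2w, asc h.v2w, h.v1w, asc h.v1w, h.bw, asc h.bw, h.sw, asc h.sw, h.fw, asc h.fw, h.zw,
    asc h.zw, h.v1v2, asc h.v1v2, h.bv2, asc h.bv2, h.sv2, asc h.sv2, h.fv2, asc h.fv2, h.zv2, asc h.zv2,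
    h.bv1, asc h.bv1, h.sv1, asc h.sv1, h.fv1, asc h.fv1, h.zv1, asc h.zv1, h.sb, asc h.sb, h.fb, asc h.fb,
    h.zb, asc h.zb, h.fs, asc h.fs, h.zs, asc h.zs, h.zf, asc h.zf, M.mw2, asc M.mw2, M.mw, asc M.mw, M.mv2,
    asc M.mv2, M.mv1, asc M.mv1, M.mb, asc M.mb, M.ms, asc M.ms, M.mf, asc M.mf, M.mz, asc M.mz, M.mm,
    asc M.mm, M'.mw2, asc M'.mw2, M'.mw, asc M'.mw, M'.mv2, asc M'.mv2, M'.mv1, asc M'.mv1, M'.mb, asc M'.mb,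
    M'.ms, asc M'.ms, M'.mf, asc M'.mf, M'.mz, asc M'.mz, M'.mm, asc M'.mm, Mg.mw2, asc Mg.mw2, Mg.mw,
    asc Mg.mw, Mg.mv2, asc Mg.mv2, Mg.mv1, asc Mg.mv1, Mg.mb, asc Mg.mb, Mg.ms, asc Mg.ms, Mg.mf, asc Mg.mf,
    Mg.mz, asc Mg.mz, Mg.mm, asc Mg.mm, hww, asc hww, R.zr, asc R.zr, R.fr, asc R.fr, R.v1r, asc R.v1r, R.v2r,
    asc R.v2r, R.sr, asc R.sr, R.br, asc R.br, hw, asc hw, hw2, asc hw2, hmr, asc hmr, hgm, asc hgm, hgm',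
    asc hgm', hgr, asc hgr]
    · rw [e0]
      simp only [mul_assoc, one_mul, mul_one, h.xx, asc h.xx, h.zz, asc h.zz, h.ff, asc h.ff, h.v11, asc h.v11,
    h.v22, asc h.v22, h.ss, asc h.ss, h.bb, asc h.bb, h.ww, asc h.ww, h.w22, asc h.w22, h.w2x, asc h.w2x, h.wx,
    asc h.wx, h.v2x, asc h.v2x, h.v1x, asc h.v1x, h.bx, asc h.bx, h.sx, asc h.sx, h.fx, asc h.fx, h.zx,
    asc h.zx, h.v2w2, asc h.v2w2, h.v1w2, asc h.v1w2, h.bw2, asc h.bw2, h.sw2, asc h.sw2, h.fw2, asc h.fw2,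
    h.zw2, asc h.zw2, h.v2w, asc h.v2w, h.v1w, asc h.v1w, h.bw, asc h.bw, h.sw, asc h.sw, h.fw, asc h.fw, h.zw,
    asc h.zw, h.v1v2, asc h.v1v2, h.bv2, asc h.bv2, h.sv2, asc h.sv2, h.fv2, asc h.fv2, h.zv2, asc h.zv2,
    h.bv1, asc h.bv1, h.sv1, asc h.sv1, h.fv1, asc h.fv1, h.zv1, asc h.zv1, h.sb, asc h.sb, h.fb, asc h.fb,
    h.zb, asc h.zb, h.fs, asc h.fs, h.zs, asc h.zs, h.zf, asc h.zf, M.mw2, asc M.mw2, M.mw, asc M.mw, M.mv2,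
    asc M.mv2, M.mv1, asc M.mv1, M.mb, asc M.mb, M.ms, asc M.ms, M.mf, asc M.mf, M.mz, asc M.mz, M.mm,
    asc M.mm, M'.mw2, asc M'.mw2, M'.mw, asc M'.mw, M'.mv2, asc M'.mv2, M'.mv1, asc M'.mv1, M'.mb, asc M'.mb,
    M'.ms, asc M'.ms, M'.mf, asc M'.mf, M'.mz, asc M'.mz, M'.mm, asc M'.mm, Mg.mw2, asc Mg.mw2, Mg.mw,
    asc Mg.mw, Mg.mv2, asc Mg.mv2, Mg.mv1, asc Mg.mv1, Mg.mb, asc Mg.mb, Mg.ms, asc Mg.ms, Mg.mf, asc Mg.mf,
    Mg.mz, asc Mg.mz, Mg.mm, asc Mg.mm, hww, asc hww, R.zr, asc R.zr, R.fr, asc R.fr, R.v1r, asc R.v1r, R.v2r,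
    asc R.v2r, R.sr, asc R.sr, R.br, asc R.br, hw, asc hw, hw2, asc hw2, hmr, asc hmr, hgm, asc hgm, hgm',
    asc hgm', hgr, asc hgr]

end B2

end Cfsg.Agent.OddHalf.D5.SixAut.Zero

end
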